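import Mathlib
import Cfsg.Agent.Classical.AutPSL3
import Cfsg.Agent.Classical.PSL2Basic
import Cfsg.Agent.CIT.F1

/-! Automorphisms of `PSL₂(q)` of prime power order centralizing a Sylow subgroup. -/

set_option autoImplicit false

namespace Cfsg.Agent.Gp.AbS

open Subgroup Matrix Cfsg.Agent.Classical Cfsg.Agent.Classical.AutPSL Cfsg.Agent.Classical.AutPSL2
  Cfsg.Agent.Classical.SL2Basic Cfsg.Agent.Classical.Transv
open scoped MatrixGroups

theorem red {G : Type*} [Group G] [Finite G] {r k : ℕ} [Fact r.Prime] (R : Sylow r G)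
    {α : MulAut G} (hα : α ^ r ^ k = 1) (hR : ∀ x ∈ (R : Subgroup G), α x = x) {V : Subgroup G}
    (hV : IsPGroup r V) (H : ∀ β : MulAut G, β ^ r ^ k = 1 → (∀ x ∈ V, β x = x) → β ∈ Inn G) :
    α ∈ Inn G := by
  obtain ⟨Q, hQ⟩ := hV.exists_le_sylow
  obtain ⟨g, rfl⟩ := MulAction.exists_smul_eq G R Q
  have h := H (MulAut.conj g * α * (MulAut.conj g)⁻¹) (by rw [conj_pow, hα]; simp) fun x hx => by
    obtain ⟨y, hy, rfl⟩ : ∃ y ∈ (R : Subgroup G), MulAut.conj g y = x := hQ hx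
    simp only [MulAut.mul_apply, MulAut.inv_apply, MulEquiv.symm_apply_apply, hR y hy]
  have h2 := (innNormal G).conj_mem _ h (MulAut.conj g)⁻¹
  simpa [mul_assoc] using h2

variable {F : Type*} [Field F] [Fintype F]

theorem decomp (β : MulAut PSL(2, F)) {n : ℕ} (h : β ^ n = 1) :
    ∃ (g : GL (Fin 2) F) (σ : F ≃+* F), σ ^ n = 1 ∧ β = dA g * fA (Fin 2) σ := by
  obtain ⟨ρ, h1, h2⟩ := exists_hom_two (F := F)
  obtain ⟨g, hg⟩ : β * (fA (Fin 2) (ρ β))⁻¹ ∈ (dA : GL (Fin 2) F →* _).range := by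
    rw [← h1, MonoidHom.mem_ker, map_mul, map_inv, h2, mul_inv_cancel]
  exact ⟨g, ρ β, by rw [← map_pow, h, map_one], by rw [hg]; group⟩

omit [Fintype F] in
theorem fix {g : GL (Fin 2) F} {σ : F ≃+* F} {s : SL(2, F)}
    (h : (dA g * fA (Fin 2) σ) (s : PSL(2, F)) = s) :
    ∃ ε : F, (ε = 1 ∨ ε = -1) ∧ g.1 * s.1.map σ = ε • (s.1 * g.1) := by
  rw [MulAut.mul_apply, fA_mk, dA_mk, mk_eq_mk_iff, conjAut_eq_iff, conjAut_eq_iff] at h
  rcases h with h | h
  · exact ⟨1, .inl rfl, by rw [one_smul]; exact h⟩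
  · exact ⟨-1, .inr rfl, by rw [neg_one_smul, ← neg_mul]; exact h⟩

omit [Fintype F] in
theorem fix' {g : GL (Fin 2) F} {σ : F ≃+* F} {a b c d : F} {e : a * d - b * c = 1}
    (h : (dA g * fA (Fin 2) σ) (mkSL a b c d e : SL(2, F)) = (mkSL a b c d e : SL(2, F))) :
    ∃ ε : F, (ε = 1 ∨ ε = -1) ∧
      g.1 0 0 * σ a + g.1 0 1 * σ c = ε * (a * g.1 0 0 + b * g.1 1 0) ∧
      g.1 0 0 * σ b + g.1 0 1 * σ d = ε * (a * g.1 0 1 + b * g.1 1 1) ∧
      g.1 1 0 * σ a + g.1 1 1 * σ c = ε * (c * g.1 0 0 + d * g.1 1 0) ∧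
      g.1 1 0 * σ b + g.1 1 1 * σ d = ε * (c * g.1 0 1 + d * g.1 1 1) := by
  obtain ⟨ε, h1, h2⟩ := fix h
  have k := fun i j => congrFun (congrFun h2 i) j
  simp only [Matrix.mul_apply, Fin.sum_univ_two, Matrix.smul_apply, smul_eq_mul, map_apply] at k
  exact ⟨ε, h1, k 0 0, k 0 1, k 1 0, k 1 1⟩

omit [Fintype F] in
theorem inn_of_sq {g : GL (Fin 2) F} {c : F} (h : g.1.det = c ^ 2) :
    (dA g : MulAut PSL(2, F)) ∈ Inn PSL(2, F) := by
  have hc : c ≠ 0 := by
    rintro rfl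
    exact (GeneralLinearGroup.det g).ne_zero (by simpa using h)
  exact dA_mem_inn_iff.2 ⟨Units.mk0 c hc, Units.ext (by simpa using h)⟩

theorem case_p {β : MulAut PSL(2, F)} {n : ℕ} (hβ : β ^ n = 1)
    (h : ∀ c : F, β (upper c : SL(2, F)) = (upper c : SL(2, F))) : β ∈ Inn PSL(2, F) := by
  obtain ⟨g, σ, -, rfl⟩ := decomp β hβ
  have hd : g.1 0 0 * g.1 1 1 - g.1 0 1 * g.1 1 0 ≠ 0 := by
    rw [← det_fin_two]; exact (GeneralLinearGroup.det g).ne_zero
  have k : ∀ c : F, g.1 0 0 = g.1 0 0 + c * g.1 1 0 ∧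
      g.1 0 0 * σ c + g.1 0 1 = g.1 0 1 + c * g.1 1 1 := fun c => by
    obtain ⟨ε, h1, e00, e01, e10, -⟩ := fix' (h c)
    simp only [map_one, map_zero] at e00 e01 e10
    obtain rfl | rfl := h1
    · exact ⟨by linear_combination e00, by linear_combination e01⟩
    · by_cases h2 : (2 : F) = 0
      · exact ⟨by linear_combination e00 - (g.1 0 0 + c * g.1 1 0) * h2,
          by linear_combination e01 - (g.1 0 1 + c * g.1 1 1) * h2⟩
      · have a1 : g.1 1 0 = 0 := mul_left_cancel₀ h2 (by linear_combination e10)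
        have a2 : g.1 0 0 = 0 := mul_left_cancel₀ h2 (by linear_combination e00 - c * a1)
        exact absurd (by rw [a1, a2]; ring) hd
  have a1 : g.1 1 0 = 0 := by linear_combination - (k 1).1
  have a2 : g.1 0 0 = g.1 1 1 := by have := (k 1).2; rw [map_one] at this; linear_combination this
  have a3 : g.1 0 0 ≠ 0 := fun e => hd (by rw [a1, e]; ring)
  have a4 : σ = 1 := RingEquiv.ext fun c => mul_left_cancel₀ a3 (by
    have := (k c).2
    change _ = _ * c
    linear_combination this - c * a2)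
  rw [a4, map_one, mul_one]
  exact inn_of_sq (c := g.1 0 0) (by rw [det_fin_two, a1, ← a2]; ring)

omit [Fintype F] in
theorem case_two (h2 : (2 : F) ≠ 0) {a b : F} (hab : a ^ 2 + b ^ 2 = -1) {g : GL (Fin 2) F}
    (h1 : dA g (mkSL 0 1 (-1) 0 (by ring) : SL(2, F)) = (mkSL 0 1 (-1) 0 (by ring) : SL(2, F)))
    (h3 : dA g (mkSL a b b (-a) (by linear_combination -hab) : SL(2, F)) =
      (mkSL a b b (-a) (by linear_combination -hab) : SL(2, F))) :
    (dA g : MulAut PSL(2, F)) ∈ Inn PSL(2, F) := by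
  rw [← mul_one (dA g), ← map_one (fA (Fin 2))] at h1 h3
  obtain ⟨ε, hε, e00, e01, -⟩ := fix' h1
  obtain ⟨δ, hδ, f00, f01, f10, f11⟩ := fix' h3
  simp only [RingAut.one_eq_refl, RingEquiv.refl_apply] at e00 e01 f00 f01 f10 f11
  have z : ∀ y : F, a * y = 0 → b * y = 0 → y = 0 := fun y u v => by
    linear_combination y * hab - a * u - b * v
  obtain rfl | rfl := hε
  · have a1 : g.1 1 0 = - g.1 0 1 := by linear_combination - e00
    have a2 : g.1 1 1 = g.1 0 0 := by linear_combination - e01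
    rw [a1] at f00 f10 f11
    rw [a2] at f01 f10 f11
    obtain rfl | rfl := hδ
    · have := z (g.1 0 1) (mul_left_cancel₀ h2 (by linear_combination - f01))
        (mul_left_cancel₀ h2 (by linear_combination f00))
      exact inn_of_sq (c := g.1 0 0) (by rw [det_fin_two, a1, a2, this]; ring)
    · have := z (g.1 0 0) (mul_left_cancel₀ h2 (by linear_combination f00))
        (mul_left_cancel₀ h2 (by linear_combination f01))
      exact inn_of_sq (c := g.1 0 1) (by rw [det_fin_two, a1, a2, this]; ring)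
  · have a1 : g.1 1 0 = g.1 0 1 := by linear_combination e00
    have a2 : g.1 1 1 = - g.1 0 0 := by linear_combination e01
    rw [a1] at f00 f10 f11
    rw [a2] at f01 f10 f11
    obtain rfl | rfl := hδ
    · have k : b * g.1 0 0 = a * g.1 0 1 := mul_left_cancel₀ h2 (by linear_combination f01)
      exact inn_of_sq (c := a * g.1 0 0 + b * g.1 0 1) (by
        rw [det_fin_two, a1, a2]
        linear_combination (-(g.1 0 0 ^ 2 + g.1 0 1 ^ 2)) * hab + (b * g.1 0 0 - a * g.1 0 1) * k)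
    · have k : a * g.1 0 0 = - (b * g.1 0 1) := mul_left_cancel₀ h2 (by linear_combination f00)
      exact inn_of_sq (c := a * g.1 0 1 - b * g.1 0 0) (by
        rw [det_fin_two, a1, a2]
        linear_combination (-(g.1 0 0 ^ 2 + g.1 0 1 ^ 2)) * hab + (a * g.1 0 0 + b * g.1 0 1) * k)

theorem case_r {p f r a k : ℕ} [hp : Fact p.Prime] [hr : Fact r.Prime]
    (hF : Fintype.card F = p ^ f) (r2 : r ≠ 2) (rp : r ≠ p) (h1 : r ∣ Fintype.card F ^ 2 - 1)
    (h2 : ¬ r ^ (a + 1) ∣ Fintype.card F ^ 2 - 1) {x : PSL(2, F)} (hx : orderOf x = r ^ a)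
    {β : MulAut PSL(2, F)} (hβ : β ^ r ^ k = 1) (h : β x = x) : β ∈ Inn PSL(2, F) := by
  have hF' : Nat.card F = p ^ f := by rw [Nat.card_eq_fintype_card, hF]
  haveI : CharP F p := Congr.charP_of_card hF'
  obtain ⟨g, σ, hσ, rfl⟩ := decomp β hβ
  obtain ⟨j, -, hj⟩ := (Nat.dvd_prime_pow hr.out).1 (orderOf_dvd_of_pow_eq_one hσ)
  obtain _ | j := j
  · rw [pow_zero, orderOf_eq_one_iff] at hj
    rw [hj, map_one, mul_one] at hβ ⊢
    obtain ⟨m, hm⟩ := (hr.out.odd_of_ne_two r2).pow (n := k)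
    have e : (dA g : MulAut PSL(2, F)) = (dA (g ^ 2) ^ m)⁻¹ := by
      rw [eq_inv_iff_mul_eq_one, map_pow, ← pow_mul, ← pow_succ', ← hm, hβ]
    rw [e]
    exact inv_mem (pow_mem (inn_of_sq (c := g.1.det) (by simp)) m)
  exfalso
  obtain ⟨⟨m, hm⟩, hc⟩ := AutPSL3.card_fixF hF' hj
  rw [hm, Nat.mul_div_cancel_left _ (pow_pos hr.out.pos _)] at hc
  obtain ⟨s, rfl⟩ := QuotientGroup.mk_surjective x
  obtain ⟨ε, hε, e⟩ := fix h
  have t1 : σ (tr s) = ε * tr s := by
    have := congrArg (fun y => trace (y * (g⁻¹).1)) e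
    simp only [smul_mul_assoc, mul_assoc s.1, Units.mul_inv, mul_one, trace_smul] at this
    rw [trace_mul_cycle, Units.inv_mul, one_mul, trace_fin_two, trace_fin_two] at this
    simpa [tr] using this
  have t2 : tr (s * s) = tr s * tr s - 2 := by
    have := tr_mul_add_tr_mul_inv s s
    rw [mul_inv_cancel, tr_one] at this
    linear_combination this
  have t3 : tr (s * s) ∈ Herm.fixF σ.toRingHom := by
    change σ _ = tr (s * s)
    rw [t2, map_sub, map_mul, t1, map_ofNat]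
    obtain rfl | rfl := hε <;> ring
  have t4 : tr (s * s) ^ p ^ m = tr (s * s) := by
    have := Fintype.ofFinite (Herm.fixF σ.toRingHom)
    have := congrArg Subtype.val (FiniteField.pow_card (⟨_, t3⟩ : Herm.fixF σ.toRingHom))
    rwa [← Nat.card_eq_fintype_card, hc] at this
  obtain ⟨l, l1, l2⟩ := exists_eigenvalue (p := p) (s * s)
  have l3 : l ^ p ^ m = l ∨ l ^ p ^ m = l⁻¹ := by
    have := congrArg (algebraMap F (AlgebraicClosure F)) t4
    rw [map_pow, l1, add_pow_char_pow, inv_pow, ← Units.val_pow_eq_pow_val] at this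
    generalize l ^ p ^ m = u at this
    have hu := u.ne_zero
    have hl := l.ne_zero
    have : ((u : AlgebraicClosure F) - l) * (u * l - 1) = 0 := by
      field_simp at this
      linear_combination this
    rcases mul_eq_zero.1 this with e | e
    · exact .inl (Units.ext (sub_eq_zero.1 e))
    · exact .inr (eq_inv_of_mul_eq_one_left (Units.ext (sub_eq_zero.1 e)))
  have l4 : l ^ ((p ^ m) ^ 2 - 1) = 1 := by
    have : l ^ (p ^ m) ^ 2 = l := by
      rw [sq, pow_mul]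
      rcases l3 with e | e <;> rw [e]
      exacts [e, by rw [inv_pow, e, inv_inv]]
    have h1 : 1 ≤ (p ^ m) ^ 2 := Nat.one_le_pow _ _ (pow_pos hp.out.pos _)
    apply mul_right_cancel (b := l)
    rw [← pow_succ, Nat.sub_add_cancel h1, this, one_mul]
  have l5 : r ^ a ∣ 2 * ((p ^ m) ^ 2 - 1) * p := by
    rw [← hx, orderOf_dvd_iff_pow_eq_one, ← QuotientGroup.mk_pow, pow_mul, pow_mul, sq s,
      (l2 _).1 l4, QuotientGroup.mk_one]
  have l6 : r ^ a ∣ (p ^ m) ^ 2 - 1 :=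
    (((Nat.coprime_primes hr.out Nat.prime_two).2 r2).pow_left a).dvd_of_dvd_mul_left
      ((((Nat.coprime_primes hr.out hp.out).2 rp).pow_left a).dvd_of_dvd_mul_right l5)
  have e1 : Fintype.card F ^ 2 = (((p ^ m) ^ 2) ^ r ^ j) ^ r := by rw [hF, hm]; ring
  rw [e1] at h1 h2
  have l7 : r ^ a ∣ ((p ^ m) ^ 2) ^ r ^ j - 1 :=
    l6.trans (by simpa using Nat.sub_dvd_pow_sub_pow ((p ^ m) ^ 2) 1 (r ^ j))
  have y1 : 1 ≤ ((p ^ m) ^ 2) ^ r ^ j := Nat.one_le_pow _ _ (pow_pos (pow_pos hp.out.pos _) _)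
  generalize ((p ^ m) ^ 2) ^ r ^ j = y at h1 h2 l7 y1
  apply h2
  rw [← geom_sum_mul_of_one_le y1 r, pow_succ']
  refine mul_dvd_mul ?_ l7
  have h3 : (y : ZMod r) = 1 := by
    have := (ZMod.natCast_eq_zero_iff _ _).2 h1
    rwa [Nat.cast_sub (Nat.one_le_pow _ _ y1), Nat.cast_pow, ZMod.pow_card, Nat.cast_one,
      sub_eq_zero] at this
  rw [← ZMod.natCast_eq_zero_iff]
  simp [h3]

theorem psl (h4 : 3 < Fintype.card F)
    (h8 : Fintype.card F % 8 = 0 ∨ Fintype.card F % 8 = 3 ∨ Fintype.card F % 8 = 5) {r k : ℕ}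
    [hr : Fact r.Prime] (hG : r ∣ Nat.card PSL(2, F)) (R : Sylow r PSL(2, F))
    {α : MulAut PSL(2, F)} (hα : α ^ r ^ k = 1) (hR : ∀ x ∈ (R : Subgroup PSL(2, F)), α x = x) :
    α ∈ Inn PSL(2, F) := by
  obtain ⟨p, hp'⟩ := CharP.exists F
  obtain ⟨f, hp, hF⟩ := FiniteField.card F p
  haveI := Fact.mk hp
  by_cases rp : r = p
  · subst rp
    exact red R hα hR (Borel2.sylPSL F r).isPGroup' fun β h1 h2 =>
      case_p h1 fun c => h2 _ ((Borel2.mem_sylPSL r).2 ⟨c, rfl⟩)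
  by_cases r2 : r = 2
  · subst r2
    have h2 : (2 : F) ≠ 0 := two_ne_zero_of_char (p := p) (Ne.symm rp)
    obtain ⟨a, b, hab⟩ := CharP.sq_add_sq F p (-1)
    push_cast at hab
    set i : SL(2, F) := mkSL 0 1 (-1) 0 (by ring) with hi
    set j : SL(2, F) := mkSL (a : F) b b (-a) (by linear_combination -hab) with hj
    have sq : ∀ s : SL(2, F), tr s = 0 → IsPGroup 2 (zpowers (s : PSL(2, F))) := fun s hs =>
      IsPGroup.of_card_dvd_pow (n := 1) (by
        rw [Nat.card_zpowers, pow_one, orderOf_dvd_iff_pow_eq_one, ← QuotientGroup.mk_pow, sq,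
          (mul_self_eq_neg_one_iff h2).2 hs]
        exact mk_eq_one_iff.2 (.inr rfl))
    have c : Commute (i : PSL(2, F)) j := by
      change ((i * j : SL(2, F)) : PSL(2, F)) = (j * i : SL(2, F))
      refine mk_eq_mk_iff.2 (.inr (Subtype.ext ?_))
      change (!![0, 1; -1, 0] * !![(a : F), b; b, -a] : Matrix (Fin 2) (Fin 2) F) =
        -(!![(a : F), b; b, -a] * !![0, 1; -1, 0])
      simp
    have hV : IsPGroup 2 (zpowers (i : PSL(2, F)) ⊔ zpowers (j : PSL(2, F)) : Subgroup _) :=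
      (sq i (by simp [tr, hi, mkSL])).to_sup_of_normal_left' (sq j (by simp [tr, hj, mkSL]))
        (zpowers_le.2 (centralizer_le_normalizer _ (mem_centralizer_iff.2 (by
          rintro _ ⟨n, rfl⟩
          exact (c.zpow_left n).eq))))
    refine red R hα hR hV fun β h1 h3 => ?_
    obtain ⟨g, σ, hσ, rfl⟩ := decomp β h1
    have hf : Odd (f : ℕ) := by
      rw [← Nat.not_even_iff_odd]
      rintro ⟨m, hm⟩
      obtain ⟨n, hn⟩ := (hp.odd_of_ne_two (Ne.symm rp)).pow (n := m)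
      obtain ⟨u, hu⟩ := Nat.even_mul_succ_self n
      rw [hm, pow_add, hn, show (2 * n + 1) * (2 * n + 1) = 4 * (n * (n + 1)) + 1 by ring, hu] at hF
      omega
    have s1 : σ = 1 := by
      have := orderOf_dvd_natCard σ
      rw [card_ringAut (p := p) (by rw [Nat.card_eq_fintype_card, hF])] at this
      rw [← orderOf_eq_one_iff]
      exact Nat.eq_one_of_dvd_coprimes ((Nat.coprime_two_left.2 hf).pow_left k)
        (orderOf_dvd_of_pow_eq_one hσ) this
    rw [s1, map_one, mul_one] at h3 ⊢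
    exact case_two h2 hab (h3 _ (mem_sup_left (mem_zpowers _)))
      (h3 _ (mem_sup_right (mem_zpowers _)))
  have c1 := SLBasic.card_PSL_two (F := F)
  rw [Nat.card_eq_fintype_card (α := F)] at c1
  have h1 : r ∣ Fintype.card F ^ 2 - 1 := by
    refine ((Nat.Prime.dvd_mul hr.out).1 (c1 ▸ hG.mul_left _)).resolve_left fun e => rp ?_
    rw [hF] at e
    exact (Nat.prime_dvd_prime_iff_eq hr.out hp).1 (hr.out.dvd_of_dvd_pow e)
  have h0 : Fintype.card F ^ 2 - 1 ≠ 0 := by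
    have : 4 ^ 2 ≤ Fintype.card F ^ 2 := Nat.pow_le_pow_left h4 2
    omega
  obtain ⟨a, h2, h3⟩ : ∃ a, r ^ a ∣ Fintype.card F ^ 2 - 1 ∧ ¬ r ^ (a + 1) ∣ Fintype.card F ^ 2 - 1 :=
    ⟨_, Nat.ordProj_dvd _ r, Nat.pow_succ_factorization_not_dvd h0 hr.out⟩
  have c2 : (r ^ a).Coprime (Nat.gcd 2 (Fintype.card F - 1)) :=
    (((Nat.coprime_primes hr.out Nat.prime_two).2 r2).pow_left a).coprime_dvd_right
      (Nat.gcd_dvd_left _ _)
  have d : ∀ {n}, Nat.gcd 2 (Fintype.card F - 1) ∣ n → r ^ a ∣ n →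
      r ^ a ∣ n / Nat.gcd 2 (Fintype.card F - 1) := fun u v =>
    c2.dvd_of_dvd_mul_left (by rwa [Nat.mul_div_cancel' u])
  obtain ⟨x, hx⟩ := CIT.F.exists_order_psl2 (F := F) h4 (m := r ^ a) (.inr (by
    rw [show Fintype.card F ^ 2 - 1 = (Fintype.card F + 1) * (Fintype.card F - 1) from
      Nat.sq_sub_sq _ 1] at h2
    by_cases e : r ∣ Fintype.card F + 1
    · refine .inr (d ?_ ((((Nat.Prime.coprime_iff_not_dvd hr.out).2 fun e' => r2 ?_).pow_left
        a).dvd_of_dvd_mul_right h2))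
      · simpa using PSL2Basic.gcd_dvd_succ (F := F)
      · refine (Nat.prime_dvd_prime_iff_eq hr.out Nat.prime_two).1 ?_
        have := Nat.dvd_sub e e'
        rwa [show Fintype.card F + 1 - (Fintype.card F - 1) = 2 by omega] at this
    · exact .inl (d (Nat.gcd_dvd_right _ _) ((((Nat.Prime.coprime_iff_not_dvd hr.out).2 e).pow_left
        a).dvd_of_dvd_mul_left h2))))
  exact red R hα hR (IsPGroup.of_card (n := a) (by rw [Nat.card_zpowers, hx]))
    fun β h4 h5 => case_r hF r2 rp h1 h3 hx h4 (h5 x (mem_zpowers x))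

end Cfsg.Agent.Gp.AbS
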