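import Mathlib
import Cfsg.Agent.PGrp.Special
import Cfsg.Agent.PGrp.MaxClass2
import Cfsg.Agent.PGrp.Metacyclic
import Cfsg.Agent.PGrp.Extra
import Cfsg.Agent.Core.Hall
import Cfsg.Agent.Core.Fitting

/-! Groups minimal with respect to containing a noncyclic abelian subgroup of order eight. -/

set_option autoImplicit false

namespace Cfsg.Agent.Gp.Big8

open Subgroup Cfsg BG BG.Amb PGrp
open scoped commutatorElement

variable {G : Type*} [Group G]

/-- `Y` contains a noncyclic abelian subgroup of order eight. -/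
def Big (Y : Subgroup G) : Prop :=
  ∃ A : Subgroup G, A ≤ Y ∧ IsMulCommutative A ∧ ¬ IsCyclic A ∧ Nat.card A = 8

instance : Fact (Nat.Prime 2) := ⟨Nat.prime_two⟩

theorem Big.mono {Y Z : Subgroup G} (h : Big Y) (hle : Y ≤ Z) : Big Z := by
  obtain ⟨A, h1, h2⟩ := h
  exact ⟨A, h1.trans hle, h2⟩

theorem big_top_iff {Y : Subgroup G} : Big (⊤ : Subgroup Y) ↔ Big Y := by
  constructor
  · rintro ⟨A, -, h2, h3, h4⟩
    have e := A.equivMapOfInjective Y.subtype Y.subtype_injective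
    refine ⟨A.map Y.subtype, map_subtype_le A, inferInstance, fun h => h3 ?_, ?_⟩
    · exact isCyclic_of_surjective e.symm e.symm.surjective
    · rw [← h4]; exact (Nat.card_congr e.toEquiv).symm
  · rintro ⟨A, h1, h2, h3, h4⟩
    have e := subgroupOfEquivOfLe h1
    refine ⟨A.subgroupOf Y, le_top, inferInstance, fun h => h3 ?_, ?_⟩
    · exact isCyclic_of_surjective e e.surjective
    · rw [← h4]; exact Nat.card_congr e.toEquiv

variable [Finite G]

theorem four_le {A : Subgroup G} (hA : IsPGroup 2 A) (hn : ¬ IsCyclic A) : 4 ≤ Nat.card A := by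
  obtain ⟨n, h⟩ := hA.exists_card_eq
  rcases n with _ | _ | n
  · have : A = ⊥ := by rw [← card_eq_one, h]; rfl
    subst this
    exact (hn inferInstance).elim
  · exact absurd (isCyclic_of_prime_card (p := 2) (by simpa using h)) hn
  · rw [h, pow_succ, pow_succ]
    have : 1 ≤ 2 ^ n := Nat.one_le_two_pow
    omega

theorem eight_le {A : Subgroup G} (hA : IsPGroup 2 A) (hn : 4 < Nat.card A) : 8 ≤ Nat.card A := by
  obtain ⟨n, h⟩ := hA.exists_card_eq
  rw [h] at hn ⊢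
  have : 2 < n := (Nat.pow_lt_pow_iff_right (by norm_num : 1 < 2)).mp hn
  exact Nat.pow_le_pow_right (by norm_num : 0 < 2) (show 3 ≤ n from this)

theorem big_of_comm {A : Subgroup G} (hA : IsPGroup 2 A) (hc : IsMulCommutative A)
    (hn : ¬ IsCyclic A) (h8 : 4 < Nat.card A) : Big A := by
  have hN : ∀ B : Subgroup G, B ≤ A → A ≤ 𝐍(B) := fun B hB =>
    le_norm_of_le_cent (le_cent_of_comm hc le_rfl hB)
  have h1 : 2 < Nat.card (omegaOne 2 A) := by
    by_contra h
    exact hn (isCyclic_of_comm_of_card_omegaOne_le hA hc (not_lt.mp h))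
  have h2 : 4 ≤ Nat.card (omegaOne 2 A) := by
    obtain ⟨n, h⟩ := (hA.to_le (omegaOne_le (p := 2))).exists_card_eq
    rw [h] at h1 ⊢
    have : 1 < n := (Nat.pow_lt_pow_iff_right (by norm_num : 1 < 2)).mp h1
    exact Nat.pow_le_pow_right (by norm_num : 0 < 2) (show 2 ≤ n from this)
  obtain ⟨V, -, hV1, hV2, -⟩ := exists_invariant_card_eq (N := ⊥) hA omegaOne_le
    (hN _ omegaOne_le) le_norm_bot bot_le 2 (by simpa using h2)
  have hV3 : Nat.card V = 4 := by simpa using hV2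
  have hVA : V ≤ A := hV1.trans omegaOne_le
  obtain ⟨K, hK1, hK2, hK3, -⟩ := exists_invariant_card_eq hA le_rfl le_normalizer (hN _ hVA) hVA 1
    (by have := eight_le hA h8; omega)
  refine ⟨K, hK2, comm_mono hc hK2, fun h => ?_, by omega⟩
  have := card_le_of_isCyclic_of_pow two_ne_zero (cyclic_mono h hK1)
    fun x hx => pow_eq_one_of_mem_omegaOne_of_comm hc (hV1 hx)
  omega

theorem card_four {Y U : Subgroup G} (hY : ¬ Big Y) (hU : IsPGroup 2 U) (hle : U ≤ Y)
    (hc : IsMulCommutative U) (hn : ¬ IsCyclic U) : Nat.card U = 4 := by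
  refine le_antisymm ?_ (four_le hU hn)
  by_contra h
  exact hY ((big_of_comm hU hc hn (not_le.mp h)).mono hle)

theorem cop {V H : Subgroup G} (hV : IsPGroup 2 V) (hH : (Nat.card H).Coprime 2) :
    (Nat.card H).Coprime (Nat.card V) := by
  obtain ⟨n, hn⟩ := hV.exists_card_eq
  rw [hn]; exact hH.pow_right n

theorem solv {V : Subgroup G} (hV : IsPGroup 2 V) : Group.IsSolvable V := by
  have := hV.isNilpotent
  infer_instance

theorem cyc {V H : Subgroup G} (hV : IsPGroup 2 V) (hc : IsCyclic V)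
    (hH : (Nat.card H).Coprime 2) (hN : H ≤ 𝐍(V)) : H ≤ 𝐂(V) := by
  by_cases h1 : V = ⊥
  · subst h1; rw [cent_bot]; exact le_top
  refine Core.le_centralizer_of_abelian_of_prime_orderOf H V (comm_of_cyclic hc) hN (cop hV hH)
    fun v hv hpr => ?_
  have h2 : v ^ 2 = 1 := by
    obtain ⟨k, hk⟩ := IsPGroup.iff_orderOf.mp hV ⟨v, hv⟩
    rw [← Subgroup.orderOf_coe] at hk
    have hk' : orderOf v = 2 ^ k := hk
    have : orderOf v = 2 := by
      rw [hk'] at hpr ⊢
      rw [(Nat.Prime.pow_eq_iff hpr).mp rfl |>.2, pow_one]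
    rw [← this, pow_orderOf_eq_one]
  have h3 := (hN.trans normalizer_le_normalizer_omegaOne).trans
    (normalizer_le_centralizer_of_card_eq_two (card_omegaOne_of_isCyclic hV hc h1))
  exact le_cent_symm h3 (mem_omegaOne hv h2)

theorem mc_top (hG : IsPGroup 2 G) (hb : ¬ Big (⊤ : Subgroup G)) (hna : ¬ IsMulCommutative G) :
    ∃ (a b : G) (m : ℕ), Inv.MC ⊤ a b m := by
  by_cases hn : ∀ A : Subgroup G, A.Normal → IsMulCommutative A → IsCyclic A
  · obtain ⟨a, b, m, -, h⟩ := mc_of_normal_abelian_cyclic hG hn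
      fun h => hna (isMulCommutative_of_isCyclic h)
    exact ⟨a, b, m, h⟩
  push Not at hn
  obtain ⟨U, hU1, hU2, hU3⟩ := hn
  have := hG.isNilpotent
  obtain ⟨A, h1, h2, h3, h4⟩ := exists_scn_ge U hU2
  have h5 := card_four hb (hG.to_subgroup A) le_top h3 fun h => hU3 (cyclic_mono h h1)
  have h6 := index_centralizer_le_of_card_eq_sq hG A (by rw [h5]; rfl)
  rw [h4] at h6
  have h7 : A.index ≠ 1 := by
    intro h
    rw [index_eq_one] at h
    subst h
    exact hna ⟨⟨fun a b => congrArg Subtype.val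
      (h3.is_comm.comm (⟨a, mem_top a⟩ : (⊤ : Subgroup G)) ⟨b, mem_top b⟩)⟩⟩
  have h8 : A.index ≠ 0 := index_ne_zero_of_finite
  have h9 : Nat.card G = 8 := by
    rw [← A.card_mul_index, h5, show A.index = 2 by omega]
  obtain ⟨a, ha⟩ := exists_orderOf_four_of_card_eight h9 hna
  have h10 : (zpowers a).index = 2 := by
    have := (zpowers a).card_mul_index
    rw [Nat.card_zpowers, ha, h9] at this
    omega
  obtain ⟨b, m, -, h | ⟨h, h', -⟩⟩ := mc_or_modular_of_index_two hG h10 hna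
  · exact ⟨a, b, m, h⟩
  · have : 2 ^ 3 ≤ 2 ^ (m + 1) := Nat.pow_le_pow_right (by norm_num) (by omega)
    omega

theorem comm_of_type {Y : Subgroup G} (h : ∀ a ∈ Y, a * a = 1) : IsMulCommutative Y :=
  isMulCommutative_of_sq_eq_one fun x => Subtype.ext (by simpa [sq] using h x x.2)

/-- A `2`-group without noncyclic abelian subgroup of order eight with a nontrivial
automorphism of odd order is a four-group or quaternion of order eight. -/
theorem vq {Y H : Subgroup G} (hY : IsPGroup 2 Y) (hb : ¬ Big Y) (hH : (Nat.card H).Coprime 2)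
    (hN : H ≤ 𝐍(Y)) (hC : ¬ H ≤ 𝐂(Y)) :
    (IsMulCommutative Y ∧ ¬ IsCyclic Y ∧ Nat.card Y = 4) ∨ Nonempty (Y ≃* QuaternionGroup 2) := by
  have hnc : ¬ IsCyclic Y := fun h => hC (cyc hY h hH hN)
  by_cases hc : IsMulCommutative Y
  · exact .inl ⟨hc, hnc, card_four hb hY le_rfl hc hnc⟩
  right
  obtain ⟨a, b, m, h⟩ := mc_top hY (fun h => hb (big_top_iff.mp h)) hc
  have h' := h.map Y.subtype_injective
  rw [← MonoidHom.range_eq_map, range_subtype] at h'
  obtain ⟨g, hg, hg'⟩ := not_forall₂.mp hC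
  have hodd : Odd (orderOf g) := by
    have := hH.coprime_dvd_left (orderOf_dvd_natCard H hg)
    exact Nat.coprime_two_right.mp this
  rcases h'.essential le_rfl h'.z_mem (hN hg) hodd hg' with ⟨t, h1, h2, h3, h4⟩ |
    ⟨k, rfl, t, h1, h2, h3, h4⟩
  · exfalso
    have h5 := (h'.change h1 h2).four h3
    rw [← h4] at h5
    exact hc (isMulCommutative_of_sq_eq_one fun x => by
      rw [← h5.exponent_two]; exact Monoid.pow_exponent_eq_one x)
  · have h5 := (h'.change h1 h2).q8 h3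
    rwa [← h4] at h5

theorem not_big_mc {a b : G} {m : ℕ} (h : Inv.MC ⊤ a b m) : ¬ Big (⊤ : Subgroup G) := by
  rintro ⟨A, -, h2, h3, h4⟩
  have : ¬ A ≤ zpowers a := fun hle => h3 (cyclic_mono inferInstance hle)
  obtain ⟨t, ht, ht'⟩ := not_forall₂.mp this
  have h5 := mc_card_centralizer_le (h.change (mem_top t) ht')
  have h6 : A ≤ 𝐂[t] := (comm_le_cent h2).trans (cent_le_cent1 ht)
  have := card_le_of_le h6
  omega

theorem irr {U H W : Subgroup G} (hU : IsPGroup 2 U) (hc : IsMulCommutative U)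
    (h4 : Nat.card U = 4) (hH : (Nat.card H).Coprime 2) (hN : H ≤ 𝐍(U)) (hC : ¬ H ≤ 𝐂(U))
    (hW : W ≤ U) (hNW : H ≤ 𝐍(W)) (hne : W ≠ ⊥) : W = U := by
  have key : ∀ W : Subgroup G, W ≤ U → H ≤ 𝐍(W) → W ≠ U → H ≤ 𝐂(W) := by
    intro W hW hNW hne
    refine cyc (hU.to_le hW) ?_ hH hNW
    by_contra hn
    have := four_le (hU.to_le hW) hn
    have := card_lt_of_lt (lt_of_le_of_ne hW hne)
    omega
  have h1 : ⁅U, H⁆ = U := by
    by_contra h
    refine hC (Core.le_centralizer_of_commutator_commutator_eq_bot H U hN (cop hU hH) ?_)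
    exact le_cent_iff_comm_eq_bot'.mp (key _ (comm_le_left hN) (le_norm_comm hN le_normalizer) h)
  have h2 := Core.centralizer_inf_commutator_eq_bot H U hc hN (cop hU hH)
  rw [h1] at h2
  by_contra h
  refine hne (le_bot_iff.mp ?_)
  rw [← h2]
  exact le_inf (le_inf hW (le_cent_symm (key W hW hNW h))) hW

theorem q8_cyc {Y W : Subgroup G} (e : Y ≃* QuaternionGroup 2) (hY : IsPGroup 2 Y) (hW : W ≤ Y)
    (hc : IsMulCommutative W) : IsCyclic W := by
  refine isCyclic_of_comm_of_card_omegaOne_le (hY.to_le hW) hc ?_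
  by_cases h : omegaOne 2 W = ⊥
  · rw [h]; simp
  obtain ⟨z, hz, hz1⟩ := exists_mem_ne_one h
  have ho : ∀ x ∈ omegaOne 2 W, x ≠ 1 → orderOf x = 2 := fun x hx h1 =>
    orderOf_eq_prime (pow_eq_one_of_mem_omegaOne_of_comm hc hx) h1
  have : omegaOne 2 W ≤ zpowers z := by
    intro x hx
    by_cases h1 : x = 1
    · rw [h1]; exact one_mem _
    · rw [Inv.q8_unique e (hW (omegaOne_le hx)) (hW (omegaOne_le hz)) (ho x hx h1) (ho z hz hz1)]
      exact mem_zpowers z
  have := card_le_of_le this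
  rwa [Nat.card_zpowers, ho z hz hz1] at this

omit [Finite G] in
theorem q8_pow {Y : Subgroup G} (e : Y ≃* QuaternionGroup 2) {y : G} (hy : y ∈ Y) : y ^ 4 = 1 := by
  have h : ∀ q : QuaternionGroup 2, q ^ 4 = 1 := by decide
  have : (⟨y, hy⟩ : Y) ^ 4 = 1 := e.injective (by rw [map_pow, h, map_one])
  exact congrArg Subtype.val this

omit [Finite G] in
theorem q8_cen {Y : Subgroup G} (e : Y ≃* QuaternionGroup 2) {y : G} (hy : y ∈ Y)
    (hc : y ∈ 𝐂(Y)) : y ^ 2 = 1 := by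
  have h : ∀ q : QuaternionGroup 2, (∀ r, r * q = q * r) → q ^ 2 = 1 := by decide
  have : (⟨y, hy⟩ : Y) ^ 2 = 1 := e.injective (by
    rw [map_pow, h, map_one]
    intro r
    obtain ⟨r, rfl⟩ := e.surjective r
    rw [← map_mul, ← map_mul]
    exact congrArg e (Subtype.ext (hc r r.2)))
  exact congrArg Subtype.val this

omit [Finite G] in
theorem q8_na {Y : Subgroup G} (e : Y ≃* QuaternionGroup 2) : ¬ IsMulCommutative Y := by
  intro h
  obtain ⟨a, ha, b, hb, hab⟩ := Inv.q8_exists e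
  exact hab (isMulCommutative_iff_forall.mp h a ha b hb)

/-- The setting of the second part. -/
structure St (X H : Subgroup G) : Prop where
  p : IsPGroup 2 X
  odd : (Nat.card H).Coprime 2
  nm : H ≤ 𝐍(X)
  big : Big X
  min : ∀ Y : Subgroup G, Y < X → H ≤ 𝐍(Y) → ¬ Big Y
  na : ¬ IsMulCommutative X

namespace St

variable {X H : Subgroup G}

omit [Finite G] in
theorem nc (h : St X H) : ¬ H ≤ 𝐂(X) := by
  intro hc
  obtain ⟨A, h1, h2, h3, h4⟩ := h.big
  refine h.min A (lt_of_le_of_ne h1 ?_) (le_norm_of_le_cent (hc.trans (cent_anti h1)))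
    ⟨A, le_rfl, h2, h3, h4⟩
  rintro rfl
  exact h.na h2

theorem cen (h : St X H) {U : Subgroup G} (hle : U ≤ X) (hc : IsMulCommutative U)
    (h4 : Nat.card U = 4) (hX : X ≤ 𝐍(U)) (hN : H ≤ 𝐍(U)) (hC : ¬ H ≤ 𝐂(U)) : U ≤ 𝐂(X) := by
  have hne : U ≠ ⊥ := by rintro rfl; simp at h4
  have := irr (h.p.to_le hle) hc h4 h.odd hN hC (inf_le_left (b := 𝐂(X)))
    (le_norm_inf_cent hN h.nm) (Core.inf_centralizer_ne_bot_of_isPGroup (h.p.to_le hle) h.p hX hne)
  exact inf_eq_left.mp this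

theorem ext (h : St X H) {U Y : Subgroup G} (hn : ¬ IsCyclic U) (hU : U ≤ 𝐂(X))
    (h4 : Nat.card U = 4) (hUY : U ≤ Y) (hY : Y < X) (hN : H ≤ 𝐍(Y)) : Y = U := by
  refine le_antisymm (fun x hx => ?_) hUY
  have hc : IsMulCommutative U := comm_of_le_cent (hU.trans (cent_anti (hUY.trans hY.le)))
  have hle : U ⊔ zpowers x ≤ Y := sup_le hUY (zpowers_le.mpr hx)
  have := card_four (h.min Y hY hN) (h.p.to_le (hle.trans hY.le)) hle
    (comm_sup hc inferInstance (hU.trans (cent_anti (zpowers_le.mpr (hY.le hx)))))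
    fun h' => hn (cyclic_mono h' le_sup_left)
  rw [eq_of_le_of_card_le (le_sup_left : U ≤ U ⊔ zpowers x) (by omega)]
  exact mem_sup_right (mem_zpowers x)

theorem caseA (h : St X H) (hY : ⁅X, H⁆ ≠ X) : ∃ X₀ : Subgroup G, X₀ ≤ X ∧ X₀.relIndex X = 2 ∧
    Nonempty (X₀ ≃* QuaternionGroup 2) ∧ X₀ ⊔ (X ⊓ 𝐂(X₀)) = X := by
  have hsup := Core.commutator_sup_centralizer H X h.nm (cop h.p h.odd) (.inr (solv h.p))
  have hcc := Core.commutator_commutator_eq H X h.nm (cop h.p h.odd) (.inr (solv h.p))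
  have hXY : X ≤ 𝐍(⁅X, H⁆) := normalizer_commutator_ge_left X H
  have hHY : H ≤ 𝐍(⁅X, H⁆) := normalizer_commutator_ge_right X H
  have hle : ⁅X, H⁆ ≤ X := comm_le_left h.nm
  have hne : ⁅X, H⁆ ≠ ⊥ := fun h' => h.nc (le_cent_iff_comm_eq_bot'.mpr h')
  generalize ⁅X, H⁆ = Y at *
  have hlt : Y < X := lt_of_le_of_ne hle hY
  have hp := h.p.to_le hle
  have hnC : ¬ H ≤ 𝐂(Y) := fun h' => hne (hcc ▸ le_cent_iff_comm_eq_bot'.mp h')
  have hCY : ¬ X ⊓ 𝐂(H) ≤ Y := fun h' => hY (by rw [← hsup, sup_eq_left.mpr h'])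
  have hHC : H ≤ 𝐂(X ⊓ 𝐂(H)) := le_cent_symm inf_le_right
  rcases vq hp (h.min Y hlt hHY) h.odd hHY hnC with ⟨h1, h2, h3⟩ | ⟨⟨e⟩⟩
  · exfalso
    have h4 := h.cen hle h1 h3 hXY hHY hnC
    obtain ⟨c, hc, hc'⟩ := not_forall₂.mp hCY
    have h5 : Y ⊔ zpowers c ≤ X := sup_le hle (zpowers_le.mpr hc.1)
    rcases h5.lt_or_eq with h6 | h6
    · have := h.ext h2 h4 h3 le_sup_left h6
        (le_norm_sup hHY (le_norm_of_le_cent (hHC.trans (cent_anti (zpowers_le.mpr hc)))))
      exact hc' (this ▸ mem_sup_right (mem_zpowers c))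
    · exact h.na (h6 ▸ comm_sup h1 inferInstance (h4.trans (cent_anti (zpowers_le.mpr hc.1))))
  have hW : ⁅Y, X ⊓ 𝐂(H)⁆ < Y :=
    Core.commutator_lt_of_isPGroup hp (h.p.to_le inf_le_left) (inf_le_left.trans hXY) hne
  have hNW : H ≤ 𝐍(⁅Y, X ⊓ 𝐂(H)⁆) := le_norm_comm hHY (le_norm_of_le_cent hHC)
  have hWC : H ≤ 𝐂(⁅Y, X ⊓ 𝐂(H)⁆) := by
    by_contra h'
    rcases vq (hp.to_le hW.le) (h.min _ (hW.trans hlt) hNW) h.odd hNW h' with ⟨h1, h2, -⟩ | ⟨⟨e'⟩⟩
    · exact h2 (q8_cyc e hp hW.le h1)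
    · have := card_lt_of_lt hW
      rw [Inv.q8_card e, Inv.q8_card e'] at this
      exact lt_irrefl _ this
  have hYC : Y ≤ 𝐂(X ⊓ 𝐂(H)) := by
    rw [← hcc]
    refine Core.three_subgroups (le_cent_symm hWC) ?_
    rw [le_cent_iff_comm_eq_bot.mp hHC]
    exact bot_le
  obtain ⟨c, hc, hc1, hc2, -⟩ := exists_central_mod (h.p.to_le (inf_le_left (b := 𝐂(H)))) le_rfl
    le_normalizer (inf_le_left.trans hXY) hCY
  have hcY : c ∈ 𝐂(Y) := le_cent_symm hYC hc
  have hc4 : c ^ 4 = 1 := by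
    rw [show 4 = 2 * 2 by rfl, pow_mul]
    exact q8_cen e hc2 (pow_mem hcY 2)
  have h5 : Y ⊔ zpowers c ≤ X := sup_le hle (zpowers_le.mpr hc.1)
  have hbig : Big (Y ⊔ zpowers c) := by
    obtain ⟨a, ha⟩ := exists_orderOf_four_of_card_eight (Inv.q8_card e) (q8_na e)
    rw [← Subgroup.orderOf_coe] at ha
    have hA : zpowers (a : G) ⊔ zpowers c ≤ Y ⊔ zpowers c := sup_le_sup_right (zpowers_le.mpr a.2) _
    have hac : Commute (a : G) c := hcY a a.2
    have hcN : c ∈ 𝐂(zpowers (a : G)) := cent_anti (zpowers_le.mpr a.2) hcY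
    have hlt' : zpowers (a : G) < zpowers (a : G) ⊔ zpowers c := by
      refine lt_of_le_of_ne le_sup_left fun h' => hc1 (zpowers_le.mpr a.2 ?_)
      rw [h']; exact mem_sup_right (mem_zpowers c)
    have hcard := card_lt_of_lt hlt'
    rw [Nat.card_zpowers, ha] at hcard
    refine (big_of_comm (h.p.to_le (hA.trans h5))
      (comm_sup inferInstance inferInstance (le_cent_symm (zpowers_le.mpr hcN))) (fun h' => ?_)
      hcard).mono hA
    have := card_le_of_isCyclic_of_pow (p := 4) (by norm_num) h' fun x hx => by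
      obtain ⟨n, hn, k, rfl⟩ := (mem_sup_zpowers (cent_le_norm _ hcN)).mp hx
      have h6 : Commute n (c ^ k) := Commute.zpow_right (hcN n hn) k
      rw [h6.mul_pow, q8_pow e (zpowers_le.mpr a.2 hn), one_mul, ← zpow_natCast, ← zpow_mul,
        mul_comm, zpow_mul, zpow_natCast, hc4, one_zpow]
    omega
  have hX : Y ⊔ zpowers c = X := by
    by_contra h'
    exact h.min _ (lt_of_le_of_ne h5 h')
      (le_norm_sup hHY (le_norm_of_le_cent (hHC.trans (cent_anti (zpowers_le.mpr hc))))) hbig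
  refine ⟨Y, hle, ?_, ⟨e⟩, le_antisymm (sup_le hle inf_le_left) ?_⟩
  · rw [← hX]
    exact relIndex_sup_zpowers Nat.prime_two (cent_le_norm _ hcY) hc2 hc1
  · conv_lhs => rw [← hX]
    exact sup_le_sup_left (zpowers_le.mpr (mem_inf.mpr ⟨hc.1, hcY⟩)) _

theorem cen_lt (h : St X H) : X ⊓ 𝐂(X) < X :=
  lt_of_le_of_ne inf_le_left fun h' => h.na (comm_of_le_cent (inf_eq_left.mp h'))

theorem caseB (h : St X H) (hY : ⁅X, H⁆ = X) : (IsExtraspecial 2 X ∧ 32 ≤ Nat.card X) ∨
    (IsSpecial 2 X ∧ Nat.card (center X) = 4) := by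
  have hZN : H ≤ 𝐍(X ⊓ 𝐂(X)) := le_norm_inf_cent h.nm h.nm
  have hZc : IsMulCommutative ↥(X ⊓ 𝐂(X)) :=
    comm_of_le_cent (inf_le_right.trans (cent_anti inf_le_left))
  have hder : ⁅X, X⁆ ≠ ⊥ := fun h' => h.na (der_eq_bot_iff.mp h')
  by_cases hch : ∀ K : Subgroup X, K.Characteristic → IsMulCommutative K →
      H ≤ 𝐂(K.map X.subtype)
  · obtain ⟨hs, -⟩ := isSpecial_of_char_abelian h.p (actHom h.nm).range
      (h.odd.coprime_dvd_left (card_range_dvd _)) (by
        rw [eq_top_iff, ← map_subtype_le_map_subtype, ← MonoidHom.range_eq_map, range_subtype]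
        conv_lhs => rw [← hY]
        rw [commutator_le]
        intro x hx a ha
        refine ⟨_, subset_closure ⟨⟨x⁻¹, inv_mem hx⟩, _, ⟨⟨a, ha⟩, rfl⟩, rfl⟩, ?_⟩
        simp [actHom_apply_coe, commutatorElement_def, mul_assoc]) (by
        rintro K hK hc _ ⟨a, rfl⟩ k hk
        apply Subtype.ext
        rw [actHom_apply_coe, mul_inv_eq_iff_eq_mul]
        exact (hch K hK hc a.2 k ⟨k, hk, rfl⟩).symm)
    by_cases hZ : IsCyclic ↥(X ⊓ 𝐂(X))
    · left
      obtain ⟨-, hs2, hs3⟩ := isSpecial_iff.mp hs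
      have h1 : ∀ g ∈ X ⊓ 𝐂(X), g ^ 2 = 1 := fun g hg =>
        pow_eq_one_of_mem_commutator (H := X)
          (le_cent_iff_comm_eq_bot.mp (hs3 ▸ inf_le_right))
          (fun x hx => (hs2 ▸ pow_mem_map_frattini h.p hx : x ^ 2 ∈ X ⊓ 𝐂(X)).2) (hs3 ▸ hg)
      have h2 := card_omegaOne_of_isCyclic (h.p.to_le inf_le_left) hZ (hs3 ▸ hder)
      rw [omegaOne_eq_self h1, ← card_center_eq] at h2
      have hE : IsExtraspecial 2 X := ⟨hs, h2⟩
      refine ⟨hE, ?_⟩
      obtain ⟨m, -, hm, -, hc⟩ := exists_cext_of_isExtraspecial hE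
      rcases hm.lt_or_eq with hm | rfl
      · rw [hc]
        exact Nat.pow_le_pow_right (by norm_num : 0 < 2) (show 5 ≤ 2 * m + 1 by omega)
      · exfalso
        obtain ⟨A, h3, h4, -, h5⟩ := h.big
        exact h.na (eq_of_le_of_card_le h3 (by rw [hc, h5]; rfl) ▸ h4)
    · right
      refine ⟨hs, ?_⟩
      rw [card_center_eq]
      exact card_four (h.min _ h.cen_lt hZN) (h.p.to_le inf_le_left) le_rfl hZc hZ
  right
  push Not at hch
  obtain ⟨K, hK, hc, hnC⟩ := hch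
  have hle : K.map X.subtype ≤ X := map_subtype_le K
  have hc' : IsMulCommutative (K.map X.subtype) := inferInstance
  have hNN := normalizer_le_normalizer_map_of_characteristic K
  have hKt : K ≠ ⊤ := by
    rintro rfl
    rw [← MonoidHom.range_eq_map, range_subtype] at hc'
    exact h.na hc'
  have hlt' : ∀ L : Subgroup X, L ≠ ⊤ → L.map X.subtype < X := fun L hL =>
    lt_of_le_of_ne (map_subtype_le L) fun h' => hL (by
      rw [eq_top_iff, ← map_subtype_le_map_subtype, ← MonoidHom.range_eq_map, range_subtype, h'])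
  have hp := h.p.to_le hle
  have hn : ¬ IsCyclic (K.map X.subtype) := fun h' => hnC (cyc hp h' h.odd (h.nm.trans hNN))
  have h4 := card_four (h.min _ (hlt' K hKt) (h.nm.trans hNN)) hp le_rfl hc' hn
  have hU := h.cen hle hc' h4 (le_normalizer.trans hNN) (h.nm.trans hNN) hnC
  have hZ := h.ext hn hU h4 (le_inf hle hU) h.cen_lt hZN
  have hF : (frattini X).map X.subtype ≤ K.map X.subtype := by
    have h1 : K ⊔ frattini X ≠ ⊤ := fun h' => hKt (frattini_nongenerating h')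
    have h2 := hlt' _ h1
    rw [Subgroup.map_sup] at h2
    have := h.ext hn hU h4 le_sup_left h2 (le_norm_sup (h.nm.trans hNN)
      (h.nm.trans (normalizer_le_normalizer_map_of_characteristic (frattini X))))
    exact sup_eq_left.mp this
  have hD := irr hp hc' h4 h.odd (h.nm.trans hNN) hnC ((commutator_le_map_frattini h.p).trans hF)
    (le_norm_comm h.nm h.nm) hder
  refine ⟨isSpecial_iff.mpr ⟨h.p, ?_, by rw [hD, hZ]⟩, by rw [card_center_eq, hZ, h4]⟩
  rw [hZ]
  exact le_antisymm hF (hD ▸ commutator_le_map_frattini h.p)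

end St

theorem big_le {O A : Subgroup G} (hO : IsPGroup 2 O) [O.Normal] (hC : 𝐂(O) ≤ O)
    (hvq : (IsMulCommutative O ∧ ¬ IsCyclic O ∧ Nat.card O = 4) ∨
      Nonempty (O ≃* QuaternionGroup 2))
    (hc : IsMulCommutative A) (hn : ¬ IsCyclic A) (h8 : Nat.card A = 8) : False := by
  have hA : IsPGroup 2 A := IsPGroup.of_card (n := 3) h8
  have hT : IsPGroup 2 ↥(O ⊔ A) := hO.to_sup_of_normal_left hA
  have hle : O ≤ O ⊔ A := le_sup_left
  have hcard : Nat.card (O.subgroupOf (O ⊔ A)) = Nat.card O :=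
    Nat.card_congr (subgroupOfEquivOfLe hle).toEquiv
  have hCT : centralizer (O.subgroupOf (O ⊔ A) : Set ↥(O ⊔ A)) ≤ O.subgroupOf (O ⊔ A) := by
    intro x hx
    refine hC fun y hy => ?_
    exact congrArg Subtype.val (hx ⟨y, hle hy⟩ hy)
  rcases hvq with ⟨h1, h2, h3⟩ | ⟨⟨e⟩⟩
  · have h4 := index_centralizer_le_of_card_eq_sq hT (O.subgroupOf (O ⊔ A)) (by rw [hcard, h3]; rfl)
    have h5 := (index_antitone hCT).trans h4
    have h6 := (O.subgroupOf (O ⊔ A)).card_mul_index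
    rw [hcard, h3] at h6
    have h7 : A = O ⊔ A := eq_of_le_of_card_le le_sup_right (by omega)
    have h9 : A ≤ O := (le_cent_of_comm hc le_rfl (h7 ▸ hle)).trans hC
    have := card_le_of_le h9
    omega
  · obtain ⟨n, hn'⟩ := hT.exists_card_eq
    have h1 := nilpotencyClass_eq_of_centralizer_le_cube hn' (B := O.subgroupOf (O ⊔ A))
      (by rw [hcard, Inv.q8_card e]; rfl) (q8_na ((subgroupOfEquivOfLe hle).trans e)) hCT
    have h2 : 3 ≤ n := by
      have := card_le_of_le hle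
      rw [hn', Inv.q8_card e] at this
      exact (Nat.pow_le_pow_iff_right (by norm_num : 1 < 2)).mp (show 2 ^ 3 ≤ 2 ^ n from this)
    obtain ⟨a, b, h⟩ := exists_mc_of_class h2 hn' h1
    exact not_big_mc h (big_top_iff.mpr ⟨A, le_sup_right, hc, hn, h8⟩)

theorem le_of_sup {X Y H : Subgroup G} (hX : IsPGroup 2 X) (hH : (Nat.card H).Coprime 2)
    (hle : Y ≤ X) (hN : H ≤ 𝐍(Y)) (h : Y ⊔ H = ⊤) : Y = X := by
  refine le_antisymm hle fun x hx => ?_
  obtain ⟨y, hy, k, hk, rfl⟩ := (mem_sup_of_le_normalizer hN).mp (h ▸ mem_top x : x ∈ Y ⊔ H)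
  have h1 : k ∈ X := (X.mul_mem_cancel_left (hle hy)).mp hx
  have h2 : k = 1 := eq_one_of_mem_of_isPGroup_of_coprime hX h1
    (hH.coprime_dvd_left (orderOf_dvd_natCard H hk))
  rwa [h2, mul_one]

end Cfsg.Agent.Gp.Big8
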