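import Mathlib
import Cfsg.Agent.Gp.CF1
import Cfsg.Agent.Perm.Zass8
import Cfsg.Agent.Ben.Cons
import Cfsg.Agent.Suz.Main
import Cfsg.Agent.Inv.ZStar
import Cfsg.Agent.S1230
import Cfsg.Agent.S0205

/-! Doubly transitive groups with an involution whose centraliser has constant fixity: the cases. -/

set_option autoImplicit false

namespace Cfsg.Agent.Gp.CF

open MulAction Subgroup
open scoped MatrixGroups

variable {G Ω : Type*} [Group G] [MulAction G Ω]

def Reg (G Ω : Type*) [Group G] [MulAction G Ω] : Prop :=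
  ∃ R : Subgroup G, R.Normal ∧ (∀ x y : Ω, ∃ r ∈ R, r • x = y) ∧ ∀ x : Ω, ∀ r ∈ R, r • x = x → r = 1

def L2 (G : Type*) [Group G] : Prop :=
  ∃ (F : Type) (_ : Field F) (_ : Fintype F), Nonempty (G ≃* PSL(2, F))

theorem par [Finite Ω] (A : Subgroup G) (F : Set Ω) (hinv : ∀ d ∈ A, ∀ x ∈ F, d • x ∈ F)
    (h2 : ∀ d ∈ A, ∃ k : ℕ, ∀ x ∈ F, d ^ 2 ^ k • x = x) :
    F.ncard ≡ {x : Ω | x ∈ F ∧ ∀ d ∈ A, d • x = x}.ncard [MOD 2] := by
  let S : SubMulAction A Ω := ⟨F, fun d x hx => hinv d d.2 x hx⟩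
  have hP : IsPGroup 2 (toPermHom A S).range := by
    rintro ⟨_, d, rfl⟩
    obtain ⟨k, hk⟩ := h2 d d.2
    refine ⟨k, Subtype.ext ?_⟩
    rw [SubmonoidClass.coe_pow, ← map_pow]
    ext x
    exact hk x x.2
  haveI : Fact (Nat.Prime 2) := ⟨Nat.prime_two⟩
  have := hP.card_modEq_card_fixedPoints S
  rw [← Nat.card_coe_set_eq, ← Nat.card_coe_set_eq]
  refine this.trans (Eq.le ?_ |>.antisymm (Eq.ge ?_)) <;>
  · congr 1
    refine Nat.card_congr ⟨fun x => ⟨x.1.1, x.1.2, fun d hd => congrArg Subtype.val (x.2 ⟨_, ⟨d, hd⟩, rfl⟩)⟩,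
      fun x => ⟨⟨x.1, x.2.1⟩, ?_⟩, fun _ => rfl, fun _ => rfl⟩
    rintro ⟨_, d, rfl⟩
    exact Subtype.ext (x.2.2 d d.2)

theorem nf_ncard (g : G) : nf Ω g = {x : Ω | g • x = x}.ncard := rfl

theorem two_le_nf [Finite Ω] {g : G} {a b : Ω} (hab : a ≠ b) (ha : g • a = a) (hb : g • b = b) :
    2 ≤ nf Ω g :=
  (Set.one_lt_ncard (Set.toFinite _)).mpr ⟨a, ha, b, hb, hab⟩

theorem three_le_nf [Finite Ω] {g : G} {a b c : Ω} (hab : a ≠ b) (hbc : b ≠ c) (hac : a ≠ c)
    (ha : g • a = a) (hb : g • b = b) (hc : g • c = c) : 3 ≤ nf Ω g :=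
  (Set.two_lt_ncard_iff (Set.toFinite _)).mpr ⟨a, b, c, ha, hb, hc, hab, hac, hbc⟩

theorem exists_inv [Finite G] {A : Subgroup G} (h : Even (Nat.card A)) :
    ∃ u ∈ A, u ≠ 1 ∧ u * u = 1 := by
  haveI : Fact (Nat.Prime 2) := ⟨Nat.prime_two⟩
  obtain ⟨u, hu⟩ := exists_prime_orderOf_dvd_card' 2 h.two_dvd
  have := Ben.sq_of_two ((Subgroup.orderOf_coe u).trans hu)
  exact ⟨u, u.2, this⟩

theorem even_of_inv [Finite G] {A : Subgroup G} {u : G} (hu : u ∈ A) (u1 : u ≠ 1) (u2 : u * u = 1) :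
    Even (Nat.card A) := by
  haveI : Fact (Nat.Prime 2) := ⟨Nat.prime_two⟩
  have := A.orderOf_dvd_natCard hu
  rw [orderOf_eq_prime (by rw [pow_two, u2]) u1] at this
  exact even_iff_two_dvd.mpr this

namespace K

variable [Finite G] [Fintype Ω] {i : ℕ} (h : K G Ω i)
include h

omit [Finite G] in
theorem faith : FaithfulSMul G Ω := ⟨fun {a b} e => by
  have := h.faithful (b⁻¹ * a) fun x => by rw [mul_smul, e, inv_smul_smul]
  exact (inv_mul_eq_one.mp this).symm⟩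

omit [Finite G] in
theorem two' : IsMultiplyPretransitive G Ω 2 :=
  is_two_pretransitive_iff.mpr fun hab hcd => h.two _ _ _ _ hab hcd

omit [Finite G] in
theorem moves {u : G} (hu : u ≠ 1) : ∃ a : Ω, u • a ≠ a := by
  by_contra hc
  push Not at hc
  exact hu (h.faithful u hc)

omit [Finite G] in
theorem trans (x y : Ω) : ∃ g : G, g • x = y := by
  by_cases e : x = y
  · exact ⟨1, by rw [one_smul, e]⟩
  · obtain ⟨g, hg, -⟩ := h.two x y y x e (Ne.symm e)
    exact ⟨g, hg⟩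

omit [Finite G] in
theorem nf_inv {u : G} (u1 : u ≠ 1) (u2 : u * u = 1) : nf Ω u = i := h.fix u u1 u2 u (Commute.refl u) u1

omit [Finite G] in
theorem inverts {s g : G} {x y : Ω} (hxy : x ≠ y) (sx : s • x = y) (sy : s • y = x) (gx : g • x = x)
    (gy : g • y = y) : s * g * s⁻¹ = g⁻¹ := by
  have h1 := h.sw s x y hxy sx sy
  have h2 := h.sw (s * g) x y hxy (by rw [mul_smul, gx, sx]) (by rw [mul_smul, gy, sy])
  rw [← eq_inv_of_mul_eq_one_left h1]
  exact eq_inv_of_mul_eq_one_left (by rw [← h2]; group)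

omit [Finite G] in
theorem comm {g k : G} {x y : Ω} (hxy : x ≠ y) (gx : g • x = x) (gy : g • y = y) (kx : k • x = x)
    (ky : k • y = y) : Commute g k := by
  obtain ⟨s, sx, sy⟩ := h.two x y y x hxy hxy.symm
  have h1 := h.inverts hxy sx sy gx gy
  have h2 := h.inverts hxy sx sy kx ky
  have h3 := h.inverts hxy sx sy (g := g * k) (by rw [mul_smul, kx, gx]) (by rw [mul_smul, ky, gy])
  have : (k * g)⁻¹ = (g * k)⁻¹ := by rw [← h3, mul_inv_rev, ← h1, ← h2]; group
  exact (inv_injective this).symm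

omit [Finite G] in
theorem reg_of_comm {A : Subgroup G} [hn : A.Normal] (hA : A ≠ ⊥) (hc : ∀ u ∈ A, ∀ v ∈ A, u * v = v * u) :
    Reg G Ω := by
  obtain ⟨⟨u, hu⟩, u1⟩ := (Subgroup.ne_bot_iff_exists_ne_one.mp hA)
  obtain ⟨a, ha⟩ := h.moves (u := u) fun e => u1 (Subtype.ext e)
  have ht : ∀ x y : Ω, ∃ r ∈ A, r • x = y := fun x y => by
    by_cases e : x = y
    · exact ⟨1, A.one_mem, by rw [one_smul, e]⟩
    obtain ⟨k, rfl, rfl⟩ := h.two a (u • a) x y ha.symm e
    exact ⟨_, hn.conj_mem u hu k, Perm.conj_smul_smul k u a⟩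
  refine ⟨A, hn, ht, fun x r hr e => h.faithful r fun y => ?_⟩
  obtain ⟨s, hs, rfl⟩ := ht x y
  rw [← mul_smul, hc r hr s hs, mul_smul, e]

theorem reg_of_solv (A : Subgroup G) [hn : A.Normal] (hA : A ≠ ⊥) [hs : Group.IsSolvable A] :
    Reg G Ω := by
  induction A using WellFoundedLT.induction generalizing hn hs with
  | ind A ih =>
  by_cases hc : ⁅A, A⁆ = ⊥
  · exact h.reg_of_comm hA fun u hu v hv =>
      (commutator_eq_bot_iff_le_centralizer.mp hc hv u hu)
  have hlt : ⁅A, A⁆ < A := by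
    rw [← nontrivial_iff_ne_bot] at hA
    rw [← A.range_subtype, MonoidHom.range_eq_map, ← map_commutator, map_subtype_lt_map_subtype]
    exact Group.IsSolvable.commutator_lt_top_of_nontrivial A
  exact ih _ hlt (hn := inferInstance) hc
    (hs := Group.isSolvable_of_isSolvable_injective (inclusion_injective hlt.le))

theorem odd_cent {g : G} (g1 : g ≠ 1) (hg : nf Ω g ≠ i) : Odd (Nat.card (centralizer ({g} : Set G))) := by
  by_contra ho
  obtain ⟨u, hu, u1, u2⟩ := exists_inv (Nat.not_odd_iff_even.mp ho)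
  exact hg (h.fix u u1 u2 g (mem_centralizer_singleton_iff.mp hu).symm g1)

theorem card_two {a b c d : Ω} (hab : a ≠ b) (hcd : c ≠ d) :
    Nat.card ↥(stabilizer G a ⊓ stabilizer G b) = Nat.card ↥(stabilizer G c ⊓ stabilizer G d) := by
  obtain ⟨k, rfl, rfl⟩ := h.two a b c d hab hcd
  rw [stabilizer_smul_eq_stabilizer_map_conj, stabilizer_smul_eq_stabilizer_map_conj,
    ← map_inf _ _ _ (MulAut.conj k).injective, card_map_of_injective (MulAut.conj k).injective]

end K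

theorem case0 [Finite G] [Fintype Ω] (h : K G Ω 0) : L2 G ∨ Reg G Ω := by
  by_cases hR : Reg G Ω
  · exact Or.inr hR
  left
  obtain ⟨t, t1, t2⟩ := h.inv
  have nofix : ∀ u : G, u ≠ 1 → u * u = 1 → ∀ x : Ω, u • x ≠ x := fun u u1 u2 x e => by
    have := h.nf_inv u1 u2
    rw [nf_ncard, Set.ncard_eq_zero (Set.toFinite _)] at this
    exact this.le e
  have h3 : ∀ g : G, ∀ a b c : Ω, a ≠ b → b ≠ c → a ≠ c → g • a = a → g • b = b → g • c = c → g = 1 := by
    intro g a b c hab hbc hac ga gb gc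
    by_contra g1
    have h3 := three_le_nf hab hbc hac ga gb gc
    have ho := h.odd_cent g1 (by omega)
    have hinv : ∀ s : G, s * g * s⁻¹ = g⁻¹ → ∀ x : Ω, g • x = x → g • s • x = s • x := fun s hs x hx => by
      have : g * s = s * g⁻¹ := by
        calc g * s = (s * g * s⁻¹)⁻¹ * s := by rw [hs, inv_inv]
          _ = _ := by group
      rw [← mul_smul, this, mul_smul, Perm.inv_fix hx]
    obtain ⟨s, sa, sb⟩ := h.two a b b a hab hab.symm
    have hs := h.inverts hab sa sb ga gb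
    have s2 := h.sw s a b hab sa sb
    have s1 : s ≠ 1 := fun e => hab (by rw [← sa, e, one_smul])
    have hz : ∀ d ∈ zpowers s, d = 1 ∨ d = s := fun d hd => by
      have h2 : orderOf s = 2 := orderOf_eq_prime (by rw [pow_two, s2]) s1
      obtain ⟨n, rfl⟩ := mem_powers_iff_mem_zpowers.mpr hd
      simp only
      rw [← pow_mod_orderOf, h2]
      rcases Nat.mod_two_eq_zero_or_one n with e | e <;> simp [e]
    have hp := par (zpowers s) {x : Ω | g • x = x} (fun d hd x hx => by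
      rcases hz d hd with rfl | rfl
      · rwa [one_smul]
      · exact hinv _ hs x hx) (fun d hd => ⟨1, fun x _ => by
        rcases hz d hd with rfl | rfl
        · simp
        · rw [pow_one, pow_two, s2, one_smul]⟩)
    rw [Set.eq_empty_of_forall_notMem (s := {x : Ω | x ∈ {x : Ω | g • x = x} ∧ ∀ d ∈ zpowers s, d • x = x})
      fun x hx => nofix s s1 s2 x (hx.2 s (mem_zpowers s)), Set.ncard_empty] at hp
    have horb : orbit (centralizer ({g} : Set G)) a = {x : Ω | g • x = x} := by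
      ext z
      constructor
      · rintro ⟨d, rfl⟩
        show g • (d : G) • a = (d : G) • a
        rw [← mul_smul, ← mem_centralizer_singleton_iff.mp d.2, mul_smul, ga]
      · intro hz
        by_cases e : z = a
        · rw [e]; exact mem_orbit_self a
        obtain ⟨y, hy, ya, yz⟩ : ∃ y : Ω, g • y = y ∧ y ≠ a ∧ y ≠ z := by
          by_cases e' : z = b
          · exact ⟨c, gc, hac.symm, e' ▸ hbc.symm⟩
          · exact ⟨b, gb, hab.symm, Ne.symm e'⟩
        obtain ⟨s₁, a1, a2⟩ := h.two a y y a ya.symm ya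
        obtain ⟨s₂, b1, b2⟩ := h.two y z z y yz yz.symm
        have e1 := h.inverts ya.symm a1 a2 ga hy
        have e2 := h.inverts yz b1 b2 hy hz
        refine ⟨⟨s₂ * s₁, mem_centralizer_singleton_iff.mpr ?_⟩, ?_⟩
        · calc s₂ * s₁ * g = s₂ * (s₁ * g * s₁⁻¹) * s₁ := by group
            _ = (s₂ * g * s₂⁻¹)⁻¹ * (s₂ * s₁) := by rw [e1]; group
            _ = _ := by rw [e2, inv_inv]
        · show (s₂ * s₁) • a = z
          rw [mul_smul, a1, b1]
    have hd := index_dvd_card (stabilizer (centralizer ({g} : Set G)) a)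
    rw [index_stabilizer, horb] at hd
    have := ho.of_dvd_nat hd
    rw [Nat.odd_iff] at this
    rw [Nat.ModEq, this] at hp
    omega
  obtain ⟨a, ha⟩ := h.moves t1
  haveI : Nontrivial Ω := ⟨_, _, ha⟩
  have h2 : ∃ g : G, g ≠ 1 ∧ ∃ a b : Ω, a ≠ b ∧ g • a = a ∧ g • b = b := by
    by_contra hc
    have hc' : ∀ g : G, ∀ a b : Ω, a ≠ b → g • a = a → g • b = b → g = 1 := fun g a b hab ga gb => by
      by_contra g1
      exact hc ⟨g, g1, a, b, hab, ga, gb⟩
    by_cases h1 : ∃ g : G, g ≠ 1 ∧ ∃ a : Ω, g • a = a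
    · obtain ⟨N, hn, hN, ht, -⟩ := Perm.frobenius_kernel ⟨h.trans⟩ h1 hc'
      refine hR ⟨N, hn, fun x y => ?_, fun x r hr e => ((hN r).mp hr).resolve_right fun h' => h' x e⟩
      obtain ⟨r, hr⟩ := ht.exists_smul_eq x y
      exact ⟨r, r.2, hr⟩
    · refine hR ⟨⊤, inferInstance, fun x y => ?_, fun x r _ e => ?_⟩
      · obtain ⟨r, hr⟩ := h.trans x y
        exact ⟨r, mem_top _, hr⟩
      · by_contra r1
        exact h1 ⟨r, r1, x, e⟩
  have hZ : IsZassenhausGroup G Ω := ⟨h.faith, h.two', h3, h2, fun N hn ht => by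
    by_contra hc
    push Not at hc
    refine hR ⟨N, hn, fun x y => ?_, fun x r hr e => ?_⟩
    · obtain ⟨r, hr⟩ := ht.exists_smul_eq x y
      exact ⟨r, r.2, hr⟩
    · have : (⟨r, hr⟩ : N) ∈ stabilizer N x := e
      rw [hc x, mem_bot] at this
      exact congrArg Subtype.val this⟩
  have hz := Perm.Z3.of_isZ hZ
  have hev : Even (Nat.card Ω) := by
    rw [Nat.card_eq_fintype_card, ← h.card t t1 t2, add_zero]
    exact even_of_inv (mem_centralizer_singleton_iff.mpr rfl) t1 t2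
  obtain ⟨b, hb⟩ := exists_ne a
  have ho : Odd (Nat.card ↥(stabilizer G a ⊓ stabilizer G b)) := by
    by_contra ho
    obtain ⟨u, hu, u1, u2⟩ := exists_inv (Nat.not_odd_iff_even.mp ho)
    exact nofix u u1 u2 a hu.1
  obtain ⟨F, hF, -⟩ := hz.exists_zker h2 a
  rcases Perm.zass_feit _ rfl hZ hb.symm ho hF with hd | ⟨h2, ⟨u, v, huv⟩, -⟩
  · rcases hz.cases_of_le hb.symm (Perm.zass_two_lt hZ) hd with hd | hd
    · rw [Nat.even_iff] at hev
      rw [Nat.odd_iff] at ho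
      omega
    · obtain ⟨K, _, _, -, e⟩ := Perm.zass_half hZ hb.symm hd
      exact ⟨K, inferInstance, inferInstance, e⟩
  · exfalso
    haveI : Fact (Nat.Prime 2) := ⟨Nat.prime_two⟩
    haveI : Nontrivial F := ⟨_, _, huv⟩
    obtain ⟨n, hn, e⟩ := h2.nontrivial_iff_card.mp inferInstance
    have h1 := hF.card
    have : 2 ∣ Nat.card F := e ▸ dvd_pow_self 2 hn.ne'
    rw [Nat.even_iff] at hev
    omega

theorem case2 [Finite G] [Fintype Ω] (h : K G Ω 2) : L2 G := by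
  obtain ⟨t, t1, t2⟩ := h.inv
  obtain ⟨a, ha, b, hb, hab⟩ := (Set.one_lt_ncard (s := {x : Ω | t • x = x}) (Set.toFinite _)).mp
    (by rw [← nf_ncard, h.nf_inv t1 t2]; norm_num)
  have hz : Perm.Z3 G Ω := ⟨h.faith, h.two', fun g x y z hxy hyz hxz gx gy gz => by
    by_contra g1
    have h3 := three_le_nf hxy hyz hxz gx gy gz
    obtain ⟨k, rfl, rfl⟩ := h.two a b x y hab hxy
    have := h.fix (k * t * k⁻¹) (by simpa using t1) (by
      calc k * t * k⁻¹ * (k * t * k⁻¹) = k * (t * t) * k⁻¹ := by group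
        _ = 1 := by rw [t2]; group) g
      (h.comm hxy gx gy (by rw [Perm.conj_smul_smul, ha]) (by rw [Perm.conj_smul_smul, hb])) g1
    omega⟩
  have hle : stabilizer G a ⊓ stabilizer G b ≤ centralizer {t} := fun g hg =>
    mem_centralizer_singleton_iff.mpr (h.comm hab hg.1 hg.2 ha hb)
  obtain ⟨s, sa, sb⟩ := h.two a b b a hab hab.symm
  have hs : s ∈ centralizer {t} := by
    have := h.inverts hab sa sb ha hb
    rw [← eq_inv_of_mul_eq_one_left t2] at this
    exact mem_centralizer_singleton_iff.mpr (mul_inv_eq_iff_eq_mul.mp this)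
  obtain ⟨m, hm⟩ := card_dvd_of_le hle
  have hc := h.card t t1 t2
  have h0 : 0 < Nat.card (centralizer ({t} : Set G)) := Nat.card_pos
  have hm2 : 2 ≤ m := by
    by_contra hlt
    have : m = 0 ∨ m = 1 := by omega
    rcases this with rfl | rfl
    · omega
    · have := eq_of_le_of_card_ge hle (by omega)
      rw [← this] at hs
      exact hab (hs.1.symm.trans sa)
  have := Nat.mul_le_mul_left (Nat.card ↥(stabilizer G a ⊓ stabilizer G b)) hm2
  obtain ⟨-, K, _, _, -, e⟩ := hz.even_half hab (even_of_inv (u := t) ⟨ha, hb⟩ t1 t2)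
    (by rw [Nat.card_eq_fintype_card (α := Ω)]; omega)
  exact ⟨K, inferInstance, inferInstance, e⟩

theorem case1 [Finite G] [Fintype Ω] (h : K G Ω 1) : L2 G ∨ Cfsg.Lie.IsoSuzuki G ∨ Reg G Ω := by
  haveI := h.faith
  obtain ⟨u, u1, u2⟩ := h.inv
  obtain ⟨a, ha⟩ := h.moves u1
  by_cases h2 : Suz.TwoRank G
  swap
  · refine Or.inr (Or.inr ?_)
    have hu : orderOf u = 2 := orderOf_eq_prime (by rw [pow_two, u2]) u1
    have := Ben.oddCore_sup_cent h2 hu
    by_cases hO : oddCore G = ⊥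
    · rw [hO, bot_sup_eq] at this
      refine h.reg_of_comm (A := center G) (fun e => u1 (mem_bot.mp (e ▸ mem_center_iff.mpr fun g => ?_)))
        fun x hx y _ => (mem_center_iff.mp hx y).symm
      exact mem_centralizer_singleton_iff.mp (this ▸ mem_top g)
    · haveI : Group.IsSolvable (oddCore G) := S0205.result Inv.odd_card_oddCore
      exact h.reg_of_solv _ hO
  have hSE : Ben.SE G Ω := ⟨h.trans, ⟨_, _, ha⟩, h.inv, fun v v1 v2 =>
    (Set.ncard_pos (s := {x : Ω | v • x = x}) (Set.toFinite _)).mp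
      (by rw [← nf_ncard, h.nf_inv v1 v2]; norm_num), fun v v1 v2 c d hc hd => by
    by_contra e
    have := two_le_nf e hc hd
    rw [h.nf_inv v1 v2] at this
    omega⟩
  obtain ⟨t, Q, hS⟩ := Ben.bender hSE h2 a
  obtain ⟨F, _, _, _, ⟨Z⟩⟩ := Suz.exists_ZF hS h2
  have hW := Suz.weak hS h2
  have hta : a ≠ t • a := fun e => hS.not_mem e.symm
  have htop : Suz.ZF.LL t Q = ⊤ := by
    haveI := Z.LL_normal
    have hinv : ∀ v : G, v * v = 1 → v ∈ Suz.ZF.LL t Q := fun v v2 => by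
      obtain ⟨m, hm⟩ := Suz.ZF.LL_odd_index hS
      have := (Suz.ZF.LL t Q).pow_index_mem v
      rwa [hm, pow_succ, pow_mul, pow_two, v2, one_pow, one_mul] at this
    have hst : stabilizer G a ≤ Suz.ZF.LL t Q := by
      rw [← hS.sup_eq]
      refine sup_le (Suz.ZF.Q_le_LL t Q) fun g hg => ?_
      have := hinv (t * g) (h.sw _ a (t • a) hta (by rw [mul_smul, hg.1])
        (by rw [mul_smul, hg.2, ← mul_smul, hS.mul_self, one_smul]))
      exact (mul_mem_cancel_left (Suz.ZF.t_mem_LL t Q)).mp this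
    rw [eq_top_iff]
    intro g _
    by_cases e : g • a = a
    · exact hst e
    obtain ⟨s, s1, s2⟩ := h.two a (g • a) (g • a) a (Ne.symm e) e
    exact (mul_mem_cancel_left (hinv s (h.sw s _ _ (Ne.symm e) s1 s2))).mp
      (hst (show (s * g) • a = a by rw [mul_smul, s2]))
  let E : G ≃* Suz.ZF.LL t Q := topEquiv.symm.trans (MulEquiv.subgroupCongr htop.symm)
  rcases hW.cases with h' | ⟨hn, h' | ⟨h', ω, hω, hω', ζ, hζ, -, hζ', g, hg, d, hd, e⟩⟩
  · obtain ⟨f⟩ := Z.equiv_PSL2 h'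
    exact Or.inl ⟨F, inferInstance, inferInstance, ⟨E.trans f⟩⟩
  · obtain ⟨F', _, _, m, hm, hF, ⟨f⟩⟩ := Z.isoSuzuki hW.two hn (Z.qOf_eq ▸ h')
    exact Or.inr (Or.inl ⟨F', inferInstance, inferInstance, m, hm, hF, ⟨E.trans f⟩⟩)
  · exfalso
    have hsp := Z.special hW.two hn
    have hω1 : ω ∈ Z.N := ⟨hω, fun e => hω' (Z.mem_Zs'.mp e).2⟩
    have hζ1 : ζ ∈ Suz.WW a t := Z.mem_WW.mpr ⟨hζ, fun b => hζ' _ (Z.z_mem b) (Z.z_mul_self b)⟩
    have r : Suz.Rel a t Q ω g d (ζ⁻¹ * ω⁻¹ * ζ) := ⟨hω, hg, hd, Suz.D_inv_conj_Q hS hζ (inv_mem hω), e⟩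
    have h4 : ω * ω * (ω * ω) = 1 := by
      rw [← hW.pow_four ω hω, show 4 = 2 * 2 from rfl, pow_mul, pow_two, pow_two]
    have := h.fix _ hω' h4 ζ (hζ' _ (mul_mem hω hω) h4) (Z.beta_ne hsp hω1 hζ1 r)
    have := two_le_nf hta hζ.1 hζ.2
    omega

theorem sq_of_three [Finite G] [Fintype Ω] {i : ℕ} (h : K G Ω i) (hi : 3 ≤ i) {u : G} (u1 : u ≠ 1)
    (u2 : u * u = 1) : (∀ d ∈ centralizer ({u} : Set G), d * d = 1) ∧
      ∃ s ∈ centralizer ({u} : Set G), s ≠ 1 ∧ s ≠ u := by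
  set D := centralizer ({u} : Set G) with hD
  set F := {x : Ω | u • x = x} with hF
  have hFi : F.ncard = i := h.nf_inv u1 u2
  have hinv : ∀ d ∈ D, ∀ x ∈ F, d • x ∈ F := fun d hd x hx => by
    show u • d • x = d • x
    rw [← mul_smul, ← mem_centralizer_singleton_iff.mp hd, mul_smul, hx]
  have hodd : ∀ g ∈ D, ∀ m : ℕ, Odd m → g ^ m = 1 → ∀ x ∈ F, g • x = x := by
    intro g hg m ⟨k, hk⟩ hm x hx
    have hc : Commute g u := mem_centralizer_singleton_iff.mp hg
    have e : (g * u) ^ m = u := by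
      rw [hc.mul_pow, hm, one_mul, hk, pow_succ, pow_mul, pow_two, u2, one_pow, one_mul]
    have h1 : nf Ω (g * u) = i := h.fix u u1 u2 _ (hc.mul_left (Commute.refl u)) fun e' => u1 (by
      rw [← e, e', one_pow])
    have hsub : {x : Ω | (g * u) • x = x} ⊆ F := fun y hy => by
      show u • y = y
      rw [← e]
      exact (stabilizer G y).pow_mem hy m
    have := Set.eq_of_subset_of_ncard_le hsub (by rw [hFi, ← nf_ncard, h1]) (Set.toFinite _)
    have hx' : (g * u) • x = x := (this.ge hx :)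
    rwa [mul_smul, hx] at hx'
  have h2 : ∀ d ∈ D, ∃ k : ℕ, ∀ x ∈ F, d ^ 2 ^ k • x = x := fun d hd => by
    obtain ⟨k, m, hm, e⟩ := Nat.exists_eq_two_pow_mul_odd (orderOf_pos d).ne'
    exact ⟨k, hodd _ (D.pow_mem hd _) m hm (by rw [← pow_mul, ← e, pow_orderOf_eq_one])⟩
  have hfx : ∀ x ∈ F, ∀ y ∈ F, x ≠ y → ∀ g : G, g • x = x → g • y = y → g ∈ D :=
    fun x hx y hy hxy g gx gy => mem_centralizer_singleton_iff.mpr (h.comm hxy gx gy hx hy)
  have hsw : ∀ x ∈ F, ∀ y ∈ F, x ≠ y → ∀ s : G, s • x = y → s • y = x → s ∈ D :=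
    fun x hx y hy hxy s sx sy => by
      have := h.inverts hxy sx sy hx hy
      rw [← eq_inv_of_mul_eq_one_left u2] at this
      exact mem_centralizer_singleton_iff.mpr (mul_inv_eq_iff_eq_mul.mp this)
  obtain ⟨x, y, z, hx, hy, hz, hxy, hxz, hyz⟩ := (Set.two_lt_ncard_iff (s := F) (Set.toFinite _)).mp (by omega)
  have hev : F.ncard ≡ 0 [MOD 2] := by
    have := par D F hinv h2
    rwa [Set.eq_empty_of_forall_notMem (s := {x : Ω | x ∈ F ∧ ∀ d ∈ D, d • x = x}) fun w hw => ?_,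
      Set.ncard_empty] at this
    obtain ⟨v, hv, hvw⟩ : ∃ v ∈ F, w ≠ v := by
      by_cases e : w = x
      · exact ⟨y, hy, e ▸ hxy⟩
      · exact ⟨x, hx, e⟩
    obtain ⟨s, s1, s2⟩ := h.two w v v w hvw hvw.symm
    exact hvw ((hw.2 s (hsw w hw.1 v hv hvw s s1 s2)).symm.trans s1)
  have hall : ∀ d ∈ D, d • x = x → ∀ y ∈ F, d • y = y := by
    have := (par (D ⊓ stabilizer G x) F (fun d hd => hinv d hd.1) (fun d hd => h2 d hd.1)).symm.trans hev
    obtain ⟨w, hw, hwx⟩ : ∃ w ∈ {y : Ω | y ∈ F ∧ ∀ d ∈ D ⊓ stabilizer G x, d • y = y}, w ≠ x := by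
      by_contra hc
      push Not at hc
      rw [(Set.eq_singleton_iff_unique_mem (s := {y : Ω | y ∈ F ∧ ∀ d ∈ D ⊓ stabilizer G x, d • y = y})).mpr
        ⟨⟨hx, fun d hd => hd.2⟩, hc⟩, Set.ncard_singleton] at this
      exact absurd this (by decide)
    intro d hd dx v hv
    by_cases e : x = v
    · rwa [← e]
    have h1 : stabilizer G x ⊓ stabilizer G v ≤ stabilizer G x ⊓ stabilizer G w := fun g hg =>
      ⟨hg.1, hw.2 g ⟨hfx x hx v hv e g hg.1 hg.2, hg.1⟩⟩
    have h3 := eq_of_le_of_card_ge h1 (h.card_two hwx.symm e).le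
    exact (h3.ge (show d ∈ stabilizer G x ⊓ stabilizer G w from ⟨dx, hw.2 d ⟨hd, dx⟩⟩)).2
  have hmv : ∀ d ∈ D, d • x ≠ x → d • d • x = x := fun d hd dx => by
    obtain ⟨s, s1, s2⟩ := h.two x (d • x) (d • x) x dx.symm dx
    have hs := hsw x hx _ (hinv d hd x hx) dx.symm s s1 s2
    have := hall (s * d) (mul_mem hs hd) (by rw [mul_smul, s2]) _ (hinv d hd x hx)
    rw [mul_smul] at this
    exact MulAction.injective s (this.trans s1.symm)
  obtain ⟨s₁, a1, a2⟩ := h.two x y y x hxy hxy.symm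
  obtain ⟨s₂, b1, b2⟩ := h.two x z z x hxz hxz.symm
  have hs₁ := hsw x hx y hy hxy s₁ a1 a2
  have hs₂ := hsw x hx z hz hxz s₂ b1 b2
  refine ⟨fun d hd => ?_, s₁, hs₁, fun e => hxy (by rw [← a1, e, one_smul]),
    fun e => hxy (by rw [← a1, e, hx])⟩
  by_cases dx : d • x = x
  swap
  · exact h.sw d x (d • x) (Ne.symm dx) rfl (hmv d hd dx)
  have hm : (s₁ * s₂) • x ≠ x := fun e => hyz (MulAction.injective s₁ (show s₁ • y = s₁ • z by
    rw [a2, ← b1, ← mul_smul, e]))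
  have e1 := h.inverts hxy a1 a2 dx (hall d hd dx y hy)
  have e2 := h.inverts hxz b1 b2 dx (hall d hd dx z hz)
  have e3 := h.inverts hm.symm rfl (hmv _ (mul_mem hs₁ hs₂) hm) dx
    (hall d hd dx _ (hinv _ (mul_mem hs₁ hs₂) x hx))
  have : d = d⁻¹ := by
    calc d = (s₁ * d * s₁⁻¹)⁻¹ := by rw [e1, inv_inv]
      _ = s₁ * (s₂ * d * s₂⁻¹) * s₁⁻¹ := by rw [e2]; group
      _ = _ := by rw [← e3]; group
  exact mul_eq_one_iff_eq_inv.mpr this

theorem case3 [Finite G] [Fintype Ω] {i : ℕ} (h : K G Ω i) (hi : 3 ≤ i) : L2 G ∨ Reg G Ω := by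
  haveI : Fact (Nat.Prime 2) := ⟨Nat.prime_two⟩
  obtain ⟨u, u1, u2⟩ := h.inv
  obtain ⟨hD, s, hs, s1, su⟩ := sq_of_three h hi u1 u2
  have hP : IsPGroup 2 (centralizer ({u} : Set G)) := fun d =>
    ⟨1, Subtype.ext (by rw [pow_one, pow_two]; exact hD d d.2)⟩
  obtain ⟨T, hT⟩ := hP.exists_le_sylow
  have hu : u ∈ centralizer ({u} : Set G) := mem_centralizer_singleton_iff.mpr rfl
  by_cases hn : (T : Subgroup G).Normal
  · haveI := T.isPGroup'.isNilpotent
    exact Or.inr (h.reg_of_solv T fun e => u1 (mem_bot.mp (e ▸ hT hu)))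
  obtain ⟨F, _, _, -, e⟩ := S1230.result T (fun hc => by
    classical
    haveI := Fintype.ofFinite T
    have := IsCyclic.card_pow_eq_one_le (α := T) (n := 2) two_pos
    refine absurd this (not_le.mpr (Finset.two_lt_card_iff.mpr ⟨1, ⟨u, hT hu⟩, ⟨s, hT hs⟩, by simp,
      ?_, ?_, fun e => u1 (congrArg Subtype.val e).symm, fun e => s1 (congrArg Subtype.val e).symm,
      fun e => su (congrArg Subtype.val e).symm⟩))
    · simp [Subtype.ext_iff, pow_two, u2]
    · simp [Subtype.ext_iff, pow_two, hD s hs]) hn fun t ht => by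
    obtain ⟨t1, t2⟩ := Ben.sq_of_two ht
    obtain ⟨hD, -⟩ := sq_of_three h hi t1 t2
    refine ⟨⟨⟨fun a b => Subtype.ext ?_⟩⟩, fun c hc => by rw [pow_two, hD c hc]⟩
    have h1 := eq_inv_of_mul_eq_one_left (hD _ a.2)
    have h2 := eq_inv_of_mul_eq_one_left (hD _ b.2)
    have h3 := eq_inv_of_mul_eq_one_left (hD _ (mul_mem a.2 b.2))
    rw [mul_inv_rev, ← h1, ← h2] at h3
    exact h3
  exact Or.inl ⟨F, inferInstance, inferInstance, e⟩

theorem main [Finite G] [Fintype Ω] {i : ℕ} (h : K G Ω i) : L2 G ∨ Cfsg.Lie.IsoSuzuki G ∨ Reg G Ω := by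
  rcases i with _ | _ | _ | i
  · exact (case0 h).imp_right Or.inr
  · exact case1 h
  · exact Or.inl (case2 h)
  · exact (case3 h (by omega)).imp_right Or.inr

end Cfsg.Agent.Gp.CF
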