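import Mathlib
import Cfsg.Agent.Gp.Main

/-! Perfect subgroups centralising a strongly closed subgroup of an almost simple group. -/

set_option autoImplicit false
set_option linter.unusedSectionVars false

namespace Cfsg.Agent.Gp

open Subgroup Cfsg.Agent.GW Cfsg.Agent.LocalEven Cfsg.Agent.BG Cfsg.Agent.Gs
open scoped commutatorElement

variable {G : Type*} [Group G] [Finite G] {L V T H D E : Subgroup G}

theorem bot_of_perf (hp : ⁅D, D⁆ = D) (hs : Group.IsSolvable D) : D = ⊥ :=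
  le_bot_iff.1 (le_of_perf_of_solv hp le_normalizer_of_normal le_normalizer_of_normal hs le_sup_right)

/-- A perfect group is generated by its 2-elements. -/
theorem le_of_perf (hp : ⁅D, D⁆ = D) (hn : D ≤ 𝐍(E)) (h : ∀ y ∈ D, (∃ k, y ^ 2 ^ k = 1) → y ∈ E) : D ≤ E := by
  refine (QuoApi.quo_eq_bot_iff hn).1 (bot_of_perf (by rw [← QuoApi.quo_commutator hn hn, hp])
    (solv_of_odd (odd_card_of_forall fun x hx => ?_)))
  obtain ⟨x, hx', rfl⟩ := QuoApi.mem_quo.1 hx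
  obtain ⟨s, hs, o, -, ⟨k, hk⟩, ho, rfl⟩ := exists_two_odd x
  have := QuoApi.quoMk_eq_one_iff.2 (h s (zpowers_le (H := D.subgroupOf 𝐍(E)).2 hx' hs) ⟨k, congrArg Subtype.val hk⟩)
  rw [map_mul, this, one_mul]
  exact ho.of_dvd_nat (orderOf_map_dvd _ o)

theorem mem_of_comm (h : BD L V T H) (hc : ⁅T, T⁆ = V) {y w : G} (hy : y ∈ H ⊓ 𝐂(V))
    (hf : ∀ t ∈ T, y * t * y⁻¹ * t⁻¹ ∈ V → t ∈ V) (hw : w ∈ 𝐍(T) ⊓ 𝐂(V)) (w2 : w * w ∈ T)
    (hτ : y⁻¹ * w * y * w⁻¹ ∈ T) : w ∈ T := by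
  refine h.stab w hw fun t ht => ?_
  have cm : ∀ a ∈ T, ∀ b ∈ T, a * b * a⁻¹ * b⁻¹ ∈ V := fun a ha b hb => hc ▸ commutator_mem_commutator ha hb
  have ha := conj_mem_of_mem_normalizer hw.1 ht
  obtain ⟨a, ea⟩ : ∃ a, a = w * t * w⁻¹ := ⟨_, rfl⟩
  rw [← ea] at ha ⊢
  have h1 := mul_mem ha (inv_mem ht)
  have h2 : w * (a * t⁻¹) * w⁻¹ * (a * t⁻¹)⁻¹ ∈ V := by
    convert mul_mem (cm _ w2 _ ht) (inv_mem (h.sq_mem _ h1)) using 1
    rw [ea]; group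
  have hs := conj_mem_of_mem_normalizer (h.H_le hy.1).2 h1
  obtain ⟨s, es⟩ : ∃ s, s = y * (a * t⁻¹) * y⁻¹ := ⟨_, rfl⟩
  have h3 : w * s * w⁻¹ * s⁻¹ ∈ V := by
    have := mul_mem (cm _ hτ _ (conj_mem_of_mem_normalizer hw.1 h1)) h2
    rw [← conj_eq_of_cent hy.2 this] at this
    convert this using 1
    rw [es]; group
  have h4 : s * s = a * t⁻¹ * (a * t⁻¹) := by rw [← conj_eq_of_cent hy.2 (h.sq_mem _ h1), es]; group
  rw [← es] at hs
  refine hf _ h1 (es ▸ h.omega _ (mul_mem hs (inv_mem h1)) (sq_mul_inv ?_ h4))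
  have c1 := cm _ ht _ hs
  have e1 : a * s * a⁻¹ = t * s * t⁻¹ * s⁻¹ * s := by
    rw [← conj_eq_of_cent hw.2 c1]
    calc _ = (w * s * w⁻¹ * s⁻¹)⁻¹ * (a * (w * s * w⁻¹ * s⁻¹) * a⁻¹) * (a * s * a⁻¹) := by
          rw [conj_eq_of_cent (h.central ha) h3]; group
      _ = (w * s * w⁻¹ * s⁻¹)⁻¹ * (w * (t * s * t⁻¹ * s⁻¹) * w⁻¹) * (w * s * w⁻¹ * s⁻¹) * s := by rw [ea]; group
      _ = _ := by rw [conj_eq_of_cent hw.2 c1, mul_assoc (w * s * w⁻¹ * s⁻¹)⁻¹,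
          mem_centralizer_iff.1 (h.central (h.le h3)) _ c1, inv_mul_cancel_left]
  calc s * (a * t⁻¹) = (a * (t * s * t⁻¹ * s⁻¹)⁻¹ * a⁻¹) * (a * s * a⁻¹) * (a * t⁻¹) := by
        rw [conj_eq_of_cent (h.central ha) (inv_mem c1), e1]; group
    _ = a * (t⁻¹ * (t * s * t⁻¹ * s⁻¹)⁻¹ * t⁻¹⁻¹) * s * t⁻¹ := by
        rw [conj_eq_of_cent (h.central (inv_mem ht)) (inv_mem c1)]; group
    _ = a * t⁻¹ * s * (t * s⁻¹ * s * t⁻¹) := by group
    _ = _ := by group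

theorem bd_perf (hL : AS L) (h : BD L V T H) (hp : ⁅D, D⁆ = D) (hD : D ≤ 𝐂(V)) : D = ⊥ := by
  haveI : Fact (Nat.Prime 2) := ⟨Nat.prime_two⟩
  obtain ⟨v, hv, v1, -⟩ := exists_third h.four 1
  have hn := hD.trans ((cent_le_cz hv).trans (h.cz_le hv v1))
  have key : D ≤ T → D = ⊥ := fun e => bot_of_perf hp (by haveI := (h.syl.pgrp.to_le e).isNilpotent; infer_instance)
  rcases h.cases with e | ⟨hc, ⟨e, -⟩ | ⟨-, y, hy, hf, -⟩⟩
  · exact key (hD.trans (e ▸ h.cent))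
  · exact key (hD.trans (h.sz_cent e))
  have nH : H ≤ 𝐍(T) := h.H_le.trans inf_le_right
  obtain ⟨x, rfl⟩ := Amb.cyclic_iff_exists.1 h.cyc
  have h1 : ⁅D, zpowers x⁆ ≤ T := (QuoApi.quo_le_centralizer_iff hn nH).1 (by
    rw [← hp, QuoApi.quo_commutator hn hn]
    refine Amb.der_le_cent_of_cyclic (by
      rw [QuoApi.quo_zpowers ⟨x, nH (mem_zpowers x)⟩]; infer_instance) ?_
    rw [QuoApi.quo_le_normalizer_iff' hn nH, sup_comm, ← h.borel]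
    exact le_normalizer_inf (fun g _ => hL.norm g) (hn.trans le_normalizer))
  refine key (le_of_perf hp hn fun w hw ⟨k, hk⟩ => ?_)
  have : w ^ 2 ^ k ∈ T := hk ▸ one_mem T
  clear hk
  induction k with
  | zero => simpa using this
  | succ k ih =>
    refine ih (mem_of_comm h hc hy hf ⟨hn (pow_mem hw _), hD (pow_mem hw _)⟩ (by rwa [← sq, ← pow_mul, ← pow_succ]) ?_)
    simpa [commutatorElement_def, mul_assoc] using inv_mem (h1 (commutator_mem_commutator (pow_mem hw (2 ^ k)) (inv_mem hy.1)))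

theorem gp_perf (h : GP L V) (hp : ⁅D, D⁆ = D) (hD : D ≤ 𝐂(V)) : D = ⊥ := by
  by_cases hS : SE L
  · obtain ⟨T, hT, e⟩ := exists_isSylowIn_le h.sc.pgroup h.le
    obtain ⟨H, hB⟩ := h.exists_BD hS hT e
    exact bd_perf h.toAS hB hp hD
  have := le_of_perf hp (hD.trans (cent_le_norm' V)) fun y hy ⟨_, hk⟩ =>
    h.two_inner (h.syl hS) h.sc.le_cent hk (hD hy)
  rw [← hp, commutator_eq_bot_iff_le_centralizer]
  exact hD.trans (cent_anti this)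

end Cfsg.Agent.Gp
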