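import Mathlib
import Cfsg.Agent.Gp.Perf

/-! Perfect subgroups centralising a strongly closed 2-subgroup centralise its normal closure modulo the core. -/

set_option autoImplicit false
set_option linter.unusedSectionVars false

namespace Cfsg.Agent.Gp

open Subgroup Cfsg.Agent.GW Cfsg.Agent.LocalEven Cfsg.Agent.BG Cfsg.Agent.Gs
open scoped commutatorElement

universe u

variable {G : Type u} [Group G] [Finite G] {X : Set G} {S D H P Q : Subgroup G} {x y : G}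

theorem CS.mx (h : CS X) (hS : IsSylowIn 2 S ⊤) (hP : IsPGroup 2 P) (hle : ∀ x ∈ X, x ∈ S → x ∈ P) (hx : x ∈ X)
    (hxP : x ∈ P) : x ∈ S := by
  haveI : Fact (Nat.Prime 2) := ⟨Nat.prime_two⟩
  obtain ⟨g, -, e⟩ := hS.exists_cj_le hP le_top
  have := eq_of_le_of_card_le (H := h.sub hS.pgrp) (K := h.sub hP) (fun x hx => ⟨hx.1, hle x hx.1 hx.2⟩) (by
    rw [← card_cj g]
    exact card_le_of_le (cj_le_iff'.2 fun x hx => ⟨h.conj x hx.1 g, e (conj_mem_cj hx.2)⟩))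
  exact (this.ge ⟨hx, hxP⟩).2

theorem CS.move (h : CS X) (hS : IsSylowIn 2 S ⊤) (hH : ∀ x ∈ X, x ∈ S → x ∈ H) (hQ : IsPGroup 2 Q)
    (QX : ∀ q ∈ Q, q ∈ X) (QH : Q ≤ H) : ∃ c ∈ H, Q ≤ cj c S := by
  haveI : Fact (Nat.Prime 2) := ⟨Nat.prime_two⟩
  obtain ⟨T, hT, e⟩ := exists_isSylowIn_le (hS.pgrp.to_le (h.sub_le hS.pgrp)) fun x hx => hH x hx.1 hx.2
  obtain ⟨c, hc, e'⟩ := hT.exists_le_cj hQ QH
  exact ⟨c, hc, fun q hq => mem_cj.2 (h.mx hS hT.pgrp (fun x a b => e ⟨a, b⟩)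
    (by simpa using h.conj q (QX q hq) c⁻¹) (mem_cj.1 (e' hq)))⟩

/-- A perfect subgroup centralising `X ∩ S`. -/
structure Gd (X : Set G) (S D : Subgroup G) : Prop where
  perf : ⁅D, D⁆ = D
  syl : IsSylowIn 2 S ⊤
  cent : ∀ x ∈ X, x ∈ S → x ∈ 𝐂(D)

theorem Gd.cj (hX : CS X) (h : Gd X S D) (g : G) : Gd X (cj g S) (cj g D) :=
  ⟨by rw [← cj_commutator, h.perf], h.syl.cj_of_mem (mem_top g), fun x a b => by
    rw [← cj_centralizer, mem_cj]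
    exact h.cent _ (by simpa using hX.conj x a g⁻¹) (mem_cj.1 b)⟩

theorem Gd.move (hX : CS X) (h : Gd X S D) (hy : y ∈ D) (hQ : IsPGroup 2 Q) (QX : ∀ q ∈ Q, q ∈ X) (hc : Q ≤ cz y) :
    ∃ S D, Gd X S D ∧ y ∈ D ∧ Q ≤ S :=
  let ⟨c, hc, e⟩ := hX.move h.syl (fun x a b => cent_le_cz hy (h.cent x a b)) hQ QX hc
  ⟨_, _, h.cj hX c, conj_eq_of_mem_cz hc ▸ conj_mem_cj hy, e⟩

theorem Gd.le_cent (h : Gd X S D) (QX : ∀ q ∈ Q, q ∈ X) (hQ : Q ≤ S) : D ≤ 𝐂(Q) :=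
  le_cent_comm.1 fun q hq => h.cent q (QX q hq) (hQ hq)

/-- The elements centralising `⟨X ∩ H⟩` modulo the core. -/
abbrev EM (X : Set G) (H : Subgroup G) : Subgroup G := centMod (NN X H) (oOf H)

theorem EM_cz (hP : IsPGroup 2 P) (hy : y ∈ EM X H) (yP : y ∈ P) (hx : x ∈ X) (xH : x ∈ H) (xP : x ∈ P) :
    x ∈ cz y := by
  have : ⁅x, y⁆ ∈ P ⊓ oOf H := 
    mem_inf.2 ⟨mul_mem (mul_mem (mul_mem xP yP) (inv_mem xP)) (inv_mem yP), hy.2 x (mem_NN hx xH)⟩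
  rw [inf_eq_bot_of_odd hP (odd_oOf H), mem_bot, commutatorElement_eq_one_iff_mul_comm] at this
  exact mem_cz.2 this

section
variable (h : CS X) (h0 : ∀ Q : Subgroup G, IsPGroup 2 Q → (∀ q ∈ Q, q ∈ X) → Q ≠ ⊥ → 𝐍(Q) ≠ ⊤)
  (ih : ∀ H : Subgroup G, H ≠ ⊤ → ∀ S, IsSylowIn 2 S H → ∀ D, D ≤ H → ⁅D, D⁆ = D →
    (∀ x ∈ X, x ∈ S → x ∈ 𝐂(D)) → D ≤ EM X H)
include h h0 ih

theorem le_EM (R : Subgroup G) : IsPGroup 2 R → (∀ q ∈ R, q ∈ X) → ∀ Q : Subgroup G, Q ≠ ⊥ → Q ≤ R → R ≤ 𝐍(Q) →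
    ∀ S D, Gd X S D → D ≤ 𝐂(R) → D ≤ EM X 𝐍(Q) := by
  haveI : Fact (Nat.Prime 2) := ⟨Nat.prime_two⟩
  induction R using WellFoundedGT.induction with
  | ind R ih' =>
  intro hR RX Q Q0 QR RQ S₀ D hD₀ DR
  have DQ : D ≤ 𝐍(Q) := DR.trans ((cent_anti QR).trans (cent_le_norm' Q))
  obtain ⟨T, hT, RT⟩ := exists_isSylowIn_le hR RQ
  by_cases e : h.sub hT.pgrp ≤ R
  · exact ih _ (h0 Q (hR.to_le QR) (fun q hq => RX q (QR hq)) Q0) T hT D DQ hD₀.perf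
      fun x a b => le_cent_comm.1 DR (e ⟨a, b⟩)
  obtain ⟨c, hc, RS⟩ := h.move hD₀.syl hD₀.cent hR RX (le_cent_comm.1 DR)
  have hD := hD₀.cj h c
  rw [cj_eq_of_mem_normalizer (cent_le_norm' D hc)] at hD
  have l1 := lt_inf_normalizer (hT.pgrp.to_le (h.sub_le hT.pgrp)) (lt_of_le_not_ge (fun x m => ⟨RX x m, RT m⟩) e)
  have l2 := lt_inf_normalizer (hD.syl.pgrp.to_le (h.sub_le hD.syl.pgrp)) (lt_of_le_not_ge (fun x m => ⟨RX x m, RS m⟩)
    fun e' => e fun x m => e' ⟨m.1, h.mx hD.syl hT.pgrp (fun x a b => RT (e' ⟨a, b⟩)) m.1 m.2⟩)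
  have R0 : R ≠ ⊥ := fun e => Q0 (le_bot_iff.1 (e ▸ QR))
  have h1 := ih' _ l2 (hD.syl.pgrp.to_le fun x m => m.1.2) (fun x m => m.1.1) R R0 l2.le inf_le_right _ D hD
    (hD.le_cent (fun x m => m.1.1) fun x m => m.1.2)
  have p1 : IsPGroup 2 (h.sub hT.pgrp ⊓ 𝐍(R) : Subgroup G) := hT.pgrp.to_le fun x m => m.1.2
  have n1 : h.sub hT.pgrp ⊓ 𝐍(R) ≤ 𝐍(Q) := fun x m => hT.le m.1.2
  obtain ⟨P, hP, e1⟩ := exists_isSylowIn_le p1 (le_inf n1 inf_le_right)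
  have nE : ∀ H : Subgroup G, H ≤ 𝐍(EM X H) := fun H => le_normalizer_centMod (h.le_norm_NN H) (le_normalizer_oOf H)
  refine le_of_perf hD.perf (DQ.trans (nE _)) fun y hy ⟨k, hk⟩ => ?_
  obtain ⟨g, hg, e2⟩ := hP.exists_conj_mem ⟨DQ hy, (DR.trans (cent_le_norm' R)) hy⟩ hk
  obtain ⟨S', D', h2, h3, h4⟩ := (hD.cj h g).move h (conj_mem_cj hy) p1 (fun x m => m.1.1) fun x m =>
    EM_cz hP.pgrp (conj_mem_of_mem_normalizer (nE _ hg.2) (h1 hy)) e2 m.1.1 m.2 (e1 m)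
  exact (mem_normalizer_iff.1 (nE _ hg.1) y).2 (ih' _ l1 p1 (fun x m => m.1.1) Q Q0 (QR.trans l1.le) n1 S' D' h2
    (h2.le_cent (fun x m => m.1.1) h4) h3)

theorem gd_at {S₀ : Subgroup G} (hD : Gd X S₀ D) (hy : y ∈ D) (hS : IsSylowIn 2 S ⊤) (yS : y ∈ S) :
    ∃ D, Gd X S D ∧ y ∈ D := by
  haveI : Fact (Nat.Prime 2) := ⟨Nat.prime_two⟩
  have p1 := hS.pgrp.to_le (h.sub_le hS.pgrp)
  have key : h.sub hS.pgrp ≤ cz y := by
    by_contra e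
    have l1 := lt_inf_normalizer p1 (lt_of_le_not_ge inf_le_left fun m => e (m.trans inf_le_right) :
      h.sub hS.pgrp ⊓ cz y < _)
    obtain ⟨S', D', h2, h3, h4⟩ := hD.move h hy (Q := h.sub hS.pgrp ⊓ cz y) p1.to_inf_left (fun x m => m.1.1) inf_le_right
    refine l1.not_ge fun x m => ⟨m.1, EM_cz hS.pgrp (le_EM h h0 ih _ p1.to_inf_left (fun x m => m.1.1) _ ?_ le_rfl
      le_normalizer S' D' h2 (h2.le_cent (fun x m => m.1.1) h4) h3) yS m.1.1 m.2 m.1.2⟩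
    rw [← cent_zpowers]
    exact inf_centralizer_ne_bot (hS.pgrp.to_le (zpowers_le.2 yS)) p1
      ((zpowers_le.2 yS).trans (le_normalizer.trans (h.norm_sub _))) fun e' => e (e'.le.trans bot_le)
  obtain ⟨S', D', h2, h3, h4⟩ := hD.move h hy p1 (fun x m => m.1) key
  exact ⟨D', ⟨h2.perf, hS, fun x a b => h2.cent x a (h4 ⟨a, b⟩)⟩, h3⟩

theorem pr_gd : Pr X {y | IsPGroup 2 (zpowers y) ∧ ∃ S D, Gd X S D ∧ y ∈ D} := by
  refine ⟨h, ⟨⟨by rw [zpowers_one_eq_bot]; exact IsPGroup.of_bot, ?_⟩, ?_, fun _ m => m.1, ?_⟩, ?_⟩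
  · obtain ⟨S, hS⟩ := exists_isSylowIn 2 (⊤ : Subgroup G)
    exact ⟨S, ⊥, ⟨by simp, hS, fun x _ _ => le_cz_iff.1 bot_le⟩, one_mem _⟩
  · rintro y ⟨a, S, D, b, c⟩ g
    exact ⟨cj_zpowers g y ▸ isPGroup_cj g a, _, _, b.cj h g, conj_mem_cj c⟩
  · rintro P hP y ⟨-, _, _, b, c⟩ z ⟨-, _, _, d, e⟩ yP zP
    obtain ⟨S, hS, PS⟩ := exists_isSylowIn_le hP le_top
    obtain ⟨D, f, g⟩ := gd_at h h0 ih b c hS (PS yP)
    obtain ⟨D', i, j⟩ := gd_at h h0 ih d e hS (PS zP)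
    exact ⟨hP.to_le (zpowers_le.2 (mul_mem yP zP)), S, D ⊔ D', ⟨le_antisymm (Core.commutator_le_of_le_normalizer le_normalizer)
      (sup_le (f.perf.ge.trans (commutator_mono le_sup_left le_sup_left))
        (i.perf.ge.trans (commutator_mono le_sup_right le_sup_right))), hS, fun x a b =>
      le_cz_iff.1 (sup_le (le_cz_iff.2 (f.cent x a b)) (le_cz_iff.2 (i.cent x a b)))⟩,
      mul_mem (mem_sup_left g) (mem_sup_right j)⟩
  · rintro P hP x hx y ⟨-, _, _, b, c⟩ xP yP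
    obtain ⟨S, hS, PS⟩ := exists_isSylowIn_le hP le_top
    obtain ⟨D, f, g⟩ := gd_at h h0 ih b c hS (PS yP)
    exact (mem_centralizer_iff.1 (f.cent x hx (PS xP)) y g).symm

theorem dis_gd (hO : oddCore G = ⊥) (hS : IsSylowIn 2 S ⊤) {v : G}
    (hv : v ∈ X ∩ {y | IsPGroup 2 (zpowers y) ∧ ∃ S D, Gd X S D ∧ y ∈ D}) : v = 1 := by
  haveI : Fact (Nat.Prime 2) := ⟨Nat.prime_two⟩
  have hp := pr_gd h h0 ih
  have hZ := hp.l.inter hp.r
  have hO' := oOf_top_eq.trans hO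
  obtain ⟨Q, -, -, q3, q4, q5⟩ := exists_P (⊤ : Subgroup G)
  haveI : Q.Normal := PGrp.normal_iff_top_le_normalizer.2 q3
  have hQ : IsPGroup 2 Q := by
    rw [hO'] at q4
    exact QuoApi.isPGroup_of_quo le_normalizer_of_normal IsPGroup.of_bot q4
  have hb : ∀ x ∈ X, x ∈ Q → x = 1 := fun x a b => by_contra fun c => h0 _ (hQ.to_le (h.sub_le hQ)) (fun _ m => m.1)
    (fun e => c (mem_bot.1 (e.le ⟨a, b⟩))) (top_le_iff.1 (q3.trans (h.norm_sub hQ)))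
  refine hb v hv.1 (q5 v (mem_top v) (fun L hL => hZ.le_Cent hO' hL (fun a ha aL => by_contra fun a1 => ?_) hv)
    ((commutator_zp_eq_bot.2 fun q hq => mem_cz_comm.1 (mem_cz_of_conj' ?_)).le.trans bot_le))
  swap
  · have m : v ∈ Q ⊔ zpowers v := mem_sup_right (mem_zpowers v)
    exact h.wk hb (hQ.to_sup_of_normal_left' (h.two v hv.1) le_normalizer_of_normal) hv.1 m (sup_le_cmd v (mem_sup_left hq)).2
      (mul_mem (mul_mem (mem_sup_left hq) m) (inv_mem (mem_sup_left hq)))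
  have hT := sylow_inf_sn hS hL.sn
  obtain ⟨g, hg, e⟩ := hZ.exists_conj hT ha aL
  have m1 := hZ.conj a ha g
  have m2 : g * a * g⁻¹ ∉ Cent L := fun m => a1 ((mem_normalizer_iff.1 (norm_le_norm_Cent L (le_normalizer hg)) a).2 m)
  obtain ⟨-, _, _, d1, d2⟩ := m1.2
  obtain ⟨D', d3, d4⟩ := gd_at h h0 ih d1 d2 hS e.1
  have nL : D' ≤ 𝐍(L) := fun d hd => hL.mem_norm_of_cz (le_normalizer (mem_top d)) e.2 m2
    (by rw [conj_eq_of_mem_cz (le_cz_iff.2 (d3.cent _ m1.1 e.1) hd)]; exact e.2)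
  have sur := QuotientGroup.mk'_surjective ((Cent L).subgroupOf 𝐍(L))
  have hW := ((hp.comap (𝐍(L)).subtype_injective).inter_normal (L.subgroupOf 𝐍(L))).image sur
  have hW' := ((hZ.comap (𝐍(L)).subtype_injective).inter_normal (L.subgroupOf 𝐍(L))).image sur
  have hT' := sylow_im le_normalizer hT
  obtain ⟨V, hV, VT, VX⟩ := hW'.exists_gp hL.as hT' (by rintro _ ⟨z, hz, rfl⟩; exact mem_map_of_mem _ hz.2)
    ⟨⟨_, le_normalizer e.2⟩, ⟨m1, e.2⟩, rfl⟩ (fun e' => m2 ((pr_eq_one (le_normalizer e.2)).1 ((pr_of _).trans e')))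
    (by
      rintro _ ⟨x, hx, rfl⟩ _ ⟨y, hy, rfl⟩ a b - -
      exact hW.comm _ hT'.pgrp _ ⟨x, ⟨hx.1.1, hx.2⟩, rfl⟩ _ ⟨y, ⟨hy.1.2, hy.2⟩, rfl⟩ a b)
  refine m2 ((im_eq_bot nL).1 (gp_perf hV (by rw [← im_comm nL nL, d3.perf]) (le_cent_comm.1 fun v hv => ?_)) d4)
  obtain ⟨z, hz, rfl⟩ := VX hv
  have zT := VT hv
  rw [QuotientGroup.mk'_apply, ← pr_coe] at zT ⊢
  refine pr_mem_cent z.2 (d3.cent z hz.1.1 ((inf_le_left : S ⊓ L ≤ S) ?_))
  rw [← hT.max _ inf_le_left (two_pre (two_rad hO' hL) hT'.pgrp)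
    fun p hp => ⟨hp.2, mem_pre.2 ⟨le_normalizer hp.2, pr_mem_im hp (le_normalizer hp.2)⟩⟩]
  exact ⟨hz.2, mem_pre.2 ⟨z.2, zT⟩⟩

end

theorem CS.lift (h : CS X) (hS : IsSylowIn 2 S ⊤) {K : Type*} [Group K] (f : G →* K) (hx : x ∈ X)
    (e : f x ∈ S.map f) : ∃ x' ∈ X, x' ∈ S ∧ f x' = f x := by
  obtain ⟨k, ⟨s, hs, e1⟩, e2⟩ := h.exists_conj (hS.mono (le_comap_map f S) le_top) hx e
  exact ⟨s⁻¹ * (k * x * k⁻¹) * s⁻¹⁻¹, h.conj _ (h.conj x hx k) _, mul_mem (mul_mem (inv_mem hs) e2) (inv_mem (inv_mem hs)),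
    by simp [e1, mul_assoc]⟩

theorem cent_main (G : Type u) [Group G] [Finite G] : ∀ (X : Set G) (S D : Subgroup G), CS X → Gd X S D →
    ⁅closure X, D⁆ ≤ oddCore G := by
  refine Core.induction_on_card (P := fun G _ _ => ∀ (X : Set G) (S D : Subgroup G), CS X → Gd X S D →
    ⁅closure X, D⁆ ≤ oddCore G) ?_ G
  intro G _ _ ih X S D h hD
  haveI : Fact (Nat.Prime 2) := ⟨Nat.prime_two⟩
  haveI := h.normal
  have quo : ∀ (N : Subgroup G) [N.Normal], N ≠ ⊥ →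
      ⁅closure X, D⁆ ≤ (oddCore (G ⧸ N)).comap (QuotientGroup.mk' N) := fun N _ h0 => by
    have sur := QuotientGroup.mk'_surjective N
    rw [← map_le_iff_le_comap, map_commutator, MonoidHom.map_closure]
    refine ih _ (Core.card_quotient_lt N h0) _ (S.map (QuotientGroup.mk' N)) _ (h.image sur)
      ⟨by rw [← map_commutator, hD.perf], map_top_of_surjective _ sur ▸ hD.syl.map _, ?_⟩
    rintro _ ⟨x, hx, rfl⟩ e
    obtain ⟨x, a, b, c⟩ := h.lift hD.syl _ hx e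
    rw [← c, mem_centralizer_iff]
    rintro _ ⟨d, hd, rfl⟩
    rw [← map_mul, mem_centralizer_iff.1 (hD.cent x a b) d hd, map_mul]
  by_cases hO : oddCore G = ⊥
  swap
  · have := quo _ hO
    rwa [show oddCore (G ⧸ oddCore G) = ⊥ from Core.pPrimeCore_quotient_pPrimeCore 2, MonoidHom.comap_bot, QuotientGroup.ker_mk'] at this
  have bot : ∀ N : Subgroup G, N.Normal → Odd (Nat.card N) → N = ⊥ := fun N a b =>
    le_bot_iff.1 (hO ▸ Inv.le_oddCore a b)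
  rw [hO, le_bot_iff]
  by_cases h0 : ∀ Q : Subgroup G, IsPGroup 2 Q → (∀ q ∈ Q, q ∈ X) → Q ≠ ⊥ → 𝐍(Q) ≠ ⊤
  swap
  · push Not at h0
    obtain ⟨Q, q1, q2, q3, q4⟩ := h0
    haveI := normalizer_eq_top_iff.1 q4
    have sur := QuotientGroup.mk'_surjective Q
    have c1 := hD.le_cent q2 (hD.syl.le_of_le_normalizer le_top q1 le_normalizer_of_normal)
    have hS := (isSylowIn_of_not_dvd (H := (oddCore (G ⧸ Q)).comap (QuotientGroup.mk' Q))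
      ((QuotientGroup.ker_mk' _).ge.trans (ker_le_comap _ _)) q1 (by
      nth_rewrite 1 [← QuotientGroup.ker_mk' Q]
      rw [relIndex_ker, map_comap_eq_self_of_surjective sur]
      exact not_two_dvd Inv.odd_card_oddCore)).inf_of_le_normalizer (N := _ ⊓ 𝐂(Q)) inf_le_left le_normalizer_of_normal
    have h1 := hS.pResOf_sup
    rw [bot (pResOf 2 _) (pResOf_normal _) (Nat.coprime_two_right.1 (coprime_pResOf_of_burnside hS
      ((inf_le_left.trans inf_le_right).trans (cent_anti inf_le_left)))), bot_sup_eq] at h1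
    have h2 : ⁅⁅closure X, D⁆, D⁆ = ⊥ := commutator_eq_bot_iff_le_centralizer.2 (((le_inf (quo Q q3)
      ((commutator_mono le_rfl c1).trans (commutator_le_right _ _))).trans (h1.ge.trans inf_le_left)).trans
      (le_cent_comm.1 c1))
    rw [commutator_comm, ← hD.perf]
    exact commutator_commutator_eq_bot_of_rotate (by rwa [commutator_comm D]) h2
  have ih' : ∀ H : Subgroup G, H ≠ ⊤ → ∀ S, IsSylowIn 2 S H → ∀ D, D ≤ H → ⁅D, D⁆ = D →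
      (∀ x ∈ X, x ∈ S → x ∈ 𝐂(D)) → D ≤ EM X H := fun H hH S hS D a b c => by
    have := map_mono (f := H.subtype) (ih H (Core.card_lt_of_ne_top H hH) _ (S.subgroupOf H) (D.subgroupOf H)
      (h.comap H.subtype_injective) ⟨by rw [← QuoApi.subgroupOf_commutator a a, b],
        subgroupOf_self H ▸ hS.subgroupOf le_rfl, fun x i j => mem_centralizer_iff.2 fun d hd =>
          Subtype.ext (mem_centralizer_iff.1 (c x i j) d hd)⟩)
    rw [map_commutator, map_closure_pre, map_subgroupOf_eq_of_le a] at this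
    exact le_centMod.2 ⟨a.trans (le_normalizer_oOf H), this⟩
  have hp := pr_gd h h0 ih'
  have h1 := pair_main G _ _ hp
  haveI := hp.r.normal
  rw [show pPrimeCore 2 G = ⊥ from hO, sup_bot_eq, closure_eq_bot_iff.2 fun v hv => dis_gd h h0 ih' hO hD.syl hv] at h1
  refine le_bot_iff.1 (le_trans (commutator_mono le_rfl ?_) h1)
  refine le_of_perf hD.perf le_normalizer_of_normal fun y hy ⟨k, hk⟩ =>
    Subgroup.subset_closure ⟨isPGroup_iff_mem.2 fun z hz => ⟨k, ?_⟩, S, D, hD, hy⟩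
  obtain ⟨n, rfl⟩ := mem_zpowers_iff.1 hz
  rw [← zpow_natCast, ← zpow_mul, mul_comm, zpow_mul, zpow_natCast, hk, one_zpow]

end Cfsg.Agent.Gp
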