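import Mathlib
import Cfsg.Agent.Gs.Basic
import Cfsg.Agent.GW.Four
import Cfsg.Agent.Inv.DihFus
import Cfsg.Agent.LocalEven.Spe
import Cfsg.Agent.LocalEven.Iso

/-! Abelian 2-subgroups any two conjugates of which generate a 2-nilpotent group. -/

set_option autoImplicit false
set_option linter.unusedSectionVars false

namespace Cfsg.Agent.Gp

open Subgroup Cfsg.Agent.GW Cfsg.Agent.LocalEven Cfsg.Agent.BG Cfsg.Agent.Gs
open scoped commutatorElement

universe u

variable {G : Type u} [Group G] [Finite G] {H K : Subgroup G} {a b o y g : G}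

/-- Any two conjugates of the abelian 2-group `H` generate a 2-nilpotent group with Sylow subgroup `H`. -/
structure EC (H : Subgroup G) : Prop where
  two : IsPGroup 2 H
  ab : H ≤ 𝐂(H)
  nil : ∀ g, ∃ K : Subgroup G, Odd (Nat.card K) ∧ H ⊔ cj g H ≤ 𝐍(K) ∧ cj g H ≤ K ⊔ H

theorem syl_sup (hH : IsPGroup 2 H) (hK : Odd (Nat.card K)) (hn : H ≤ 𝐍(K)) : IsSylowIn 2 H (K ⊔ H) :=
  haveI : Fact (Nat.Prime 2) := ⟨Nat.prime_two⟩
  isSylowIn_sup_of_not_dvd hH hn (not_two_dvd hK)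

theorem EC.pair (h : EC H) (k g : G) :
    ∃ K : Subgroup G, Odd (Nat.card K) ∧ cj k H ≤ 𝐍(K) ∧ cj g H ≤ K ⊔ cj k H := by
  obtain ⟨K, h1, h2, h3⟩ := h.nil (k⁻¹ * g)
  refine ⟨cj k K, by rwa [card_cj], ?_, ?_⟩
  · rw [← cj_normalizer]; exact cj_mono k (le_sup_left.trans h2)
  · have := cj_mono k h3
    rwa [cj_cj, mul_inv_cancel_left, cj_sup] at this

theorem EC.stab (h : EC H) (ha : a ∈ H) (a2 : a * a = 1) (hb : b ∈ H) (b2 : b * b = 1)
    (hn : cz b ≤ 𝐍(oOf (cz b) ⊔ H)) (ho : o ∈ oOf (cz b)) (hy : y ∈ cj g H) (y2 : y * y = 1)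
    (hodd : Odd (orderOf (a * y))) : Odd (orderOf (o * a * o⁻¹ * y)) := by
  haveI : Fact (Nat.Prime 2) := ⟨Nat.prime_two⟩
  obtain ⟨K, k1, k2, k3⟩ := h.nil g
  have nH := le_sup_left.trans k2
  have ny := k2 (mem_sup_right hy)
  have ab : a * b = b * a := mem_centralizer_iff.1 (h.ab hb) a ha
  have Hb : H ≤ cz b := le_cz_iff.2 (h.ab hb)
  have m1 : a * y ∈ K := Inv.mem_of_odd_of_mem_sup h.two nH (mul_mem (mem_sup_right ha) (k3 hy)) hodd
  have m2 : (b * y) ^ 2 ∈ K := by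
    have := mul_mem (conj_mem_of_mem_normalizer (nH (mul_mem hb ha)) m1) m1
    convert this using 1
    rw [mul_inv_rev, inv_of_sq a2, inv_of_sq b2, ab]
    calc _ = b * (a * a) * y * (b * (a * a) * y) := by rw [a2, mul_one, sq]
      _ = _ := by group
  obtain ⟨j, hj⟩ := odd_orderOf k1 m2
  obtain ⟨z, hz⟩ : ∃ z, z = (b * y) ^ (2 * j + 1) := ⟨_, rfl⟩
  have z2 : z * z = 1 := by rw [hz, ← pow_add, ← two_mul, pow_mul, ← hj, pow_orderOf_eq_one]
  have zb : z ∈ cz b := mem_cz_of_conj' (by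
    rw [hz, Inv.conj_pow_of_inverts (Inv.inverts_mul_left b2 y2), ← hz, inv_of_sq z2])
  have zy : z ∈ cz y := mem_cz_of_conj' (by
    rw [hz, Inv.conj_pow_of_inverts (Inv.inverts_mul_right b2 y2), ← hz, inv_of_sq z2])
  obtain ⟨w, hw, ez⟩ : ∃ w ∈ K, z = w * (b * y) := ⟨_, pow_mem m2 j, by rw [hz, pow_succ, pow_mul]⟩
  obtain ⟨k, -, e⟩ := (syl_sup h.two k1 nH).exists_le_cj ((pgroup_zp y2).to_sup_of_normal_left' (pgroup_zp z2)
    (zpowers_le.2 (cz_le_normalizer_zpowers y zy))) (sup_le (zpowers_le.2 (k3 hy)) (zpowers_le.2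
      (ez ▸ mul_mem (mem_sup_left hw) (mul_mem (mem_sup_right hb) (k3 hy)))))
  have yk := e (mem_sup_left (mem_zpowers y))
  have zk := e (mem_sup_right (mem_zpowers z))
  obtain ⟨L, l1, l2, l3⟩ := h.pair k o
  have ob := conj_eq_of_mem_cz (oOf_le _ ho)
  have f1 : b * (y * z) ∈ L := Inv.mem_of_odd_of_mem_sup (isPGroup_cj k h.two) l2
    (mul_mem (l3 (ob ▸ conj_mem_cj hb)) (mem_sup_right (mul_mem yk zk))) (odd_orderOf k1 (by
      have := mul_mem (conj_mem_of_mem_normalizer (mul_mem (nH hb) ny) hw) m2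
      convert this using 1
      rw [ez, sq]; group))
  have m3 : a * b * z ∈ K := by
    have := mul_mem (conj_mem_of_mem_normalizer (nH (mul_mem ha hb)) hw) m1
    convert this using 1
    rw [ez, mul_inv_rev, inv_of_sq a2, inv_of_sq b2]
    calc _ = a * b * w * b * (a * a) * y := by rw [a2]; group
      _ = _ := by group
  have abH := mul_mem ha hb
  obtain ⟨d, hd, ed⟩ := Inv.exists_conj_of_odd (x := a * b) (by
    calc _ = a * (b * a) * b := by group
      _ = a * a * (b * b) := by rw [← ab]; group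
      _ = 1 := by rw [a2, b2, mul_one]) z2 (odd_orderOf k1 m3)
  have m4 : a * b * z ∈ oOf (cz b) := Inv.mem_of_odd_of_mem_sup h.two (Hb.trans (le_normalizer_oOf _))
    (mul_mem (mem_sup_right abH) (ed ▸ conj_mem_of_mem_normalizer (hn (zpowers_le.2 (mul_mem (Hb abH) zb) hd))
      (mem_sup_right abH))) (odd_orderOf k1 m3)
  have f2 : o * (a * b) * o⁻¹ * z ∈ L := Inv.mem_of_odd_of_mem_sup (isPGroup_cj k h.two) l2
    (mul_mem (l3 (conj_mem_cj abH)) (mem_sup_right zk)) (odd_orderOf (odd_oOf (cz b)) (by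
      have := mul_mem (mul_mem ho (conj_mem_of_mem_normalizer (le_normalizer_oOf _ (Hb abH)) (inv_mem ho))) m4
      convert this using 1; group))
  refine odd_orderOf l1 ?_
  convert mul_mem f2 f1 using 1
  calc _ = o * a * o⁻¹ * (b * b) * y * (z * z) := by rw [b2, z2]; group
    _ = o * a * o⁻¹ * (o * b * o⁻¹) * (b * (y * z)) * z := by rw [ob]; group
    _ = o * (a * b) * o⁻¹ * (b * (y * z)) * z := by group
    _ = _ := by nth_rewrite 1 [← mem_cz.1 zy, ← mul_assoc b, ← mem_cz.1 zb]; group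

theorem EC.isolated (h : EC H) (ha : a ∈ H) (a2 : orderOf a = 2) (ht : normalClosure (H : Set G) = ⊤)
    (hn : ∀ b ∈ H, orderOf b = 2 → cz b ≤ 𝐍(oOf (cz b) ⊔ H)) : IsIsolatedInvolution a := by
  haveI : Fact (Nat.Prime 2) := ⟨Nat.prime_two⟩
  have aa := sq_of_two a2
  by_cases h1 : ∀ b ∈ H, orderOf b = 2 → b = a
  · refine ⟨a2, fun g hg => ?_⟩
    obtain ⟨K, k1, k2, k3⟩ := h.nil g
    obtain ⟨k, -, e⟩ := (syl_sup h.two k1 (le_sup_left.trans k2)).exists_cj_le ((pgroup_zp aa).to_sup_of_normal_left'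
      (pgroup_zp (conj_sq aa g)) (zpowers_le.2 (cz_le_normalizer_zpowers a (mem_cz.2 hg.symm.eq))))
      (sup_le (zpowers_le.2 (mem_sup_right ha)) (zpowers_le.2 (k3 (conj_mem_cj ha))))
    have := (h1 _ (e (conj_mem_cj (mem_sup_right (mem_zpowers _)))) (Inv.two_conj (Inv.two_conj a2 g) k)).trans
      (h1 _ (e (conj_mem_cj (mem_sup_left (mem_zpowers _)))) (Inv.two_conj a2 k)).symm
    simpa using this
  push Not at h1
  obtain ⟨c, hc, c2, ca⟩ := h1
  have cn : c ∈ nci a := ⟨c2, mem_centralizer_iff.1 (h.ab ha) c hc, ca⟩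
  let E : Set G := {y | (∃ g, y ∈ cj g H) ∧ y * y = 1 ∧ Odd (orderOf (a * y))}
  have key : ∀ o, (∀ g, ∀ y ∈ cj g H, y * y = 1 → Odd (orderOf (a * y)) → Odd (orderOf (o⁻¹ * a * o⁻¹⁻¹ * y))) →
      o ∈ normalizer E := fun o ho => mem_normalizer_fintype fun y ⟨⟨g, y1⟩, y2, y3⟩ =>
    ⟨⟨o * g, cj_cj o g H ▸ conj_mem_cj y1⟩, conj_sq y2 o, by
      rw [← Inv.orderOf_conj o⁻¹]; convert ho g y y1 y2 y3 using 2; group⟩
  have h2 : cz a ≤ normalizer E := fun o ho => key o fun _ y _ _ e => by rwa [conj_eq_of_mem_cz (inv_mem ho)]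
  have Ha : H ≤ cz a := le_cz_iff.2 (h.ab ha)
  have h3 : normalClosure (H : Set G) ≤ normalizer E := by
    refine (closure_le _).2 fun x hx => ?_
    obtain ⟨v, hv, e⟩ := Group.mem_conjugatesOfSet_iff.1 hx
    obtain ⟨g, rfl⟩ := isConj_iff.1 e
    obtain ⟨K, k1, k2, k3⟩ := h.nil g
    have nH := le_sup_left.trans k2
    have h4 : ∀ b ∈ H, orderOf b = 2 → K ⊓ cz b ≤ normalizer E := fun b hb b2 => by
      have Hb : H ≤ cz b := le_cz_iff.2 (h.ab hb)
      have o1 := odd_of_le k1 (inf_le_left : K ⊓ cz b ≤ K)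
      have n1 := le_normalizer_inf nH (Hb.trans le_normalizer) ha
      rw [← comm_sup_cz aa o1 n1]
      refine sup_le (fun o ho => key o fun g y y1 => h.stab ha aa hb (sq_of_two b2) (hn b hb b2) (inv_mem ?_) y1)
        (inf_le_right.trans h2)
      exact Inv.mem_of_odd_of_mem_sup h.two (Hb.trans (le_normalizer_oOf _)) (commutator_zp_le_of_mem
        (mem_sup_right ha) (inf_le_right.trans (hn b hb b2)) ho) (odd_orderOf o1 (commutator_zp_le_self n1 ho))
    exact sup_le (le_of_four a2 cn k1 (nH ha) (nH hc) (h4 a ha a2) (h4 c hc c2)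
      (h4 _ (mul_mem ha hc) (nci_two (nci_mul a2 cn)))) (Ha.trans h2) (k3 (conj_mem_cj hv))
  exact Inv.isolated_of_odd a2 fun g => ((mem_set_normalizer_iff.1 (h3 (ht.ge (mem_top g))) a).1
    (⟨⟨1, by simpa using ha⟩, aa, by simp [aa]⟩ : a ∈ E)).2.2

theorem EC.map (h : EC H) {Q : Type*} [Group Q] [Finite Q] {f : G →* Q} (hf : Function.Surjective f) :
    EC (H.map f) :=
  ⟨h.two.map f, by
    rintro _ ⟨x, hx, rfl⟩
    refine mem_centralizer_iff.2 ?_
    rintro _ ⟨y, hy, rfl⟩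
    rw [← map_mul, mem_centralizer_iff.1 (h.ab hx) y hy, map_mul], fun g => by
    obtain ⟨g, rfl⟩ := hf g
    obtain ⟨K, k1, k2, k3⟩ := h.nil g
    rw [← map_cj, ← Subgroup.map_sup]
    exact ⟨K.map f, k1.of_dvd_nat (card_map_dvd K f), (map_mono k2).trans (le_normalizer_map f),
      (map_mono k3).trans (Subgroup.map_sup _ _ _).le⟩⟩

theorem EC.sub (h : EC H) {L : Subgroup G} (hL : H ≤ L) : EC (H.subgroupOf L) :=
  ⟨h.two.comap_of_injective _ L.subtype_injective, fun x hx => mem_centralizer_iff.2 fun y hy =>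
    Subtype.ext (mem_centralizer_iff.1 (h.ab hx) y hy), fun g => by
    obtain ⟨K, k1, k2, k3⟩ := h.nil g
    have e : ∀ x ∈ cj g (H.subgroupOf L), (x : G) ∈ cj (g : G) H := fun x hx => mem_cj.2 (mem_cj.1 hx :)
    have e2 : H.subgroupOf L ⊔ cj g (H.subgroupOf L) ≤ (H ⊔ cj (g : G) H).subgroupOf L :=
      sup_le (comap_mono le_sup_left) fun z m => (mem_sup_right (e z m) :)
    refine ⟨K.subgroupOf L, k1.of_dvd_nat (card_comap_dvd_of_injective K _ L.subtype_injective), fun x hx =>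
      mem_normalizer_fintype fun y hy => (conj_mem_of_mem_normalizer (k2 (e2 hx)) hy :), fun x hx => ?_⟩
    obtain ⟨k, hk, y, hy, e'⟩ := (PGrp.mem_sup_of_le_normalizer (le_sup_left.trans k2)).1 (k3 (e x hx))
    have : x = (x * ⟨y, hL hy⟩⁻¹) * ⟨y, hL hy⟩ := by group
    rw [this]
    refine mul_mem (mem_sup_left ?_) (mem_sup_right hy)
    rw [mem_subgroupOf, coe_mul, ← e']
    simpa using hk⟩

theorem ec_main (G : Type u) [Group G] [Finite G] : ∀ H : Subgroup G, EC H → (oddCore G ⊔ H).Normal := by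
  refine Core.induction_on_card (P := fun G _ _ => ∀ H : Subgroup G, EC H → (oddCore G ⊔ H).Normal) ?_ G
  intro G _ _ ih H h
  haveI : Fact (Nat.Prime 2) := ⟨Nat.prime_two⟩
  have quo : ∀ (N : Subgroup G) [N.Normal], N ≠ ⊥ → oddCore (G ⧸ N) = ⊥ → (N ⊔ H).Normal := fun N _ h0 h1 => by
    have := (ih _ (Core.card_quotient_lt N h0) _ (h.map (QuotientGroup.mk'_surjective N))).comap (QuotientGroup.mk' N)
    rwa [h1, bot_sup_eq, comap_map_eq, QuotientGroup.ker_mk', sup_comm] at this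
  have sub : ∀ L : Subgroup G, L ≠ ⊤ → H ≤ L → L ≤ 𝐍(oOf L ⊔ H) := fun L h0 h1 => by
    have := (ih L (Core.card_lt_of_ne_top L h0) _ (h.sub h1))
    have h2 := le_normalizer_map (H := oddCore L ⊔ H.subgroupOf L) L.subtype
    rwa [normalizer_eq_top, Subgroup.map_sup, map_subgroupOf_eq_of_le h1, ← MonoidHom.range_eq_map, range_subtype] at h2
  by_cases hO : oddCore G = ⊥
  swap
  · exact quo _ hO (Core.pPrimeCore_quotient_pPrimeCore 2)
  rw [hO, bot_sup_eq]
  have bot : ∀ N : Subgroup G, N.Normal → Odd (Nat.card N) → N = ⊥ := fun N a b =>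
    le_bot_iff.1 (hO ▸ Inv.le_oddCore a b)
  by_cases ht : normalClosure (H : Set G) = ⊤
  swap
  · have h1 := sub _ ht le_normalClosure
    rw [bot (oOf _) (PGrp.normal_iff_top_le_normalizer.2 (le_normalizer_of_normal.trans
      (normalizer_le_normalizer_oOf _))) (odd_oOf _), bot_sup_eq] at h1
    refine normal_of_cj_le fun g => ?_
    obtain ⟨K, k1, k2, k3⟩ := h.nil g
    exact (syl_sup h.two k1 (le_sup_left.trans k2)).le_of_le_normalizer' k3 (isPGroup_cj g h.two)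
      (((cj_mono g le_normalClosure).trans (cj_eq_of_normal g _).le).trans h1)
  by_cases h0 : H = ⊥
  · rw [h0]; infer_instance
  obtain ⟨b, hb, b2, hc⟩ : ∃ b ∈ H, orderOf b = 2 ∧ cz b = ⊤ := by
    by_contra hc
    push Not at hc
    obtain ⟨a, ha, a2⟩ := exists_mem_orderOf_eq_of_ne_bot h.two h0
    exact hc a ha a2 (top_le_iff.1 fun g _ => mem_cz.2 (Inv.zstar_commute hO (h.isolated ha a2 ht fun b hb b2 =>
      sub _ (hc b hb b2) (le_cz_iff.2 (h.ab hb))) g).symm.eq)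
  haveI : (zpowers b).Normal := PGrp.normal_iff_top_le_normalizer.2 (hc.ge.trans (cz_le_normalizer_zpowers b))
  rw [← sup_eq_right.2 (zpowers_le.2 hb)]
  refine quo _ (by simpa using ne_one_of_orderOf_eq b2) ?_
  have sur := QuotientGroup.mk'_surjective (zpowers b)
  have hS : IsSylowIn 2 (zpowers b) ((oddCore (G ⧸ zpowers b)).comap (QuotientGroup.mk' _)) :=
    isSylowIn_of_not_dvd ((QuotientGroup.ker_mk' _).ge.trans (ker_le_comap _ _)) (pgroup_zp (sq_of_two b2)) (by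
      nth_rewrite 1 [← QuotientGroup.ker_mk' (zpowers b)]
      rw [relIndex_ker, map_comap_eq_self_of_surjective sur]
      exact not_two_dvd Inv.odd_card_oddCore)
  have h1 := hS.pResOf_sup
  haveI := pResOf_normal (p := 2) ((oddCore (G ⧸ zpowers b)).comap (QuotientGroup.mk' _))
  rw [bot (pResOf 2 _) this (Nat.coprime_two_right.1 (coprime_pResOf_of_burnside hS
    (le_top.trans (hc.ge.trans (cent_zpowers b).ge)))), bot_sup_eq] at h1
  rw [← map_comap_eq_self_of_surjective sur (oddCore _), ← h1, Subgroup.map_eq_bot_iff, QuotientGroup.ker_mk']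

end Cfsg.Agent.Gp
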