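import Mathlib
import Cfsg.Agent.Block.Sect
import Cfsg.Agent.Core.PConstrained

/-!
Pairs of elements of order `p` generating `p`-solvable subgroups, in groups with abelian Sylow
`p`-subgroups, and the principal block on sections with `p`-nilpotent centralizers.
-/

set_option autoImplicit false

namespace Cfsg.Agent.Gp

open Subgroup Cfsg.Agent.Char Cfsg.Agent.Block
open scoped ComplexConjugate

/-- All `p`-subgroups are abelian. -/
def AbP (p : ℕ) (G : Type*) [Group G] : Prop :=
  ∀ Q : Subgroup G, IsPGroup p Q → ∀ a ∈ Q, ∀ b ∈ Q, a * b = b * a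

section
variable {G : Type*} [Group G] [Finite G] {p : ℕ} [hp : Fact p.Prime]

theorem abP_of_sylow (P : Sylow p G) (h : ∀ a ∈ (P : Subgroup G), ∀ b ∈ (P : Subgroup G),
    a * b = b * a) : AbP p G := by
  intro Q hQ a ha b hb
  obtain ⟨T, hT⟩ := hQ.exists_le_sylow
  obtain ⟨g, rfl⟩ := MulAction.exists_smul_eq G P T
  have ha' := hT ha
  have hb' := hT hb
  rw [Sylow.coe_subgroup_smul, mem_pointwise_smul_iff_inv_smul_mem] at ha' hb'
  have := h _ ha' _ hb'
  rw [← smul_mul', ← smul_mul'] at this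
  exact smul_left_cancel _ this

omit [Finite G] hp in
theorem AbP.subgroup (h : AbP p G) (H : Subgroup G) : AbP p H := by
  intro Q hQ a ha b hb
  exact Subtype.ext (h (Q.map H.subtype) (hQ.map _) a ⟨a, ha, rfl⟩ b ⟨b, hb, rfl⟩)

theorem AbP.of_surj {K : Type*} [Group K] (h : AbP p G) {f : G →* K}
    (hf : Function.Surjective f) : AbP p K := by
  have : Finite K := Finite.of_surjective f hf
  obtain ⟨P⟩ : Nonempty (Sylow p G) := inferInstance
  refine abP_of_sylow (P.mapSurjective hf) ?_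
  rintro _ ⟨a, ha, rfl⟩ _ ⟨b, hb, rfl⟩
  rw [← map_mul, ← map_mul, h _ P.isPGroup' a ha b hb]

theorem mem_pCore_of_abP (h : AbP p G) (hs : IsPSolvable p G) (hO : pPrimeCore p G = ⊥)
    {a : G} (ha : IsPGroup p (zpowers a)) : a ∈ pCore p G := by
  apply Core.IsPSolvable.centralizer_pCore_le hs hO
  rw [mem_centralizer_iff]
  intro b hb
  have hQ : IsPGroup p (zpowers a ⊔ pCore p G : Subgroup G) :=
    ha.to_sup_of_normal_right (Core.pCore_isPGroup p)
  exact h _ hQ b (mem_sup_right hb) a (mem_sup_left (mem_zpowers a))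

theorem pair_mod (h : AbP p G) {x y : G} (hx : x ^ p = 1) (hy : y ^ p = 1)
    (hs : IsPSolvable p (closure ({x, y} : Set G))) :
    ¬ p ∣ orderOf ((x * y) ^ p) ∧
      ∀ i j : ℤ, ¬ p ∣ orderOf (x * y ^ i) → ¬ p ∣ orderOf (x * y ^ j) → y ^ i = y ^ j := by
  set H := closure ({x, y} : Set G) with hH
  let x' : H := ⟨x, subset_closure (by simp)⟩
  let y' : H := ⟨y, subset_closure (by simp)⟩
  let π := QuotientGroup.mk' (pPrimeCore p H)
  have hab : AbP p (H ⧸ pPrimeCore p H) := (h.subgroup H).of_surj (QuotientGroup.mk'_surjective _)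
  have hs' := Core.IsPSolvable.quotient hs (pPrimeCore p H)
  have hO := Core.pPrimeCore_quotient_pPrimeCore (G := H) p
  have hx' : x' ^ p = 1 := Subtype.ext hx
  have hy' : y' ^ p = 1 := Subtype.ext hy
  have hpg : ∀ a : H ⧸ pPrimeCore p H, a ^ p = 1 → a ∈ pCore p (H ⧸ pPrimeCore p H) := by
    intro a ha
    refine mem_pCore_of_abP hab hs' hO ?_
    obtain ⟨k, -, hk⟩ := (Nat.dvd_prime_pow hp.out (m := 1) (i := orderOf a)).1
      (by rw [pow_one]; exact orderOf_dvd_of_pow_eq_one ha)
    exact isPGroup_zpowers_of_orderOf ⟨k, hk⟩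
  have hxm := hpg (π x') (by rw [← map_pow, hx', map_one])
  have hym := hpg (π y') (by rw [← map_pow, hy', map_one])
  have hc : Commute (π x') (π y') := hab _ (Core.pCore_isPGroup p) _ hxm _ hym
  have hreg : ∀ a : H, π a = 1 → ¬ p ∣ orderOf (a : G) := by
    intro a ha hd
    have hm : a ∈ pPrimeCore p H := (QuotientGroup.eq_one_iff a).1 ha
    rw [Subgroup.orderOf_coe] at hd
    have h1 := (Subgroup.orderOf_dvd_natCard _ hm)
    exact (Nat.Prime.coprime_iff_not_dvd hp.out).1 (Core.pPrimeCore_coprime p).symm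
      (hd.trans h1)
  refine ⟨?_, ?_⟩
  · refine hreg ((x' * y') ^ p) ?_
    rw [map_pow, map_mul, hc.mul_pow, ← map_pow, ← map_pow, hx', hy']; simp
  · have key : ∀ i : ℤ, ¬ p ∣ orderOf (x * y ^ i) → π x' * π y' ^ i = 1 := by
      intro i hi
      refine eq_one_of_isPGroup_of_not_dvd hp.out (Core.pCore_isPGroup p)
        (mul_mem hxm (zpow_mem hym i)) ?_
      intro hd
      apply hi
      have : (x * y ^ i) = ((x' * y' ^ i : H) : G) := by simp [x', y']
      rw [this, Subgroup.orderOf_coe]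
      refine hd.trans ?_
      rw [← map_zpow, ← map_mul]
      exact orderOf_map_dvd _ _
    intro i j hi hj
    have h1 : π y' ^ i = π y' ^ j := mul_left_cancel ((key i hi).trans (key j hj).symm)
    have h2 : π (y' ^ (i - j)) = 1 := by rw [map_zpow, zpow_sub, h1, mul_inv_cancel]
    have h3 := hreg _ h2
    have h4 : (y ^ (i - j)) ^ p = 1 := by
      rw [← zpow_natCast, ← zpow_mul, mul_comm, zpow_mul, zpow_natCast, hy, one_zpow]
    have h5 : y ^ (i - j) = 1 := by
      rcases (Nat.dvd_prime hp.out).1 (orderOf_dvd_of_pow_eq_one h4) with h6 | h6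
      · exact orderOf_eq_one_iff.1 h6
      · exact absurd (by rw [Subgroup.coe_zpow, h6]) h3
    rwa [zpow_sub, mul_inv_eq_one] at h5

variable {M : Ideal AlgInt}

open Classical in
/-- The column of the principal block at a central `p`-element with `p`-nilpotent centralizer. -/
theorem phi_eq (hM : IsPModular p M) (P : Sylow p G) {u : G} (hu : u ∈ (P : Subgroup G))
    (hP : (P : Subgroup G) ≤ centralizer ({u} : Set G))
    (hC : HasNormalPComplement p (centralizer ({u} : Set G))) {g x : G} (hx : IsPPart p g x) :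
    ∑ χ : IrrCharacter G with χ ∈ principalBlock M G, (χ : G → ℂ) g * conj ((χ : G → ℂ) u) =
      if IsConj u x then (Nat.card (P : Subgroup G) : ℂ) else 0 := by
  have hu' := exists_orderOf_eq_pow_of_mem hp.out P.isPGroup' hu
  split_ifs with h
  · rw [Finset.sum_congr rfl fun χ hχ => by
      rw [principal_const_on_section hM hC (Finset.mem_filter.1 hχ).2 hx h]]
    rw [sum_principal_sq hM hu' hC, ← Nat.cast_pow, ← (P.subtype hP).card_eq_multiplicity,
      Sylow.coe_subtype, Nat.card_congr (subgroupOfEquivOfLe hP).toEquiv]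
  · exact block_orth_conj hM (isV_blockIdem hM isPBlock_principalBlock) hx
      (isPPart_self hp.out hu') fun h' => h h'.symm

omit hp in
open Classical in
theorem sum_phi_conj [Fintype G] (B : Set (IrrCharacter G)) (a b u : G) :
    ∑ g : G, ∑ χ : IrrCharacter G with χ ∈ B, (χ : G → ℂ) (g * a * g⁻¹ * b) * conj ((χ : G → ℂ) u) =
      Nat.card G * ∑ χ : IrrCharacter G with χ ∈ B,
        (χ : G → ℂ) a * (χ : G → ℂ) b * conj ((χ : G → ℂ) u) / (χ : G → ℂ) 1 := by
  rw [Finset.sum_comm, Finset.mul_sum]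
  refine Finset.sum_congr rfl fun χ _ => ?_
  rw [← Finset.sum_mul, isIrr_sum_conj_mul χ.2]
  ring

omit hp in
theorem ne_deg_of_simple [IsSimpleGroup G] {χ : IrrCharacter G} (h : χ ≠ oneIrr G) {x : G}
    (hx : x ≠ 1) : (χ : G → ℂ) x ≠ (χ : G → ℂ) 1 := by
  intro he
  have hk : x ∈ charKer (χ : G → ℂ) := (mem_charKer_iff (irr_isChar χ)).2 he
  rcases (charKer_normal (irr_classFun χ)).eq_bot_or_eq_top with h1 | h1
  · rw [h1] at hk; exact hx hk
  · exact h (Subtype.ext (isIrr_eq_one_of_charKer_eq_top χ.2 h1))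

end

end Cfsg.Agent.Gp
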