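import Mathlib

/-!
The arithmetic of eigenvalue multiplicities in a principal block with cyclic defect group.
-/

set_option autoImplicit false

namespace Cfsg.Agent.Gp

open Finset

theorem ps_ar1 {a c t : ℕ} (hc : 1 ≤ c) (hct : c + 1 ≤ t) :
    (c + 1 + 2 * a) * (c + 1) ≤ t * t * (c + (c + 1) * a) := by
  have hs1 : (c + 1) * (c + 1) ≤ t * t := Nat.mul_le_mul hct hct
  have hs2 : 2 ≤ t * t := by nlinarith
  have h1 : (c + 1) * (c + 1) ≤ t * t * c := hs1.trans (Nat.le_mul_of_pos_right _ hc)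
  have h2 : 2 * ((c + 1) * a) ≤ t * t * ((c + 1) * a) := Nat.mul_le_mul_right _ hs2
  nlinarith

theorem ps_ar2 {a c t : ℕ} (hc : 1 ≤ c) (hct : c + 1 ≤ t) :
    (2 + (c + 1) + 4 * a) * (c + 1) ≤ 2 * (t * t * (c + (c + 1) * a)) := by
  have hs1 : (c + 1) * (c + 1) ≤ t * t := Nat.mul_le_mul hct hct
  have hs2 : 2 ≤ t * t := by nlinarith
  have h1 : (c + 1) * (c + 1) ≤ t * t * c := hs1.trans (Nat.le_mul_of_pos_right _ hc)
  have h2 : 2 * ((c + 1) * a) ≤ t * t * ((c + 1) * a) := Nat.mul_le_mul_right _ hs2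
  nlinarith

theorem ps_ar3 {a c t : ℕ} (hc : 1 ≤ c) (hct : c + 1 ≤ t) :
    (c + 1) * (a + 1) ≤ 2 * (t * (c + (c + 1) * a)) := by
  have h1 : c + (c + 1) * a ≤ t * (c + (c + 1) * a) := Nat.le_mul_of_pos_left _ (by omega)
  nlinarith

theorem ps_ar4 {m x M a e : ℕ} (hM : 0 < M) (h0 : 2 * x ≤ 2 * M + e) (hm : m ≤ x + a * (M + 1)) :
    2 * m ≤ M * (2 + e + 4 * a) := by
  have h1 : e ≤ M * e := Nat.le_mul_of_pos_left _ hM
  have h2 : a ≤ M * a := Nat.le_mul_of_pos_left _ hM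
  nlinarith

/-- Multiplicity data: `f i k` is the multiplicity of the eigenvalue `k` in the character `i`. -/
structure CycData {ι R : Type*} [Fintype R] [DecidableEq R] [Zero R] (s : Finset ι) (o : ι)
    (f : ι → R → ℕ) (N : R → R → ℕ) (K : Finset R) (p e A : ℕ) : Prop where
  p3 : 3 ≤ p
  e2 : 2 ≤ e
  ep : e + 1 ≤ p
  o_mem : o ∈ s
  fo : ∀ k, f o k = if k = 0 then 1 else 0
  zero_mem : (0 : R) ∈ K
  cardK : K.card = A
  cardR : Fintype.card R = p * A
  N00 : N 0 0 = e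
  N0 : ∀ k, k ≠ 0 → N k 0 = 0
  Nd : ∀ k, k ≠ 0 → N k k = 1
  Ns : ∀ k l, N k l = N l k
  Ne : ∀ l, ∑ k, N k l = e
  N1 : ∀ k l, k ≠ 0 → N k l ≤ 1
  NK : ∀ k l, k ∈ K → N k l ≠ 0 → l ∈ K
  gram : ∀ k k' l', ∑ i ∈ s, (f i k : ℤ) * (f i k' - f i l') = N k' k - N l' k
  pos : ∀ i ∈ s, 0 < ∑ k, f i k
  faith : ∀ i ∈ s, i ≠ o → ∃ k, k ∉ K ∧ f i k ≠ 0

namespace CycData

variable {ι R : Type*} [Fintype R] [DecidableEq R] [Zero R] {s : Finset ι} {o : ι}
  {f : ι → R → ℕ} {N : R → R → ℕ} {K : Finset R} {p e A : ℕ} (h : CycData s o f N K p e A)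
include h

theorem gram2 (k l k' l' : R) : ∑ i ∈ s, ((f i k : ℤ) - f i l) * (f i k' - f i l') =
    N k' k - N l' k - N k' l + N l' l := by
  simp only [sub_mul, sum_sub_distrib, h.gram]; ring

theorem deg (k' l' : R) : ∑ i ∈ s, ((∑ k, f i k : ℕ) : ℤ) * (f i k' - f i l') = 0 := by
  simp only [Nat.cast_sum, sum_mul]
  rw [sum_comm]
  simp only [h.gram, sum_sub_distrib, ← Nat.cast_sum]
  rw [sum_congr rfl fun k _ => h.Ns k' k, sum_congr rfl fun k _ => h.Ns l' k, h.Ne, h.Ne, sub_self]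

theorem sq_le {i : ι} (hi : i ∈ s) (k l : R) :
    ((f i k : ℤ) - f i l) ^ 2 ≤ N k k - 2 * N k l + N l l := by
  have := h.gram2 k l k l
  rw [h.Ns l k] at this
  have h2 := single_le_sum (f := fun i => ((f i k : ℤ) - f i l) * (f i k - f i l))
    (fun i _ => mul_self_nonneg _) hi
  nlinarith

theorem le_add_one {i : ι} (hi : i ∈ s) {k l : R} (hk : k ≠ 0) (hl : l ≠ 0) :
    f i k ≤ f i l + 1 := by
  have := h.sq_le hi k l
  rw [h.Nd k hk, h.Nd l hl] at this
  by_contra hn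
  have h1 : (2 : ℤ) ≤ (f i k : ℤ) - f i l := by omega
  have h2 : (0 : ℤ) ≤ N k l := by positivity
  push_cast at this
  nlinarith

theorem eq_of_rel {i : ι} (hi : i ∈ s) {k l : R} (hk : k ≠ 0) (hN : N k l ≠ 0) :
    f i k = f i l := by
  have hl : l ≠ 0 := by rintro rfl; exact hN (h.N0 k hk)
  have := h.sq_le hi k l
  rw [h.Nd k hk, h.Nd l hl] at this
  have h2 : (1 : ℤ) ≤ N k l := by omega
  push_cast at this
  have h3 : ((f i k : ℤ) - f i l) ^ 2 = 0 := le_antisymm (by linarith) (sq_nonneg _)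
  have := pow_eq_zero_iff (two_ne_zero) |>.1 h3
  omega

theorem zero_le [DecidableEq ι] {i : ι} (hi : i ∈ s) (hio : i ≠ o) {l : R} (hl : l ≠ 0) :
    2 * f i 0 ≤ 2 * f i l + e := by
  have := h.gram2 0 l 0 l
  rw [h.Ns 0 l, h.N0 l hl, h.N00, h.Nd l hl, ← add_sum_erase _ _ h.o_mem, h.fo, h.fo, if_pos rfl,
    if_neg hl] at this
  have h2 := single_le_sum (f := fun i => ((f i 0 : ℤ) - f i l) * (f i 0 - f i l))
    (fun i _ => mul_self_nonneg _) (mem_erase.2 ⟨hio, hi⟩)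
  have h3 : ((f i 0 : ℤ) - f i l) * (f i 0 - f i l) ≤ e := by push_cast at this; linarith
  have h4 : (2 : ℤ) ≤ e := by exact_mod_cast h.e2
  have : 2 * ((f i 0 : ℤ) - f i l) ≤ e := by
    by_contra hn
    have h5 : 2 ≤ (f i 0 : ℤ) - f i l := by omega
    nlinarith
  omega

theorem four [DecidableEq ι] {i : ι} (hi : i ∈ s) {k k' l l' : R} (hk : k ≠ 0) (hk' : k' ≠ 0)
    (hl : l ≠ 0) (hl' : l' ≠ 0) (h1 : f i k = 1) (h2 : f i k' = 1) (h3 : f i l = 0)
    (h4 : f i l' = 0) (hN : N k k' = 0) : N l l' ≠ 0 := by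
  intro hN'
  have z : ∀ a b : R, a ≠ 0 → f i a = 1 → f i b = 0 → N a b = 0 := fun a b ha h5 h6 => by
    by_contra hn
    have := h.eq_of_rel hi ha hn
    omega
  have g1 := h.gram2 k l k l
  have g2 := h.gram2 k' l' k' l'
  have g3 := h.gram2 k l k' l'
  rw [h.Ns l k, z k l hk h1 h3, h.Nd k hk, h.Nd l hl] at g1
  rw [h.Ns l' k', z k' l' hk' h2 h4, h.Nd k' hk', h.Nd l' hl'] at g2
  rw [h.Ns k' k, hN, h.Ns l' k, z k l' hk h1 h4, z k' l hk' h2 h3, h.Ns l' l, hN'] at g3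
  set v : ι → ℤ := fun j => ((f j k : ℤ) - f j l) + (f j k' - f j l') with hv
  have g4 : ∑ j ∈ s, v j * v j = 4 := by
    have : ∀ j, v j * v j = ((f j k : ℤ) - f j l) * (f j k - f j l) +
        ((f j k' : ℤ) - f j l') * (f j k' - f j l') +
        2 * (((f j k : ℤ) - f j l) * (f j k' - f j l')) := fun j => by simp only [hv]; ring
    simp only [this, sum_add_distrib, ← mul_sum, g1, g2, g3]; norm_num
  have vi : v i = 2 := by simp [hv, h1, h2, h3, h4]
  rw [← add_sum_erase _ _ hi, vi] at g4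
  have g5 : ∀ j ∈ s.erase i, v j = 0 := by
    have := (sum_eq_zero_iff_of_nonneg (s := s.erase i) (f := fun j => v j * v j)
      fun j _ => mul_self_nonneg _).1 (by linarith)
    exact fun j hj => mul_self_eq_zero.1 (this j hj)
  have g6 : ∑ j ∈ s, ((∑ k, f j k : ℕ) : ℤ) * v j = 0 := by
    simp only [hv, mul_add, sum_add_distrib, h.deg, add_zero]
  rw [← add_sum_erase _ _ hi, vi, sum_eq_zero (s := s.erase i) fun j hj => by rw [g5 j hj, mul_zero]] at g6
  have := h.pos i hi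
  omega

theorem A_pos : 1 ≤ A := h.cardK ▸ card_pos.2 ⟨0, h.zero_mem⟩

theorem card_compl' : Kᶜ.card = (p - 1) * A := by
  rw [card_compl, h.cardR, h.cardK, Nat.sub_one_mul]

theorem ne_zero_of {k : R} (hk : k ∈ Kᶜ) : k ≠ 0 := by
  rintro rfl; exact mem_compl.1 hk h.zero_mem

theorem sum_N_compl {l : R} (hl : l ∈ Kᶜ) : ∑ k ∈ Kᶜ, N l k = e := by
  rw [← h.Ne l, ← sum_add_sum_compl K, sum_eq_zero (s := K), zero_add]
  · exact sum_congr rfl fun k _ => h.Ns _ _
  · intro k hk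
    by_contra hn
    exact mem_compl.1 hl (h.NK k l hk hn)

theorem bound [DecidableEq ι] {i : ι} (hi : i ∈ s) (hio : i ≠ o) :
    (∑ k ∈ K, f i k) * (e * A) ≤ (∑ k ∈ Kᶜ, f i k) * ((p - 1) * (e * A - 1)) := by
  obtain ⟨ν, hν, hν1⟩ := h.faith i hi hio
  have hν' : ν ∈ Kᶜ := mem_compl.2 hν
  obtain ⟨l, hl, hmin⟩ := exists_min_image Kᶜ (f i) ⟨ν, hν'⟩
  have hl0 := h.ne_zero_of hl
  have hν0 := h.ne_zero_of hν'
  obtain ⟨a, rfl⟩ : ∃ a, A = a + 1 := ⟨A - 1, by have := h.A_pos; omega⟩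
  obtain ⟨t, rfl⟩ : ∃ t, p = t + 1 := ⟨p - 1, by have := h.p3; omega⟩
  obtain ⟨c, rfl⟩ : ∃ c, e = c + 1 := ⟨e - 1, by have := h.e2; omega⟩
  have ht : 2 ≤ t := by have := h.p3; omega
  have hc : 1 ≤ c := by have := h.e2; omega
  have hct : c + 1 ≤ t := by have := h.ep; omega
  have e1 : (c + 1) * (a + 1) - 1 = c + (c + 1) * a := by
    rw [Nat.sub_eq_iff_eq_add (by nlinarith)]; ring
  rw [Nat.add_sub_cancel, e1]
  have hcK := h.card_compl'
  rw [Nat.add_sub_cancel] at hcK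
  have h0 := h.zero_le hi hio hl0
  have hm : ∑ k ∈ K, f i k ≤ f i 0 + a * (f i l + 1) := by
    rw [← add_sum_erase _ _ h.zero_mem]
    have := sum_le_card_nsmul (K.erase 0) (f i) (f i l + 1) fun k hk =>
      h.le_add_one hi (mem_erase.1 hk).1 hl0
    rw [card_erase_of_mem h.zero_mem, h.cardK, Nat.add_sub_cancel, smul_eq_mul] at this
    exact Nat.add_le_add_left this _
  set m := ∑ k ∈ K, f i k with hm'
  set r := ∑ k ∈ Kᶜ, f i k with hr'
  rcases Nat.eq_zero_or_pos (f i l) with hM | hM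
  · rw [hM] at h0 hm
    have hle : ∀ k, k ≠ 0 → f i k ≤ 1 := fun k hk => by
      have := h.le_add_one hi hk hl0; omega
    have hν2 : f i ν = 1 := by have := hle ν hν0; omega
    have hre : c + 1 ≤ r := by
      rw [← h.sum_N_compl hν']
      refine sum_le_sum fun k hk => ?_
      by_cases hN : N ν k = 0
      · omega
      · have := h.eq_of_rel hi hν0 hN
        have := h.N1 ν k hν0
        omega
    by_cases hk' : ∃ k', k' ≠ 0 ∧ f i k' = 1 ∧ N ν k' = 0
    · obtain ⟨k', hk0, hk1, hk2⟩ := hk'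
      have h1 : t * (a + 1) ≤ r + (c + 1) := by
        rw [← h.sum_N_compl hl, ← sum_add_distrib, ← hcK, card_eq_sum_ones]
        refine sum_le_sum fun k hk => ?_
        by_cases hz : f i k = 0
        · have := h.four hi hν0 hk0 hl0 (h.ne_zero_of hk) hν2 hk1 hM hz hk2
          omega
        · omega
      have h2 : t * (a + 1) ≤ 2 * r := by omega
      have h3 : 2 * m ≤ c + 1 + 2 * a := by omega
      have h4 := ps_ar1 (a := a) hc hct
      have h5 : 2 * (m * ((c + 1) * (a + 1))) ≤ 2 * (r * (t * (c + (c + 1) * a))) :=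
        calc 2 * (m * ((c + 1) * (a + 1))) = (2 * m) * (c + 1) * (a + 1) := by ring
          _ ≤ (c + 1 + 2 * a) * (c + 1) * (a + 1) := by gcongr
          _ ≤ t * t * (c + (c + 1) * a) * (a + 1) := by gcongr
          _ = (t * (a + 1)) * (t * (c + (c + 1) * a)) := by ring
          _ ≤ (2 * r) * (t * (c + (c + 1) * a)) := by gcongr
          _ = _ := by ring
      omega
    · push Not at hk'
      have h1 : m = f i 0 := by
        rw [hm', ← add_sum_erase _ _ h.zero_mem, sum_eq_zero, add_zero]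
        intro k hk
        by_contra hz
        have hk0 := (mem_erase.1 hk).1
        have := hle k hk0
        exact hν (h.NK k ν (mem_erase.1 hk).2 (h.Ns ν k ▸ hk' k hk0 (by omega)))
      have h2 : 2 * m ≤ r := by omega
      have h3 := ps_ar3 (a := a) hc hct
      have h5 : 2 * (m * ((c + 1) * (a + 1))) ≤ 2 * (r * (t * (c + (c + 1) * a))) :=
        calc 2 * (m * ((c + 1) * (a + 1))) = (2 * m) * ((c + 1) * (a + 1)) := by ring
          _ ≤ r * (2 * (t * (c + (c + 1) * a))) := by gcongr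
          _ = _ := by ring
      omega
  · set M := f i l with hMl
    have hr : t * (a + 1) * M ≤ r := by
      have := card_nsmul_le_sum Kᶜ (f i) M fun k hk => hmin k hk
      rwa [hcK, smul_eq_mul] at this
    have h3 := ps_ar4 hM h0 hm
    have h4 := ps_ar2 (a := a) hc hct
    have h5 : 2 * (m * ((c + 1) * (a + 1))) ≤ 2 * (r * (t * (c + (c + 1) * a))) :=
      calc 2 * (m * ((c + 1) * (a + 1))) = (2 * m) * (c + 1) * (a + 1) := by ring
        _ ≤ M * (2 + (c + 1) + 4 * a) * (c + 1) * (a + 1) := by gcongr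
        _ = M * ((2 + (c + 1) + 4 * a) * (c + 1)) * (a + 1) := by ring
        _ ≤ M * (2 * (t * t * (c + (c + 1) * a))) * (a + 1) := by gcongr
        _ = 2 * ((t * (a + 1) * M) * (t * (c + (c + 1) * a))) := by ring
        _ ≤ _ := by gcongr
    omega

/-- The weight of an eigenvalue. -/
def w (K : Finset R) (p : ℕ) (k : R) : ℤ := if k ∈ K then p - 1 else -1

theorem sum_w : ∑ k, w K p k = 0 := by
  rw [← sum_add_sum_compl K, sum_congr rfl fun k hk => show w K p k = p - 1 from if_pos hk,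
    sum_congr rfl fun k hk => show w K p k = -1 from if_neg (mem_compl.1 hk), sum_const,
    sum_const, h.card_compl', h.cardK]
  have := h.p3
  simp only [nsmul_eq_mul]
  push_cast [Nat.cast_sub (show 1 ≤ p by omega)]
  ring

theorem sum_w_sq : ∑ k, w K p k * w K p k = (p - 1) * p * A := by
  rw [← sum_add_sum_compl K, sum_congr rfl fun k hk =>
      show w K p k * w K p k = (p - 1) * (p - 1) by rw [w, if_pos hk],
    sum_congr rfl fun k hk => show w K p k * w K p k = 1 by rw [w, if_neg (mem_compl.1 hk)]; simp,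
    sum_const, sum_const, h.card_compl', h.cardK]
  have := h.p3
  simp only [nsmul_eq_mul]
  push_cast [Nat.cast_sub (show 1 ≤ p by omega)]
  ring

theorem sum_f_sigma (k : R) : ∑ i ∈ s, (f i k : ℤ) * ∑ l, w K p l * f i l = w K p k * e := by
  have h1 : ∀ i, ∑ l, w K p l * f i l = ∑ l, w K p l * ((f i l : ℤ) - f i 0) := fun i => by
    simp only [mul_sub, sum_sub_distrib, ← sum_mul, h.sum_w]; ring
  simp only [h1, mul_sum]
  rw [sum_comm]
  have h2 : ∀ l, ∑ i ∈ s, (f i k : ℤ) * (w K p l * ((f i l : ℤ) - f i 0)) =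
      w K p l * (N l k - N 0 k) := fun l => by
    rw [← h.gram, mul_sum]; exact sum_congr rfl fun i _ => by ring
  simp only [h2]
  simp only [mul_sub, sum_sub_distrib, ← sum_mul, h.sum_w]
  rw [← h.Ne k, Nat.cast_sum, mul_sum, zero_mul, sub_zero]
  refine sum_congr rfl fun l _ => ?_
  by_cases hN : N l k = 0
  · simp [hN]
  · have : l ∈ K ↔ k ∈ K := ⟨fun hl => h.NK l k hl hN, fun hk => h.NK k l hk (h.Ns l k ▸ hN)⟩
    simp only [w, this]

theorem cube_lt [DecidableEq ι] :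
    ∑ i ∈ s, ((∑ l, w K p l * f i l : ℤ) : ℝ) ^ 3 / ((∑ k, f i k : ℕ) : ℝ) <
      (p - 1) * (p - 2) * e * (p * A) := by
  set σ : ι → ℤ := fun i => ∑ l, w K p l * f i l with hσ
  set D : ι → ℕ := fun i => ∑ k, f i k with hD
  change ∑ i ∈ s, (σ i : ℝ) ^ 3 / (D i : ℝ) < _
  have h1 : ∑ i ∈ s, σ i * σ i = (p - 1) * p * A * e := by
    rw [← h.sum_w_sq, sum_mul]
    have : ∀ i, σ i * σ i = ∑ k, w K p k * ((f i k : ℤ) * σ i) := fun i => by
      conv_lhs => rw [hσ]; simp only; rw [sum_mul]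
      exact sum_congr rfl fun k _ => by ring
    simp only [this]
    rw [sum_comm]
    refine sum_congr rfl fun k _ => ?_
    rw [← mul_sum, h.sum_f_sigma]; ring
  have h2 : ∑ i ∈ s, (D i : ℤ) * σ i = 0 := by
    simp only [hD, Nat.cast_sum, sum_mul]
    rw [sum_comm]
    simp only [hσ, h.sum_f_sigma, ← sum_mul, h.sum_w, zero_mul]
  have hp3 := h.p3
  have hsplit : ∀ i, σ i = (p - 1) * (∑ k ∈ K, f i k : ℕ) - (∑ k ∈ Kᶜ, f i k : ℕ) := fun i => by
    simp only [hσ]
    rw [← sum_add_sum_compl K, sum_congr rfl fun k hk =>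
        show w K p k * f i k = (p - 1) * f i k by rw [w, if_pos hk],
      sum_congr rfl fun k hk => show w K p k * f i k = -f i k by
        rw [w, if_neg (mem_compl.1 hk)]; simp, ← mul_sum, sum_neg_distrib]
    push_cast; ring
  have hDs : ∀ i, D i = (∑ k ∈ K, f i k) + ∑ k ∈ Kᶜ, f i k := fun i =>
    (sum_add_sum_compl K _).symm
  have hoK : ∑ k ∈ K, f o k = 1 := by simp [h.fo, h.zero_mem]
  have hoK' : ∑ k ∈ Kᶜ, f o k = 0 := sum_eq_zero fun k hk => by
    rw [h.fo, if_neg (h.ne_zero_of hk)]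
  have ho1 : σ o = p - 1 := by rw [hsplit, hoK, hoK']; simp
  have ho2 : D o = 1 := by rw [hDs, hoK, hoK']
  obtain ⟨j, hj, hj0⟩ : ∃ j ∈ s, σ j < 0 := by
    by_contra hn
    push Not at hn
    have := single_le_sum (f := fun i => (D i : ℤ) * σ i)
      (fun i hi => mul_nonneg (by positivity) (hn i hi)) h.o_mem
    simp only [ho1, ho2] at this
    omega
  have hjo : j ≠ o := by rintro rfl; omega
  have hP : (3 : ℝ) ≤ p := by exact_mod_cast hp3
  have hE : (2 : ℝ) ≤ e := by exact_mod_cast h.e2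
  have hA : (1 : ℝ) ≤ A := by exact_mod_cast h.A_pos
  have hEA : (2 : ℝ) ≤ e * A := by nlinarith
  set u : ℝ := e * A with hu
  have hden : 0 < p * u - p + 1 := by nlinarith
  set c : ℝ := (p - 1) - p * u / (p * u - p + 1) with hc
  have key : ∀ i ∈ s, ∀ m r : ℝ, (D i : ℝ) = m + r → (σ i : ℝ) = (p - 1) * m - r →
      (m * u ≤ r * ((p - 1) * (u - 1)) → (σ i : ℝ) / D i ≤ c) ∧
      (m * u < r * ((p - 1) * (u - 1)) → (σ i : ℝ) / D i < c) := by
    intro i hi m r e1 e2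
    have hDi : (0 : ℝ) < D i := by exact_mod_cast h.pos i hi
    have e3 : c - (σ i : ℝ) / D i =
        p * (r * ((p - 1) * (u - 1)) - m * u) / (D i * (p * u - p + 1)) := by
      rw [hc, e2, eq_div_iff (by positivity)]
      have e5 : p * u / (p * u - p + 1) * (p * u - p + 1) = p * u := div_mul_cancel₀ _ hden.ne'
      have e6 : ((p - 1) * m - r) / (D i : ℝ) * D i = (p - 1) * m - r :=
        div_mul_cancel₀ _ hDi.ne'
      linear_combination (-(D i : ℝ)) * e5 - (p * u - p + 1) * e6 +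
        ((p - 1) * (p * u - p + 1) - p * u) * e1
    have e4 : 0 < (D i : ℝ) * (p * u - p + 1) := by positivity
    constructor
    · intro hle
      have : 0 ≤ c - (σ i : ℝ) / D i := by
        rw [e3]; exact div_nonneg (mul_nonneg (by linarith) (by linarith)) e4.le
      linarith
    · intro hle
      have : 0 < c - (σ i : ℝ) / D i := by
        rw [e3]; exact div_pos (mul_pos (by linarith) (by linarith)) e4
      linarith
  have e1 : ∀ i, (D i : ℝ) = ((∑ k ∈ K, f i k : ℕ) : ℝ) + ((∑ k ∈ Kᶜ, f i k : ℕ) : ℝ) := fun i => by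
    rw [hDs]; push_cast; ring
  have e2 : ∀ i, (σ i : ℝ) = (p - 1) * ((∑ k ∈ K, f i k : ℕ) : ℝ) -
      ((∑ k ∈ Kᶜ, f i k : ℕ) : ℝ) := fun i => by
    rw [hsplit]; push_cast; ring
  have hlt : ∑ i ∈ s.erase o, (σ i : ℝ) ^ 3 / (D i : ℝ) < ∑ i ∈ s.erase o, c * (σ i * σ i) := by
    refine sum_lt_sum (fun i hi => ?_) ⟨j, mem_erase.2 ⟨hjo, hj⟩, ?_⟩
    · have hi' := mem_erase.1 hi
      have hb := h.bound hi'.2 hi'.1
      have h1A : 1 ≤ e * A := by have := h.e2; have := h.A_pos; nlinarith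
      have hb' : ((∑ k ∈ K, f i k : ℕ) : ℝ) * u ≤
          ((∑ k ∈ Kᶜ, f i k : ℕ) : ℝ) * ((p - 1) * (u - 1)) := by
        have := (Nat.cast_le (α := ℝ)).2 hb
        rw [Nat.cast_mul, Nat.cast_mul, Nat.cast_mul, Nat.cast_mul, Nat.cast_sub h1A,
          Nat.cast_sub (by omega), Nat.cast_mul, Nat.cast_one] at this
        exact this
      have := (key i hi'.2 _ _ (e1 i) (e2 i)).1 hb'
      calc (σ i : ℝ) ^ 3 / D i = (σ i / D i) * (σ i * σ i) := by ring
        _ ≤ _ := mul_le_mul_of_nonneg_right this (mul_self_nonneg _)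
    · have hj1 : (σ j : ℝ) < 0 := by exact_mod_cast hj0
      have hm0 : (0 : ℝ) ≤ ((∑ k ∈ K, f j k : ℕ) : ℝ) := by positivity
      have := (key j hj _ _ (e1 j) (e2 j)).2 (by
        have h3 := e2 j
        set m : ℝ := ((∑ k ∈ K, f j k : ℕ) : ℝ)
        set r : ℝ := ((∑ k ∈ Kᶜ, f j k : ℕ) : ℝ)
        have h4 : 2 * m < r := by nlinarith
        have h5 : u ≤ (p - 1) * (u - 1) := by nlinarith
        nlinarith)
      calc (σ j : ℝ) ^ 3 / D j = (σ j / D j) * (σ j * σ j) := by ring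
        _ < _ := mul_lt_mul_of_pos_right this (mul_pos_of_neg_of_neg hj1 hj1)
  rw [← add_sum_erase _ _ h.o_mem] at h1 ⊢
  rw [ho1] at h1
  have h3 : ∑ i ∈ s.erase o, (σ i : ℝ) * σ i = (p - 1) * (p * u - p + 1) := by
    have : ∑ i ∈ s.erase o, σ i * σ i = (p - 1) * p * A * e - (p - 1) * (p - 1) := by linarith
    have h4 := congrArg (Int.cast : ℤ → ℝ) this
    push_cast at h4
    rw [h4, hu]; ring
  rw [← mul_sum, h3] at hlt
  have h4 : c * ((p - 1) * (p * u - p + 1)) = (p - 1) * ((p - 1) * (p * u - p + 1) - p * u) := by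
    have e5 : p * u / (p * u - p + 1) * (p * u - p + 1) = p * u := div_mul_cancel₀ _ hden.ne'
    rw [hc]; linear_combination (-((p : ℝ) - 1)) * e5
  rw [ho1, ho2]
  push_cast
  have h5 : ((p : ℝ) - 1) * (p - 2) * e * (p * A) = (p - 1) * (p - 2) * p * u := by rw [hu]; ring
  rw [h5]
  rw [h4] at hlt
  nlinarith

end CycData

end Cfsg.Agent.Gp
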