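import Mathlib
import Cfsg.Agent.Gp.PS1
import Cfsg.Agent.Gp.PS2
import Cfsg.Agent.Block.CycDef
import Cfsg.Agent.Transfer.Focal

/-!
Fusion in a cyclic Sylow subgroup, in terms of `ZMod n`.
-/

set_option autoImplicit false

namespace Cfsg.Agent.Gp

open Subgroup Cfsg.Agent.Char Cfsg.Agent.Block
open scoped ComplexConjugate

section
variable {G : Type*} [Group G] [Finite G] {p : ℕ} [hp : Fact p.Prime]

theorem cyc_cent (P : Sylow p G) (hP : IsCyclic (P : Subgroup G)) {x g : G}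
    (hx : x ∈ (P : Subgroup G)) (h1 : x ≠ 1) (hg : g ∈ normalizer ((P : Subgroup G) : Set G))
    (hc : Commute g x) : g ∈ centralizer ((P : Subgroup G) : Set G) := by
  obtain ⟨Z, hZ⟩ := exists_cycP hp.out P.isPGroup'
    (fun h => h1 (by rwa [h, mem_bot] at hx)) hP
  refine hZ.mem_centralizer le_rfl ?_ hg (hZ.mem_centralizer_of_commute hx h1 hc)
  intro hd
  have h2 := relIndex_dvd_of_le_left (normalizer ((P : Subgroup G) : Set G)) hZ.comm
  have h3 := relIndex_dvd_index_of_le (le_normalizer (H := (P : Subgroup G)))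
  exact P.not_dvd_index ((hd.trans h2).trans h3)

theorem cyc_comm (P : Sylow p G) (hP : IsCyclic (P : Subgroup G)) :
    ∀ a ∈ (P : Subgroup G), ∀ b ∈ (P : Subgroup G), a * b = b * a := fun a ha b hb =>
  congrArg Subtype.val (hP.isMulCommutative.is_comm.comm (⟨a, ha⟩ : (P : Subgroup G)) ⟨b, hb⟩)

theorem cyc_le_cent (P : Sylow p G) (hP : IsCyclic (P : Subgroup G)) {u : G}
    (hu : u ∈ (P : Subgroup G)) : (P : Subgroup G) ≤ centralizer ({u} : Set G) := fun a ha =>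
  mem_centralizer_singleton_iff.2 (cyc_comm P hP a ha u hu)

theorem cyc_npc_of_le (P : Sylow p G) (hP : IsCyclic (P : Subgroup G)) {u : G}
    (hu : u ∈ (P : Subgroup G)) (h1 : u ≠ 1) {C : Subgroup G} (hPC : (P : Subgroup G) ≤ C)
    (hC : C ≤ centralizer ({u} : Set G)) : HasNormalPComplement p C := by
  refine Transfer.hasNormalPComplement_of_normalizer_le_centralizer (P.subtype hPC) ?_
  intro g hg
  have h2 : (g : G) ∈ normalizer ((P : Subgroup G) : Set G) := by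
    refine mem_normalizer_fintype fun a ha => ?_
    have := (mem_normalizer_iff.1 hg ⟨a, hPC ha⟩).1 ha
    exact this
  have h3 := cyc_cent P hP hu h1 h2 (mem_centralizer_singleton_iff.1 (hC g.2))
  rw [mem_centralizer_iff] at h3 ⊢
  intro a ha
  exact Subtype.ext (h3 a ha)

end

/-- The power of `γ` with exponent in `ZMod n`. -/
def pw {G : Type*} [Group G] (γ : G) {n : ℕ} (i : ZMod n) : G := γ ^ i.val

section
variable {G : Type*} [Group G] {γ : G} {n : ℕ} [NeZero n] (hγ : orderOf γ = n)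
include hγ

omit [NeZero n] in
theorem pw_natCast (m : ℕ) : pw γ (m : ZMod n) = γ ^ m := by
  rw [pw, ZMod.val_natCast, ← hγ, pow_mod_orderOf]

theorem pw_add (i j : ZMod n) : pw γ (i + j) = pw γ i * pw γ j := by
  conv_lhs => rw [← ZMod.natCast_zmod_val i, ← ZMod.natCast_zmod_val j, ← Nat.cast_add,
    pw_natCast hγ, pow_add]
  rfl

theorem pw_mul (i j : ZMod n) : pw γ (i * j) = pw γ i ^ j.val := by
  conv_lhs => rw [← ZMod.natCast_zmod_val i, ← ZMod.natCast_zmod_val j, ← Nat.cast_mul,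
    pw_natCast hγ, pow_mul]
  rfl

omit [NeZero n] hγ in
theorem pw_zero : pw γ (0 : ZMod n) = 1 := by simp [pw]

omit [NeZero n] in
theorem pw_one : pw γ (1 : ZMod n) = γ := by
  have := pw_natCast hγ 1
  simpa using this

theorem pw_inj {i j : ZMod n} (h : pw γ i = pw γ j) : i = j := by
  apply ZMod.val_injective
  exact pow_injOn_Iio_orderOf (by simpa [hγ] using ZMod.val_lt i)
    (by simpa [hγ] using ZMod.val_lt j) h

theorem pw_eq_one {i : ZMod n} : pw γ i = 1 ↔ i = 0 :=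
  ⟨fun h => pw_inj hγ (h.trans pw_zero.symm), fun h => h ▸ pw_zero⟩

omit [NeZero n] hγ in
theorem pw_mem (i : ZMod n) : pw γ i ∈ zpowers γ := pow_mem (mem_zpowers γ) _

theorem exists_pw [Finite G] {x : G} (hx : x ∈ zpowers γ) : ∃ i : ZMod n, pw γ i = x := by
  obtain ⟨m, rfl⟩ := (mem_powers_iff_mem_zpowers.2 hx : x ∈ Submonoid.powers γ)
  exact ⟨m, pw_natCast hγ m⟩

theorem conj_pw {c : G} {u : ZMod n} (h : c * γ * c⁻¹ = pw γ u) (i : ZMod n) :
    c * pw γ i * c⁻¹ = pw γ (i * u) := by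
  rw [mul_comm i, pw_mul hγ, ← h, conj_pow]; rfl

/-- The homomorphism `i ↦ γ ^ i`. -/
def pwHom : Multiplicative (ZMod n) →* G :=
  MonoidHom.mk' (fun i => pw γ i.toAdd) fun i j => pw_add hγ _ _

theorem exists_mult [Finite G] {χ : G → ℂ} (hχ : IsCharacter G χ) (k : ZMod n) :
    ∃ m : ℕ, ∑ i : ZMod n, χ (pw γ i) * ZMod.stdAddChar (-(i * k)) = n * m := by
  classical
  obtain ⟨m, hm⟩ := classInner_isChar_nat (isChar_comp (pwHom hγ) hχ)
    (isChar_linear (ZMod.stdAddChar.mulShift k).toMonoidHom.toHomUnits)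
  refine ⟨m, ?_⟩
  have := card_mul_classInner (fun x => χ (pwHom hγ x))
    (fun g => ((ZMod.stdAddChar.mulShift k).toMonoidHom.toHomUnits g : ℂ))
  rw [hm, Nat.card_eq_fintype_card, Fintype.card_multiplicative, ZMod.card] at this
  rw [this]
  refine Fintype.sum_equiv Multiplicative.ofAdd _ _ fun i => ?_
  rw [AddChar.map_neg_eq_conj, mul_comm i k]
  rfl

omit hγ in
theorem sum_std (b : ZMod n) :
    ∑ x : ZMod n, ZMod.stdAddChar (x * b) = if b = 0 then (n : ℂ) else 0 := by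
  rw [AddChar.sum_mulShift b (ZMod.isPrimitive_stdAddChar n), ZMod.card]
  split_ifs <;> simp

omit hγ in
theorem fourier_inv (F : ZMod n → ℂ) (m : ZMod n → ℂ)
    (h : ∀ k, ∑ i : ZMod n, F i * ZMod.stdAddChar (-(i * k)) = n * m k) (j : ZMod n) :
    F j = ∑ k, m k * ZMod.stdAddChar (k * j) := by
  have hn : (n : ℂ) ≠ 0 := Nat.cast_ne_zero.2 (NeZero.ne n)
  apply mul_left_cancel₀ hn
  simp only [Finset.mul_sum, ← mul_assoc, ← h, Finset.sum_mul]
  rw [Finset.sum_comm]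
  have : ∀ i k : ZMod n, F i * ZMod.stdAddChar (-(i * k)) * ZMod.stdAddChar (k * j) =
      F i * ZMod.stdAddChar (k * (j - i)) := fun i k => by
    rw [mul_assoc, ← AddChar.map_add_eq_mul]; congr 2; ring
  simp only [this, ← Finset.mul_sum, sum_std, sub_eq_zero]
  simp [mul_comm]

end

section
variable {p A : ℕ} [NeZero (p * A)]

theorem sum_tors {β : Type*} [AddCommMonoid β] (F : ZMod (p * A) → β) :
    ∑ j ∈ Finset.univ.filter (fun j : ZMod (p * A) => (p : ZMod (p * A)) * j = 0), F j =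
      ∑ t ∈ Finset.range p, F ((A * t : ℕ) : ZMod (p * A)) := by
  have hn := NeZero.ne (p * A)
  have hp : 0 < p := Nat.pos_of_ne_zero (left_ne_zero_of_mul hn)
  have hA : 0 < A := Nat.pos_of_ne_zero (right_ne_zero_of_mul hn)
  symm
  refine Finset.sum_bij (fun t _ => ((A * t : ℕ) : ZMod (p * A))) ?_ ?_ ?_ fun _ _ => rfl
  · intro t _
    refine Finset.mem_filter.2 ⟨Finset.mem_univ _, ?_⟩
    rw [← Nat.cast_mul, ← mul_assoc, Nat.cast_mul, ZMod.natCast_self, zero_mul]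
  · intro t ht t' ht' h
    rw [Finset.mem_range] at ht ht'
    have := congrArg ZMod.val h
    rw [ZMod.val_natCast, ZMod.val_natCast, Nat.mod_eq_of_lt (by nlinarith),
      Nat.mod_eq_of_lt (by nlinarith)] at this
    exact Nat.eq_of_mul_eq_mul_left hA this
  · intro j hj
    have h1 := (Finset.mem_filter.1 hj).2
    rw [← ZMod.natCast_zmod_val j, ← Nat.cast_mul, ZMod.natCast_eq_zero_iff] at h1
    obtain ⟨t, ht⟩ := Nat.dvd_of_mul_dvd_mul_left hp h1
    refine ⟨t, Finset.mem_range.2 ?_, by rw [← ht, ZMod.natCast_zmod_val]⟩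
    have := ZMod.val_lt j
    rw [ht] at this
    nlinarith

/-- The elements of additive order `p`. -/
def Z1 (p A : ℕ) [NeZero (p * A)] : Finset (ZMod (p * A)) :=
  (Finset.univ.filter (fun j : ZMod (p * A) => (p : ZMod (p * A)) * j = 0)).erase 0

theorem mem_Z1 {j : ZMod (p * A)} : j ∈ Z1 p A ↔ j ≠ 0 ∧ (p : ZMod (p * A)) * j = 0 := by
  simp [Z1]

theorem card_Z1 : (Z1 p A).card = p - 1 := by
  rw [Z1, Finset.card_erase_of_mem (by simp), Finset.card_eq_sum_ones, sum_tors]; simp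

theorem exists_of_mem_Z1 {j : ZMod (p * A)} (hj : j ∈ Z1 p A) :
    ∃ t : ℕ, j = ((A * t : ℕ) : ZMod (p * A)) := by
  have hp : 0 < p := Nat.pos_of_ne_zero (left_ne_zero_of_mul (NeZero.ne (p * A)))
  have h1 := (mem_Z1.1 hj).2
  rw [← ZMod.natCast_zmod_val j, ← Nat.cast_mul, ZMod.natCast_eq_zero_iff] at h1
  obtain ⟨t, ht⟩ := Nat.dvd_of_mul_dvd_mul_left hp h1
  exact ⟨t, by rw [← ht, ZMod.natCast_zmod_val]⟩

/-- The exponents of the characters trivial on the subgroup of order `p`. -/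
def K0 (p A : ℕ) [NeZero (p * A)] : Finset (ZMod (p * A)) :=
  Finset.univ.filter fun k => k * (A : ZMod (p * A)) = 0

theorem sum_Z1_std (k : ZMod (p * A)) :
    ∑ j ∈ Z1 p A, ZMod.stdAddChar (k * j) = (CycData.w (K0 p A) p k : ℂ) := by
  have h1 := Finset.add_sum_erase (Finset.univ.filter
    (fun j : ZMod (p * A) => (p : ZMod (p * A)) * j = 0)) (fun j => ZMod.stdAddChar (k * j))
    (a := 0) (by simp)
  rw [sum_tors] at h1
  have h2 : ∀ t : ℕ, ZMod.stdAddChar (k * ((A * t : ℕ) : ZMod (p * A))) =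
      ZMod.stdAddChar (k * (A : ZMod (p * A))) ^ t := fun t => by
    rw [← AddChar.map_nsmul_eq_pow]; congr 1; push_cast; ring
  simp only [h2, mul_zero, AddChar.map_zero_eq_one] at h1
  rw [Z1, eq_sub_of_add_eq' h1, CycData.w]
  by_cases hk : k * (A : ZMod (p * A)) = 0
  · rw [if_pos (by simpa [K0] using hk), hk]; simp
  · rw [if_neg (by simpa [K0] using hk)]
    have h3 : ZMod.stdAddChar (k * (A : ZMod (p * A))) ≠ 1 := fun h =>
      hk (ZMod.injective_stdAddChar (h.trans (AddChar.map_zero_eq_one _).symm))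
    have h4 : ZMod.stdAddChar (k * (A : ZMod (p * A))) ^ p = 1 := by
      rw [← h2, mul_comm A p, ZMod.natCast_self]; simp
    rw [geom_sum_eq h3, h4]; simp

theorem card_K0 : (K0 p A).card = A := by
  have hp : 0 < p := Nat.pos_of_ne_zero (left_ne_zero_of_mul (NeZero.ne (p * A)))
  have h1 : ∑ k, (CycData.w (K0 p A) p k : ℂ) = 0 := by
    simp only [← sum_Z1_std]
    rw [Finset.sum_comm]
    exact Finset.sum_eq_zero fun j hj => by rw [sum_std, if_neg (mem_Z1.1 hj).1]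
  have h2 : ∀ k, (CycData.w (K0 p A) p k : ℂ) = (if k ∈ K0 p A then (p : ℂ) else 0) - 1 :=
    fun k => by rw [CycData.w]; split_ifs <;> simp
  simp only [h2, Finset.sum_sub_distrib, Finset.sum_ite_mem, Finset.univ_inter, Finset.sum_const,
    Finset.card_univ, ZMod.card, nsmul_eq_mul, sub_eq_zero, mul_one] at h1
  have h3 : (K0 p A).card * p = A * p := by rw [mul_comm A]; exact_mod_cast h1
  exact Nat.eq_of_mul_eq_mul_right hp h3

end

open Classical in
/-- The exponents `u` with `γ ^ u` conjugate to `γ`. -/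
noncomputable def Ef {G : Type*} [Group G] (γ : G) (n : ℕ) [NeZero n] : Finset (ZMod n)ˣ :=
  Finset.univ.filter fun u => IsConj γ (pw γ (u : ZMod n))

/-- The number of fusion exponents carrying `l` to `k`. -/
noncomputable def Nf {G : Type*} [Group G] (γ : G) (n : ℕ) [NeZero n] (k l : ZMod n) : ℕ :=
  ((Ef γ n).filter fun u : (ZMod n)ˣ => k = l * (u : ZMod n)).card

section
variable {G : Type*} [Group G] [Finite G] {p : ℕ} [hp : Fact p.Prime] {γ : G} {n : ℕ} [NeZero n]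
  (hγ : orderOf γ = n)
include hγ

omit [Finite G] hγ in
theorem mem_Ef {u : (ZMod n)ˣ} : u ∈ Ef γ n ↔ ∃ c, c * γ * c⁻¹ = pw γ (u : ZMod n) := by
  simp [Ef, isConj_iff]

omit [Finite G] in
theorem one_mem_Ef : (1 : (ZMod n)ˣ) ∈ Ef γ n := mem_Ef.2 ⟨1, by simp [pw_one hγ]⟩

omit [Finite G] in
theorem mul_mem_Ef {u v : (ZMod n)ˣ} (hu : u ∈ Ef γ n) (hv : v ∈ Ef γ n) : u * v ∈ Ef γ n := by
  obtain ⟨c, hc⟩ := mem_Ef.1 hu
  obtain ⟨d, hd⟩ := mem_Ef.1 hv
  refine mem_Ef.2 ⟨d * c, ?_⟩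
  rw [Units.val_mul, ← conj_pw hγ hd, ← hc]; group

omit [Finite G] in
theorem inv_mem_Ef {u : (ZMod n)ˣ} (hu : u ∈ Ef γ n) : u⁻¹ ∈ Ef γ n := by
  obtain ⟨c, hc⟩ := mem_Ef.1 hu
  refine mem_Ef.2 ⟨c⁻¹, ?_⟩
  have := conj_pw hγ hc (u⁻¹ : (ZMod n)ˣ)
  rw [Units.inv_mul, pw_one hγ] at this
  conv_lhs => rw [← this]
  group

omit [Finite G] in
theorem Nf_symm (k l : ZMod n) : Nf γ n k l = Nf γ n l k := by
  refine Finset.card_nbij' (fun u => u⁻¹) (fun u => u⁻¹) ?_ ?_ (fun u _ => inv_inv u)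
    fun u _ => inv_inv u
  all_goals
    intro u hu
    rw [Finset.mem_coe, Finset.mem_filter] at hu ⊢
    exact ⟨inv_mem_Ef hγ hu.1, by rw [hu.2]; simp⟩

omit [Finite G] hγ in
theorem sum_Nf_mul {β : Type*} [Semiring β] (l : ZMod n) (F : ZMod n → β) :
    ∑ k, (Nf γ n k l : β) * F k = ∑ u ∈ Ef γ n, F (l * u) := by
  simp only [Nf, Finset.card_filter, Nat.cast_sum, Finset.sum_mul]
  rw [Finset.sum_comm]
  simp

omit [Finite G] hγ in
theorem sum_Nf (l : ZMod n) : ∑ k, Nf γ n k l = (Ef γ n).card := by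
  simpa using sum_Nf_mul (γ := γ) l fun _ => (1 : ℕ)

omit [Finite G] hγ in
theorem exists_of_Nf {k l : ZMod n} (h : Nf γ n k l ≠ 0) : ∃ u ∈ Ef γ n, k = l * u := by
  obtain ⟨u, hu⟩ := Finset.card_ne_zero.1 h
  exact ⟨u, Finset.mem_filter.1 hu⟩

variable (P : Sylow p G) (hP : (P : Subgroup G) = zpowers γ)
include hP

omit hγ hp [Finite G] in
theorem cyc_of_eq : IsCyclic (P : Subgroup G) := hP ▸ inferInstance

theorem Ef_free {u : (ZMod n)ˣ} (hu : u ∈ Ef γ n) {i : ZMod n} (hi : i ≠ 0) (h : i * u = i) :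
    u = 1 := by
  obtain ⟨c, hc⟩ := mem_Ef.1 hu
  have h1 : c ∈ normalizer ((P : Subgroup G) : Set G) := by
    refine mem_normalizer_fintype fun a ha => ?_
    rw [hP] at ha ⊢
    obtain ⟨j, rfl⟩ := exists_pw hγ ha
    rw [conj_pw hγ hc]; exact pw_mem _
  have h2 := conj_pw hγ hc i
  rw [h, mul_inv_eq_iff_eq_mul] at h2
  have h3 := cyc_cent P (cyc_of_eq P hP) (hP ▸ pw_mem i) (mt (pw_eq_one hγ).1 hi) h1 h2
  have h4 := mem_centralizer_iff.1 h3 γ (hP ▸ mem_zpowers γ)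
  rw [← h4, mul_inv_cancel_right] at hc
  exact Units.ext (pw_inj hγ (hc.symm.trans (pw_one hγ).symm))

theorem Nf_le_one {k : ZMod n} (l : ZMod n) (hk : k ≠ 0) : Nf γ n k l ≤ 1 := by
  refine Finset.card_le_one.2 fun u hu v hv => ?_
  rw [Finset.mem_filter] at hu hv
  have := Ef_free hγ P hP (mul_mem_Ef hγ (inv_mem_Ef hγ hu.1) hv.1) hk (by
    conv_lhs => rw [hu.2]
    rw [hv.2]; simp [mul_assoc])
  exact inv_mul_eq_one.1 this

theorem isConj_pw_iff {i j : ZMod n} :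
    IsConj (pw γ j) (pw γ i) ↔ ∃ u ∈ Ef γ n, i = j * u := by
  constructor
  · intro h
    obtain ⟨g, hg⟩ := isConj_iff.1 h
    have := (cyc_of_eq P hP).isMulCommutative
    obtain ⟨c, hc, h1⟩ := P.conj_eq_normalizer_conj_of_mem (pw γ j) g⁻¹
      (show _ ∈ (P : Subgroup G) from hP ▸ pw_mem j)
      (show _ ∈ (P : Subgroup G) by rw [inv_inv, hg, hP]; exact pw_mem i)
    rw [inv_inv, hg] at h1
    have hγP : γ ∈ (P : Subgroup G) := hP ▸ mem_zpowers γ
    obtain ⟨a, ha⟩ := exists_pw hγ (hP ▸ (mem_normalizer_iff.1 (inv_mem hc) γ).1 hγP)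
    obtain ⟨b, hb⟩ := exists_pw hγ (hP ▸ (mem_normalizer_iff.1 hc γ).1 hγP)
    have h2 : b * a = 1 := by
      apply pw_inj hγ
      rw [← conj_pw hγ ha.symm, hb, pw_one hγ]; group
    refine ⟨Units.mkOfMulEqOne a b (mul_comm a b ▸ h2), mem_Ef.2 ⟨c⁻¹, ha.symm⟩, pw_inj hγ ?_⟩
    rw [h1, Units.val_mkOfMulEqOne, ← conj_pw hγ ha.symm, inv_inv]
  · rintro ⟨u, hu, rfl⟩
    obtain ⟨c, hc⟩ := mem_Ef.1 hu
    exact isConj_iff.2 ⟨c, conj_pw hγ hc j⟩

theorem ite_isConj {i j : ZMod n} (hj : j ≠ 0) [Decidable (IsConj (pw γ j) (pw γ i))] (z : ℂ) :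
    (if IsConj (pw γ j) (pw γ i) then z else 0) = z * Nf γ n i j := by
  split_ifs with h
  · obtain ⟨u, hu, rfl⟩ := (isConj_pw_iff hγ P hP).1 h
    have h1 : Nf γ n (j * u) j ≤ 1 := Nf_le_one hγ P hP j (by simpa using hj)
    have h2 : 0 < Nf γ n (j * u) j := Finset.card_pos.2 ⟨u, Finset.mem_filter.2 ⟨hu, rfl⟩⟩
    rw [show Nf γ n (j * u) j = 1 by omega]; simp
  · have : Nf γ n i j = 0 := by
      by_contra hn
      exact h ((isConj_pw_iff hγ P hP).2 (exists_of_Nf hn))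
    rw [this]; simp

theorem npc_of_card_Ef (h : (Ef γ n).card < 2) : HasNormalPComplement p G := by
  refine Transfer.hasNormalPComplement_of_normalizer_le_centralizer P fun c hc => ?_
  have hγP : γ ∈ (P : Subgroup G) := hP ▸ mem_zpowers γ
  obtain ⟨b, hb⟩ := exists_pw hγ (hP ▸ (mem_normalizer_iff.1 hc γ).1 hγP)
  obtain ⟨u, hu, h1⟩ := (isConj_pw_iff hγ P hP (j := 1) (i := b)).1
    (isConj_iff.2 ⟨c, by rw [pw_one hγ, hb]⟩)
  rw [Finset.card_le_one.1 (by omega) u hu 1 (one_mem_Ef hγ)] at h1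
  rw [h1, Units.val_one, one_mul, pw_one hγ] at hb
  rw [mem_centralizer_iff]
  intro a ha
  have ha' : a ∈ zpowers γ := hP ▸ ha
  obtain ⟨m, rfl⟩ := ha'
  have : Commute γ c := by rw [Commute, SemiconjBy]; nth_rewrite 1 [hb]; group
  exact this.zpow_left m

end

end Cfsg.Agent.Gp
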