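import Mathlib
import Cfsg.Agent.Gp.PS3

/-!
A nonabelian simple group with a nontrivial cyclic Sylow `p`-subgroup has two elements of
order `p` that generate a subgroup which is not `p`-solvable.
-/

set_option autoImplicit false

namespace Cfsg.Agent.Gp

open Subgroup Cfsg.Agent.Char Cfsg.Agent.Block
open scoped ComplexConjugate

theorem gram_of_orth {ι : Type*} (s : Finset ι) {n : ℕ} [NeZero n] (X : ι → ZMod n → ℂ)
    (f : ι → ZMod n → ℕ) {G : Type*} [Group G] (γ : G) (hγ : orderOf γ = n)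
    (hf : ∀ χ k, ∑ i : ZMod n, X χ i * ZMod.stdAddChar (-(i * k)) = n * f χ k)
    (hX : ∀ i j, j ≠ 0 → ∑ χ ∈ s, X χ i * conj (X χ j) = n * Nf γ n i j) (k k' l' : ZMod n) :
    ∑ χ ∈ s, (f χ k : ℤ) * (f χ k' - f χ l') = Nf γ n k' k - Nf γ n l' k := by
  have hn : (n : ℂ) ≠ 0 := Nat.cast_ne_zero.2 (NeZero.ne n)
  set ψ : AddChar (ZMod n) ℂ := ZMod.stdAddChar with hψ
  have hf' : ∀ χ k, ∑ j : ZMod n, conj (X χ j) * ψ (j * k) = n * f χ k := fun χ k => by
    have := congrArg conj (hf χ k)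
    simpa only [map_sum, map_mul, AddChar.map_neg_eq_conj, Complex.conj_conj, map_natCast]
      using this
  have h1 : ∀ χ, (n : ℂ) * n * (f χ k * (f χ k' - f χ l')) =
      ∑ j : ZMod n, ∑ i : ZMod n, X χ i * conj (X χ j) *
        (ψ (-(i * k)) * (ψ (j * k') - ψ (j * l'))) := fun χ => by
    have : (n : ℂ) * n * (f χ k * (f χ k' - f χ l')) =
      (n * f χ k) * (n * f χ k' - n * f χ l') := by ring
    rw [this, ← hf, ← hf', ← hf', ← Finset.sum_sub_distrib, Finset.sum_mul_sum, Finset.sum_comm]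
    exact Finset.sum_congr rfl fun j _ => Finset.sum_congr rfl fun i _ => by ring
  have h2 : ∀ j : ZMod n, ∑ χ ∈ s, ∑ i : ZMod n, X χ i * conj (X χ j) *
        (ψ (-(i * k)) * (ψ (j * k') - ψ (j * l'))) =
      n * ∑ u ∈ Ef γ n, (ψ (j * (k' - k * u)) - ψ (j * (l' - k * u))) := fun j => by
    have h3 : ∀ (u : (ZMod n)ˣ) (a : ZMod n), ψ (j * (a - k * u)) =
        ψ (-(j * u * k)) * ψ (j * a) := fun u a => by
      rw [← AddChar.map_add_eq_mul]; congr 1; ring
    simp only [h3, ← mul_sub]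
    by_cases hj : j = 0
    · simp [hj]
    rw [Finset.sum_comm]
    simp only [← Finset.sum_mul, hX _ j hj]
    rw [← sum_Nf_mul j fun i => ψ (-(i * k)), Finset.sum_mul, Finset.mul_sum]
    exact Finset.sum_congr rfl fun i _ => by ring
  have h4 : (n : ℂ) * n * ∑ χ ∈ s, (f χ k : ℂ) * (f χ k' - f χ l') =
      n * n * (Nf γ n k' k - Nf γ n l' k) := by
    rw [Finset.mul_sum]
    simp only [h1]
    rw [Finset.sum_comm]
    simp only [h2]
    rw [← Finset.mul_sum, Finset.sum_comm, mul_assoc]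
    congr 1
    simp only [Finset.sum_sub_distrib, hψ, sum_std, sub_eq_zero, Nf, Finset.card_filter]
    push_cast
    simp only [mul_sub, Finset.mul_sum, mul_ite, mul_one, mul_zero]
  have h5 := mul_left_cancel₀ (mul_ne_zero hn hn) h4
  exact_mod_cast h5

theorem not_simple_of_pairs {G : Type*} [Group G] [Finite G] [IsSimpleGroup G] {p : ℕ}
    [hp : Fact p.Prime] (P : Sylow p G) (hcyc : IsCyclic (P : Subgroup G))
    (hP1 : (P : Subgroup G) ≠ ⊥) (hnpc : ¬ HasNormalPComplement p G)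
    (hc : ∀ x y : G, orderOf x = p → orderOf y = p →
      IsPSolvable p (closure ({x, y} : Set G))) : False := by
  classical
  have := Fintype.ofFinite G
  obtain ⟨M, hM⟩ := exists_isPModular hp.out
  obtain ⟨γ, hP⟩ : ∃ γ : G, (P : Subgroup G) = zpowers γ := by
    obtain ⟨g, hg⟩ := (isCyclic_iff_exists_zpowers_eq_top.1 hcyc)
    refine ⟨g, ?_⟩
    have := congrArg (Subgroup.map (P : Subgroup G).subtype) hg
    rw [MonoidHom.map_zpowers, ← MonoidHom.range_eq_map, range_subtype] at this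
    exact this.symm
  have hγP : γ ∈ (P : Subgroup G) := hP ▸ mem_zpowers γ
  obtain ⟨A, hγ⟩ : p ∣ orderOf γ := by
    obtain ⟨k, hk⟩ := exists_orderOf_eq_pow_of_mem hp.out P.isPGroup' hγP
    rw [hk]
    refine dvd_pow_self p ?_
    rintro rfl
    apply hP1
    rw [hP, zpowers_eq_bot]
    exact orderOf_eq_one_iff.1 hk
  have : NeZero (p * A) := ⟨hγ ▸ (orderOf_pos γ).ne'⟩
  have hA : 0 < A := Nat.pos_of_ne_zero (right_ne_zero_of_mul (NeZero.ne (p * A)))
  have hcard : Nat.card (P : Subgroup G) = p * A := by rw [hP, Nat.card_zpowers, hγ]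
  have hab := abP_of_sylow P (cyc_comm P hcyc)
  set s := Finset.univ.filter (· ∈ principalBlock M G) with hs
  set e := (Ef γ (p * A)).card with he
  have hphi : ∀ j : ZMod (p * A), j ≠ 0 → ∀ g x : G, IsPPart p g x →
      ∑ χ ∈ s, (χ : G → ℂ) g * conj ((χ : G → ℂ) (pw γ j)) =
        if IsConj (pw γ j) x then ((p * A : ℕ) : ℂ) else 0 := fun j hj g x hx => by
    have hjP : pw γ j ∈ (P : Subgroup G) := hP ▸ pw_mem j
    have := phi_eq hM P hjP (cyc_le_cent P hcyc hjP)
      (cyc_npc_of_le P hcyc hjP (mt (pw_eq_one hγ).1 hj) (cyc_le_cent P hcyc hjP) le_rfl) hx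
    rw [hcard] at this
    convert this
  choose f hf using fun (χ : IrrCharacter G) (k : ZMod (p * A)) => exists_mult hγ (irr_isChar χ) k
  have hinv : ∀ (χ : IrrCharacter G) (j : ZMod (p * A)),
      (χ : G → ℂ) (pw γ j) = ∑ k, f χ k * ZMod.stdAddChar (k * j) := fun χ =>
    fourier_inv (fun i => (χ : G → ℂ) (pw γ i)) (fun k => f χ k) (hf χ)
  have hdeg : ∀ χ : IrrCharacter G, (χ : G → ℂ) 1 = (∑ k, f χ k : ℕ) := fun χ => by
    have := hinv χ 0
    rw [pw_zero] at this
    simpa using this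
  have hA1 : (A : ZMod (p * A)) ∈ Z1 p A := by
    refine mem_Z1.2 ⟨?_, by rw [← Nat.cast_mul, ZMod.natCast_self]⟩
    rw [Ne, ZMod.natCast_eq_zero_iff]
    intro h
    have := Nat.le_of_dvd hA h
    have := hp.out.two_le
    nlinarith
  have hZu : ∀ j ∈ Z1 p A, ∀ u : (ZMod (p * A))ˣ, j * u ∈ Z1 p A := fun j hj u =>
    mem_Z1.2 ⟨by simpa using (mem_Z1.1 hj).1, by rw [← mul_assoc, (mem_Z1.1 hj).2, zero_mul]⟩
  have he2 : 2 ≤ e := by
    by_contra h
    exact hnpc (npc_of_card_Ef hγ P hP (by omega))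
  have hep : e ≤ p - 1 := by
    rw [← card_Z1 (p := p) (A := A)]
    refine Finset.card_le_card_of_injOn (fun u => (A : ZMod (p * A)) * u)
      (fun u _ => hZu _ hA1 u) fun u hu v hv h => ?_
    have := Ef_free hγ P hP (mul_mem_Ef hγ hu (inv_mem_Ef hγ hv)) (mem_Z1.1 hA1).1 (by
      simp only at h
      rw [Units.val_mul, ← mul_assoc, h]; simp)
    exact mul_inv_eq_one.1 this
  have hd : CycData s (oneIrr G) f (Nf γ (p * A)) (K0 p A) p e A :=
    { p3 := by omega
      e2 := he2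
      ep := by omega
      o_mem := Finset.mem_filter.2 ⟨Finset.mem_univ _, oneIrr_mem_principalBlock hM⟩
      fo := fun k => by
        have h1 : ∑ i : ZMod (p * A), (1 : ℂ) * ZMod.stdAddChar (-(i * k)) = _ := hf (oneIrr G) k
        simp only [one_mul, ← mul_neg, sum_std, neg_eq_zero] at h1
        have hn : ((p * A : ℕ) : ℂ) ≠ 0 := Nat.cast_ne_zero.2 (NeZero.ne _)
        split_ifs at h1 ⊢
        · exact_mod_cast (mul_left_cancel₀ hn (h1.symm.trans (mul_one _).symm))
        · exact_mod_cast (mul_eq_zero.1 h1.symm).resolve_left hn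
      zero_mem := by simp [K0]
      cardK := card_K0
      cardR := ZMod.card _
      N00 := by simp [Nf, he]
      N0 := fun k hk => by simp [Nf, hk]
      Nd := fun k hk => le_antisymm (Nf_le_one hγ P hP k hk)
        (Finset.card_pos.2 ⟨1, Finset.mem_filter.2 ⟨one_mem_Ef hγ, by simp⟩⟩)
      Ns := Nf_symm hγ
      Ne := sum_Nf
      N1 := fun k l hk => Nf_le_one hγ P hP l hk
      NK := fun k l hk hN => by
        obtain ⟨u, -, rfl⟩ := exists_of_Nf hN
        simp only [K0, Finset.mem_filter, Finset.mem_univ, true_and] at hk ⊢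
        rw [mul_right_comm] at hk
        simpa using hk
      gram := gram_of_orth s (fun χ i => (χ : G → ℂ) (pw γ i)) f γ hγ hf fun i j hj => by
        rw [hphi j hj _ _ (isPPart_self hp.out
          (exists_orderOf_eq_pow_of_mem hp.out P.isPGroup' (hP ▸ pw_mem i))),
          ite_isConj hγ P hP hj]
      pos := fun χ _ => by
        have := irr_one_ne_zero χ
        rw [hdeg] at this
        exact Nat.pos_of_ne_zero (by exact_mod_cast this)
      faith := fun χ _ hχ => by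
        by_contra hn
        push Not at hn
        refine ne_deg_of_simple hχ (mt (pw_eq_one hγ).1 (mem_Z1.1 hA1).1) ?_
        rw [hinv, hdeg, Nat.cast_sum]
        refine Finset.sum_congr rfl fun k _ => ?_
        by_cases hk : k ∈ K0 p A
        · rw [show k * (A : ZMod (p * A)) = 0 by simpa [K0] using hk]; simp
        · rw [hn k hk]; simp }
  have hlt := hd.cube_lt
  set σ : IrrCharacter G → ℤ := fun χ => ∑ l, CycData.w (K0 p A) p l * f χ l with hσ
  have hσ1 : ∀ χ : IrrCharacter G, ∑ j ∈ Z1 p A, (χ : G → ℂ) (pw γ j) = σ χ := fun χ => by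
    simp only [hinv, hσ]
    rw [Finset.sum_comm]
    push_cast
    exact Finset.sum_congr rfl fun k _ => by rw [← Finset.mul_sum, sum_Z1_std, mul_comm]
  have hΦ : ∀ g : G, ¬ p ∣ orderOf (g ^ p) →
      ∑ l ∈ Z1 p A, ∑ χ ∈ s, (χ : G → ℂ) g * conj ((χ : G → ℂ) (pw γ l)) =
        ((if p ∣ orderOf g then (p * A * e : ℝ) else 0 : ℝ) : ℂ) := by
    intro g hg
    obtain ⟨w, hw⟩ := exists_isPPart hp.out g
    rw [Finset.sum_congr rfl fun l hl => hphi l (mem_Z1.1 hl).1 g w hw]
    split_ifs with h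
    · have hw1 : w ≠ 1 := fun h' => (pPart_eq_one_iff hp.out hw).1 h' h
      have hwp : w ^ p = 1 := by
        obtain ⟨y, rfl, h1, ⟨k, h2⟩, h3⟩ := hw
        rw [h1.mul_pow] at hg
        refine (pPart_eq_one_iff hp.out (isPPart_mul (h1.pow_pow p p) ?_ ?_)).2 hg
        · obtain ⟨j, -, hj⟩ := (Nat.dvd_prime_pow hp.out).1 (h2 ▸ orderOf_pow_dvd (x := w) p)
          exact ⟨j, hj⟩
        · exact fun h4 => h3 (h4.trans (orderOf_pow_dvd p))
      obtain ⟨T, hT⟩ := (pPart_isPGroup hw).exists_le_sylow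
      obtain ⟨a, rfl⟩ := MulAction.exists_smul_eq G P T
      have h1 := hT (mem_zpowers w)
      rw [Sylow.coe_subgroup_smul, mem_pointwise_smul_iff_inv_smul_mem, hP] at h1
      obtain ⟨i, hi⟩ := exists_pw hγ h1
      have h2 : IsConj (pw γ i) w := isConj_iff.2 ⟨a, by simp [hi, mul_assoc]⟩
      have hi1 : i ∈ Z1 p A := by
        obtain ⟨c, rfl⟩ := isConj_iff.1 h2
        refine mem_Z1.2 ⟨?_, ?_⟩
        · rintro rfl; simp [pw_zero] at hw1
        · rw [conj_pow, mul_inv_eq_one, mul_eq_left] at hwp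
          rw [← pw_eq_one hγ, mul_comm (p : ZMod (p * A)) i, pw_mul hγ, ZMod.val_natCast, ← hwp]
          have h5 : orderOf (pw γ i) ∣ p := orderOf_dvd_of_pow_eq_one hwp
          rw [pow_eq_pow_iff_modEq]
          exact ((Nat.mod_modEq p (p * A)).of_dvd (h5.trans (Dvd.intro _ rfl)))
      have h3 : ∀ l ∈ Z1 p A, (if IsConj (pw γ l) w then ((p * A : ℕ) : ℂ) else 0) =
          ((p * A : ℕ) : ℂ) * Nf γ (p * A) l i := fun l hl => by
        rw [Nf_symm hγ, ← ite_isConj hγ P hP (mem_Z1.1 hl).1]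
        exact if_congr ⟨fun h => h.trans h2.symm, fun h => h.trans h2⟩ rfl rfl
      rw [Finset.sum_congr rfl h3, ← Finset.mul_sum, ← Nat.cast_sum,
        Finset.sum_subset (Finset.subset_univ _), sum_Nf]
      · push_cast; rfl
      · intro l _ hl
        by_contra hN
        obtain ⟨u, -, rfl⟩ := exists_of_Nf hN
        exact hl (hZu i hi1 u)
    · have hw1 : w = 1 := (pPart_eq_one_iff hp.out hw).2 h
      refine (Finset.sum_eq_zero fun l hl => if_neg ?_).trans Complex.ofReal_zero.symm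
      rw [hw1, isConj_one_left, pw_eq_one hγ]
      exact (mem_Z1.1 hl).1
  have hord : ∀ j ∈ Z1 p A, orderOf (pw γ j) = p := fun j hj => by
    refine orderOf_eq_prime ?_ (mt (pw_eq_one hγ).1 (mem_Z1.1 hj).1)
    obtain ⟨t, rfl⟩ := exists_of_mem_Z1 hj
    rw [pw_natCast hγ, ← pow_mul, mul_right_comm, mul_comm A, pow_mul, ← hγ, pow_orderOf_eq_one,
      one_pow]
  have hord' : ∀ g : G, ∀ j ∈ Z1 p A, orderOf (g * pw γ j * g⁻¹) = p := fun g j hj =>
    ((MulAut.conj g).orderOf_eq _).trans (hord j hj)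
  have hpm : ∀ g : G, ∀ i ∈ Z1 p A, ∀ j ∈ Z1 p A, _ := fun g i hi j hj =>
    pair_mod hab (orderOf_dvd_iff_pow_eq_one.1 (hord' g i hi).dvd)
      (orderOf_dvd_iff_pow_eq_one.1 (hord j hj).dvd) (hc _ _ (hord' g i hi) (hord j hj))
  have htot : ∑ g : G, ∑ i ∈ Z1 p A, ∑ j ∈ Z1 p A,
      (if p ∣ orderOf (g * pw γ i * g⁻¹ * pw γ j) then (p * A * e : ℝ) else 0 : ℝ) =
      Nat.card G * ∑ χ ∈ s, (σ χ : ℝ) ^ 3 / ((∑ k, f χ k : ℕ) : ℝ) := by
    apply Complex.ofReal_injective
    rw [Complex.ofReal_sum, Finset.sum_congr rfl fun g _ => by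
      rw [Complex.ofReal_sum, Finset.sum_congr rfl fun i hi => by
        rw [Complex.ofReal_sum, Finset.sum_congr rfl fun j hj => (hΦ _ (hpm g i hi j hj).1).symm]]]
    have h0 : ∀ i j l : ZMod (p * A), ∑ g : G, ∑ χ ∈ s,
        (χ : G → ℂ) (g * pw γ i * g⁻¹ * pw γ j) * conj ((χ : G → ℂ) (pw γ l)) = _ := fun i j l =>
      sum_phi_conj (principalBlock M G) (pw γ i) (pw γ j) (pw γ l)
    rw [Finset.sum_comm, Finset.sum_congr rfl fun i _ => by
      rw [Finset.sum_comm, Finset.sum_congr rfl fun j _ => by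
        rw [Finset.sum_comm, Finset.sum_congr rfl fun l _ => h0 i j l]]]
    rw [← hs]
    simp only [← Finset.mul_sum]
    push_cast
    congr 1
    rw [Finset.sum_congr rfl fun i _ => by
      rw [Finset.sum_congr rfl fun j _ => Finset.sum_comm, Finset.sum_comm], Finset.sum_comm]
    refine Finset.sum_congr rfl fun χ _ => ?_
    simp only [← Finset.sum_div, ← Finset.mul_sum, ← Finset.sum_mul, ← map_sum, hσ1, hdeg,
      map_intCast]
    push_cast; ring
  have hlow : ∀ g : G, ∀ i ∈ Z1 p A, ((p : ℝ) - 2) * (p * A * e) ≤ ∑ j ∈ Z1 p A,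
      (if p ∣ orderOf (g * pw γ i * g⁻¹ * pw γ j) then (p * A * e : ℝ) else 0 : ℝ) := by
    intro g i hi
    rw [← Finset.sum_filter, Finset.sum_const, nsmul_eq_mul]
    refine mul_le_mul_of_nonneg_right ?_ (by positivity)
    have h1 := Finset.card_filter_add_card_filter_not (s := Z1 p A)
      (fun j => p ∣ orderOf (g * pw γ i * g⁻¹ * pw γ j))
    have h2 : ((Z1 p A).filter fun j => ¬ p ∣ orderOf (g * pw γ i * g⁻¹ * pw γ j)).card ≤ 1 := by
      refine Finset.card_le_one.2 fun j hj j' hj' => ?_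
      rw [Finset.mem_filter] at hj hj'
      obtain ⟨t, rfl⟩ := exists_of_mem_Z1 hj.1
      obtain ⟨t', rfl⟩ := exists_of_mem_Z1 hj'.1
      have h3 : ∀ t : ℕ, pw γ ((A * t : ℕ) : ZMod (p * A)) =
          pw γ (A : ZMod (p * A)) ^ (t : ℤ) := fun t => by
        rw [pw_natCast hγ, pw_natCast hγ, zpow_natCast, pow_mul]
      apply pw_inj hγ
      rw [h3, h3]
      exact (hpm g i hi _ hA1).2 t t' (h3 t ▸ hj.2) (h3 t' ▸ hj'.2)
    rw [card_Z1] at h1
    have h4 : p ≤ ((Z1 p A).filter fun j => p ∣ orderOf (g * pw γ i * g⁻¹ * pw γ j)).card + 2 := by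
      omega
    have : (p : ℝ) ≤ _ := Nat.cast_le.2 h4
    push_cast at this
    linarith
  have h6 := Finset.sum_le_sum (s := Finset.univ) fun g _ => Finset.sum_le_sum (hlow g)
  rw [htot] at h6
  simp only [Finset.sum_const, card_Z1, Finset.card_univ, ← Nat.card_eq_fintype_card,
    nsmul_eq_mul] at h6
  rw [Nat.cast_sub hp.out.one_le] at h6
  have h7 : (0 : ℝ) < Nat.card G := by exact_mod_cast Nat.card_pos
  have h8 := le_of_mul_le_mul_left h6 h7
  push_cast at h8 hlt
  simp only [hσ] at h8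
  push_cast at h8
  linarith

end Cfsg.Agent.Gp
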