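import Mathlib
import Cfsg.Agent.Gp.Main
import Cfsg.Agent.Glaub.Control

/-! Groups with product fusion. -/

set_option autoImplicit false
set_option linter.unusedSectionVars false

namespace Cfsg.Agent.Gp

open Subgroup Cfsg.Agent.GW Cfsg.Agent.LocalEven Cfsg.Agent.BG Cfsg.Agent.Gs
open scoped commutatorElement

variable {G : Type*} [Group G] [Finite G] {A B : Subgroup G}

theorem comm_of_disj (hO : oddCore G = ⊥) (S : Sylow 2 G) (h : IsStronglyClosed A (S : Subgroup G))
    (h' : IsStronglyClosed B (S : Subgroup G)) (hc : ∀ a ∈ A, ∀ b ∈ B, a * b = b * a) (hd : A ⊓ B = ⊥) :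
    normalClosure (B : Set G) ≤ 𝐂(normalClosure (A : Set G)) := by
  have := pair_closed S h h' hc
  rw [hd, show pPrimeCore 2 G = ⊥ from hO, sup_bot_eq] at this
  exact le_cent_comm.1 (commutator_eq_bot_iff_le_centralizer.1 (le_bot_iff.1 (this.trans
    (normalClosure_le_normal (le_refl _)))))

theorem syl_inf_le (S : Sylow 2 G) (h : IsStronglyClosed A (S : Subgroup G)) (hc : B ≤ 𝐂(normalClosure (A : Set G)))
    (hs : (S : Subgroup G) ≤ A ⊔ B) (ht : normalClosure (A : Set G) ⊔ 𝐂(normalClosure (A : Set G)) = ⊤) :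
    (S : Subgroup G) ⊓ normalClosure (A : Set G) ≤ A := by
  haveI : Fact (Nat.Prime 2) := ⟨Nat.prime_two⟩
  set N := normalClosure (A : Set G)
  have AN : A ≤ N := le_normalClosure
  have h1 : (S : Subgroup G) ⊓ N ⊓ ⁅N, N⁆ ≤ A := Glaub.focal_le (sylow_inf_normal S N) fun x hx g hg e => by
    obtain ⟨a, ha, b, hb, rfl⟩ := (PGrp.mem_sup_of_le_normalizer
      (hc.trans ((cent_anti AN).trans (cent_le_norm' A)))).1 (hs hx.1)
    have e1 : g * (a * b) * g⁻¹ = g * a * g⁻¹ * b := by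
      rw [mul_assoc _ g⁻¹, mem_centralizer_iff.1 (hc hb) _ (inv_mem hg)]; group
    have bS : b ∈ (S : Subgroup G) := by simpa using mul_mem (inv_mem (h.1 ha)) hx.1
    have m := mul_mem (inv_mem ha) (h.2 a ha g (by simpa [e1] using mul_mem (mem_inf.1 e).1 (inv_mem bS)))
    rw [e1, mul_inv_rev, mul_assoc, ← mul_assoc a⁻¹, mem_centralizer_iff.1 (hc hb) _ (AN m), inv_mul_cancel_left]
    exact m
  have hn : N ≤ 𝐍(⁅N, N⁆ ⊔ A) := le_normalizer_of_cj_le fun g hg => by
    rw [cj_sup, cj_eq_of_normal]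
    refine sup_le le_sup_left (cj_le_iff'.2 fun a ha => ?_)
    simpa [commutatorElement_def] using
      mul_mem (mem_sup_left (commutator_mem_commutator hg (AN ha))) (mem_sup_right ha : a ∈ ⁅N, N⁆ ⊔ A)
  haveI : (⁅N, N⁆ ⊔ A).Normal := PGrp.normal_iff_top_le_normalizer.2 (ht.ge.trans (sup_le hn
    ((cent_anti (sup_le (commutator_le_left _ _) AN)).trans (cent_le_norm' _))))
  intro x hx
  obtain ⟨c, hc, a, ha, rfl⟩ := (PGrp.mem_sup_of_le_normalizer le_normalizer_of_normal).1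
    (normalClosure_le_normal (N := ⁅N, N⁆ ⊔ A) (fun _ m => mem_sup_right m) hx.2)
  have cS := mul_mem (mem_inf.1 hx).1 (inv_mem (h.1 ha))
  rw [mul_inv_cancel_right] at cS
  exact mul_mem (h1 ⟨⟨cS, commutator_le_left _ _ hc⟩, hc⟩) ha

theorem prod_fusion (hO : oddCore G = ⊥) (hO' : ∀ N : Subgroup G, N.Normal → Odd N.index → N = ⊤) (S : Sylow 2 G)
    (hp : IsInternalDirectProduct A B (S : Subgroup G)) (h : IsStronglyClosed A (S : Subgroup G))
    (h' : IsStronglyClosed B (S : Subgroup G)) :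
    IsInternalDirectProduct (normalClosure (A : Set G)) (normalClosure (B : Set G)) ⊤ ∧
      ¬ 2 ∣ A.relIndex (normalClosure (A : Set G)) ∧ ¬ 2 ∣ B.relIndex (normalClosure (B : Set G)) := by
  haveI : Fact (Nat.Prime 2) := ⟨Nat.prime_two⟩
  obtain ⟨-, -, hc, hd, hs⟩ := hp
  have c1 := comm_of_disj hO S h h' hc hd
  have ht : normalClosure (A : Set G) ⊔ normalClosure (B : Set G) = ⊤ := hO' _ inferInstance
    (Nat.odd_iff.2 (Nat.two_dvd_ne_zero.1 fun d => S.not_dvd_index (d.trans (index_dvd_of_le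
      (hs.ge.trans (sup_le_sup le_normalClosure le_normalClosure))))))
  have a1 := syl_inf_le S h (le_normalClosure.trans c1) hs.ge (top_le_iff.1 (ht.ge.trans (sup_le_sup_left c1 _)))
  have a2 := syl_inf_le S h' (le_normalClosure.trans (le_cent_comm.1 c1)) (hs.ge.trans (sup_comm _ _).le)
    (top_le_iff.1 (ht.ge.trans (sup_le (le_sup_of_le_right (le_cent_comm.1 c1)) le_sup_left)))
  have k : ∀ {A : Subgroup G}, IsStronglyClosed A (S : Subgroup G) → (S : Subgroup G) ⊓ normalClosure (A : Set G) ≤ A →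
      ¬ 2 ∣ A.relIndex (normalClosure (A : Set G)) := fun {A} h a => by
    have := (sylow_inf_normal S (normalClosure (A : Set G))).not_dvd
    rwa [le_antisymm a (le_inf h.1 le_normalClosure)] at this
  refine ⟨⟨le_top, le_top, fun a ha b hb => mem_centralizer_iff.1 (c1 hb) a ha, le_bot_iff.1 (hO ▸ Inv.le_oddCore
    inferInstance (Nat.odd_iff.2 (Nat.two_dvd_ne_zero.1 fun d => (sylow_inf_normal S _).ne_bot d
      (le_bot_iff.1 (hd ▸ le_inf ((inf_le_inf_left _ inf_le_left).trans a1)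
        ((inf_le_inf_left _ inf_le_right).trans a2)))))), ht⟩, k h a1, k h' a2⟩

end Cfsg.Agent.Gp
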