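import Mathlib
import Cfsg.Agent.Block.Dih
import Cfsg.Agent.Isaacs.Count

/-! Dihedral Sylow normaliser of order `2 p`: the involution equation. -/

set_option autoImplicit false

namespace Cfsg.Agent.Gp.TP

open Cfsg Cfsg.Agent.Char Cfsg.Agent.Block Subgroup MulAction
open scoped _root_.Classical ComplexConjugate

variable {G : Type*} [Group G] [Fintype G] {p : ℕ} {P : Subgroup G}

/-- The principal block with a sign. -/
structure DE (p : ℕ) (P : Subgroup G) (ε : ℤ) (t : ℕ) (Y : Finset (IrrCharacter G))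
    (χ : IrrCharacter G) : Prop extends SC p P where
  hN : Nat.card (normalizer (P : Set G)) = 2 * p
  sign : ε = 1 ∨ ε = -1
  te : 2 * t + 1 = p
  two_le : 2 ≤ t
  cardY : Y.card = t
  ne_one : χ ≠ oneIrr G
  notMem : χ ∉ Y
  one_notMem : oneIrr G ∉ Y
  val : ∀ g, p ∣ orderOf g → χ.1 g = -ε
  sumY : ∀ g, p ∣ orderOf g → ∑ ξ ∈ Y, ξ.1 g = ε
  rel : ∀ ξ ∈ Y, ∀ g, ¬ p ∣ orderOf g → ξ.1 g = χ.1 g - ε
  out : ∀ ψ, ψ ≠ oneIrr G → ψ ≠ χ → ψ ∉ Y → ∀ g, p ∣ orderOf g → ψ.1 g = 0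

theorem exists_DE (h : SC p P) (hN : Nat.card (normalizer (P : Set G)) = 2 * p) (h3 : 3 < p)
    (hG : commutator G = ⊤) : ∃ ε t Y χ, DE p P ε t Y χ := by
  obtain ⟨e, t, δ, X, Y, a, hw⟩ := h.toOrdP.exists_pW
  obtain rfl : e = 2 := hw.he.symm.trans (h.relIndex_eq_two hN)
  have hte := hw.te
  have h1X := hw.one_mem_X (by omega)
  obtain ⟨χ, hχ⟩ : ∃ χ, X.erase (oneIrr G) = {χ} :=
    Finset.card_eq_one.1 (by rw [Finset.card_erase_of_mem h1X, hw.cardX])
  have hχ' : χ ∈ X.erase (oneIrr G) := hχ ▸ Finset.mem_singleton_self χ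
  obtain ⟨hne, hχX⟩ := Finset.mem_erase.1 hχ'
  have hs : ∀ {R : Type} [AddCommMonoid R] (f : IrrCharacter G → R),
      ∑ ψ ∈ X, f ψ = f (oneIrr G) + f χ := fun f => by
    rw [← Finset.add_sum_erase _ _ h1X, hχ, Finset.sum_singleton]
  obtain ⟨ξ₀, hξ₀⟩ := hw.exists_Y
  have hrel := hw.rel_one hξ₀
  simp only [hs, hw.a_one h1X] at hrel
  have hd1 : charDegree (oneIrr G).1 = 1 := charDegree_one_fun
  have hd0 := isIrr_charDegree_ne_zero χ.2
  have h0 := isIrr_charDegree_ne_zero ξ₀.2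
  have hδ : δ = a χ := by
    rw [hd1] at hrel
    rcases hw.a_sign χ hχX with ha | ha <;> rcases hw.sign with e | e <;>
      rw [ha, e] at hrel <;> omega
  refine ⟨-δ, t, Y, χ, h, hN, by rcases hw.sign with e | e <;> omega, by omega, by omega, hw.cardY,
    hne, Finset.disjoint_left.1 hw.disj hχX, Finset.disjoint_left.1 hw.disj h1X,
    fun g hg => by rw [hw.valX χ hχX g hg, hδ]; simp,
    fun g hg => by rw [hw.sumY g hg]; simp, fun ξ hξ g hg => ?_,
    fun ψ e1 e2 e3 => hw.out h.le ψ (fun e => e2 ?_) e3⟩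
  · have := hw.rel ξ hξ g hg
    rw [hs, hw.a_one h1X, ← hδ] at this
    have h2 : (δ : ℂ) * δ = 1 := by exact_mod_cast hw.sq
    simp only [oneIrr, Int.cast_neg, Int.cast_one] at this ⊢
    linear_combination δ * this + (χ.1 g - ξ.1 g) * h2
  · exact Finset.mem_singleton.1 (hχ ▸ Finset.mem_erase.2 ⟨e1, e⟩)

theorem fx_le {N : Subgroup G} (hPN : P ≤ N) {φ : G → ℂ} (hφ : IsCharacter G φ) :
    fx N φ ≤ fx P φ := by
  obtain ⟨η, hη, e⟩ := Constit.exists_add_smul_of_le (isChar_res N hφ) isIrr_one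
    (fx_cast (P := N) hφ).symm le_rfl
  obtain ⟨k, hk⟩ := classInner_isChar_nat (IndRep.isChar_comp' hη (inclusion hPN)) isChar_one
  have h1 := fx_cast (P := P) hφ
  have e2 : (fun x : P => φ x) = ((fx N φ : ℂ) • fun _ : P => (1 : ℂ)) +
      fun x => η (inclusion hPN x) := funext fun x => congrFun e (inclusion hPN x)
  rw [e2, classInner_add_left, classInner_smul_left, classInner_one_one, hk, mul_one] at h1
  have : fx P φ = fx N φ + k := by exact_mod_cast h1
  omega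

theorem invol_int {φ : G → ℂ} (hφ : IsCharacter G φ) {s : G} (hs : s * s = 1) :
    ∃ v : ℤ, φ s = v := by
  refine Galois.exists_int_of_forall_pow (isChar_isGenChar hφ) fun k hk => ?_
  by_cases h1 : s = 1
  · simp [h1]
  have h2 : orderOf s = 2 := orderOf_eq_prime (by rw [sq, hs]) h1
  rw [h2] at hk
  obtain ⟨j, rfl⟩ := Nat.coprime_two_right.mp hk
  rw [pow_succ, pow_mul, sq, hs]; simp

namespace DE

variable {ε : ℤ} {t : ℕ} {Y : Finset (IrrCharacter G)} {χ : IrrCharacter G} (h : DE p P ε t Y χ)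
include h

theorem ne_two : p ≠ 2 := by have := h.te; omega

theorem dih (e : ε = 1) : Dih p P t Y χ := by
  subst e
  exact ⟨h.toSC, h.hN, h.te, h.two_le, h.cardY, h.ne_one, h.notMem, h.one_notMem,
    fun g hg => by simpa using h.val g hg, fun g hg => by simpa using h.sumY g hg,
    fun ξ hξ g hg => by simpa using h.rel ξ hξ g hg, h.out⟩

theorem reg_invol {s : G} (hs : s * s = 1) : ¬ p ∣ orderOf s := fun e => by
  have h1 : orderOf s ∣ 2 := orderOf_dvd_of_pow_eq_one (by rw [sq, hs])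
  have := Nat.le_of_dvd two_pos (e.trans h1)
  have := h.te
  have := h.two_le
  omega

theorem sq_eq_one {z : G} (hN : z ∈ normalizer (P : Set G)) (hz : z ∉ P) : z * z = 1 := by
  have h1 : orderOf z ∣ 2 * p := h.hN ▸ orderOf_dvd_natCard _ hN
  rw [← sq, ← orderOf_dvd_iff_pow_eq_one]
  exact ((Nat.Prime.coprime_iff_not_dvd h.prime).2
    (h.toSC.regular hN hz)).symm.dvd_of_dvd_mul_right h1

theorem sumN {φ : G → ℂ} (hφ : IsCharacter G φ) {c : ℂ} (hc : ∀ g, p ∣ orderOf g → φ g = c)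
    {i : G} (hi : i ∈ normalizer (P : Set G)) (i2 : i * i = 1) (i1 : i ≠ 1) :
    2 * p * fx (normalizer (P : Set G)) φ = p * φ i + (p - 1) * c + φ 1 := by
  have h0 := card_mul_fx (P := normalizer (P : Set G)) hφ
  rw [h.hN, Finset.sum_congr rfl (g := fun z : normalizer (P : Set G) => φ i +
      (if z ∈ P.subgroupOf _ then (c - φ i) else 0) +
      if z = 1 then (φ 1 - c) else 0) fun z _ => ?_] at h0
  · rw [Finset.sum_add_distrib, Finset.sum_add_distrib, Finset.sum_ite_eq', ← Finset.sum_filter,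
      Finset.sum_const, Finset.sum_const, Finset.card_univ, ← Nat.card_eq_fintype_card, h.hN,
      card_filter_eq_card (s := (P.subgroupOf (normalizer (P : Set G)) : Set _))
        (q := fun z : normalizer (P : Set G) => z ∈ P.subgroupOf _) fun _ => Iff.rfl] at h0
    have : Nat.card (P.subgroupOf (normalizer (P : Set G)) : Set (normalizer (P : Set G))) = p :=
      (h.toOrdP.subgroupOf le_normalizer).card
    simp only [this, nsmul_eq_mul, Finset.mem_univ, if_true] at h0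
    push_cast at h0
    linear_combination h0
  · by_cases e1 : z = 1
    · subst e1
      rw [if_pos (one_mem _), if_pos rfl, OneMemClass.coe_one]; ring
    by_cases e2 : z ∈ P.subgroupOf _
    · rw [if_pos e2, if_neg e1, hc _ (h.toOrdP.dvd_orderOf (x := ⟨z, e2⟩)
        fun e => e1 (Subtype.ext (congrArg Subtype.val e :)))]
      ring
    · rw [if_neg e2, if_neg e1]
      obtain ⟨g, hg⟩ := isConj_iff.mp (h.toSC.isConj h.ne_two hi i2 i1 z.2 (h.sq_eq_one z.2 e2)
        fun e => e1 (Subtype.ext e))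
      rw [← hg, isChar_classFun hφ]; ring

theorem one_ne : χ.1 1 - ε ≠ 0 := by
  obtain ⟨ξ, hξ⟩ := Finset.card_pos.1 (show 0 < Y.card by rw [h.cardY]; have := h.two_le; omega)
  rw [← h.rel ξ hξ 1 (h.reg_invol (mul_one 1))]
  exact irr_one_ne_zero ξ

theorem formula {s x : G} (hs : s * s = 1) (hx : p ∣ orderOf x) :
    (Nat.card {q : G × G // IsConj s q.1 ∧ IsConj s q.2 ∧ q.1 * q.2 = x} : ℂ) *
      (χ.1 1 * (χ.1 1 - ε)) * Nat.card G =
      (Nat.card {y : G // IsConj s y} : ℂ) ^ 2 * (χ.1 1 - χ.1 s) ^ 2 := by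
  have hG : (Nat.card G : ℂ) ≠ 0 := card_ne_zero
  have h1 := irr_one_ne_zero χ
  have h2 := h.one_ne
  have e2 : (ε : ℂ) * ε = 1 := by rcases h.sign with e | e <;> simp [e]
  have hsub : ∑ ψ : IrrCharacter G, ψ.1 s * ψ.1 s * conj (ψ.1 x) / ψ.1 1 =
      ∑ ψ ∈ insert (oneIrr G) (insert χ Y), ψ.1 s * ψ.1 s * conj (ψ.1 x) / ψ.1 1 := by
    refine (Finset.sum_subset (Finset.subset_univ _) fun ψ _ hψ => ?_).symm
    simp only [Finset.mem_insert, not_or] at hψ
    rw [h.out ψ hψ.1 hψ.2.1 hψ.2.2 x hx]; simp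
  have hY : ∑ ψ ∈ Y, ψ.1 s * ψ.1 s * conj (ψ.1 x) / ψ.1 1 =
      (χ.1 s - ε) * (χ.1 s - ε) * ε / (χ.1 1 - ε) := by
    rw [Finset.sum_congr rfl (g := fun ψ => (χ.1 s - ε) * (χ.1 s - ε) / (χ.1 1 - ε) * conj (ψ.1 x))
      fun ψ hψ => by
        rw [h.rel ψ hψ s (h.reg_invol hs), h.rel ψ hψ 1 (h.reg_invol (mul_one 1))]; ring,
      ← Finset.mul_sum, ← map_sum, h.sumY x hx]
    simp only [map_intCast]; ring
  rw [Isaacs.card_class_mul, hsub, Finset.sum_insert (by
    simp only [Finset.mem_insert, not_or]; exact ⟨h.ne_one.symm, h.one_notMem⟩),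
    Finset.sum_insert h.notMem, hY, h.val x hx]
  simp only [oneIrr, map_one, map_neg, map_intCast]
  field_simp
  linear_combination (χ.1 s ^ 2 - 2 * χ.1 s * χ.1 1 + χ.1 1 * ε) * e2

theorem mem_N {a x : G} (hx : x ∈ P) (x1 : x ≠ 1) (ha : a * x * a⁻¹ = x⁻¹) :
    a ∈ normalizer (P : Set G) := by
  have := h.toOrdP.mem_of_conj_mem hx x1 (g := a⁻¹)
    (by rw [inv_inv, ha]; exact le_normalizer (inv_mem hx))
  exact inv_mem_iff.mp this

/-- There is one class of involutions. -/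
theorem one_class (hk : charKer χ.1 = ⊥) {i : G} (hi : i ∈ normalizer (P : Set G))
    (i2 : i * i = 1) (i1 : i ≠ 1) {s : G} (s2 : s * s = 1) (s1 : s ≠ 1) : IsConj i s := by
  obtain ⟨x, hx⟩ := h.toOrdP.exists_ne_one
  have h1 := h.formula s2 (h.toOrdP.dvd_orderOf hx)
  have h2 : Nat.card {q : G × G // IsConj s q.1 ∧ IsConj s q.2 ∧ q.1 * q.2 = x} ≠ 0 := by
    intro e
    rw [e] at h1
    haveI : Nonempty {y : G // IsConj s y} := ⟨⟨s, IsConj.refl s⟩⟩
    have h3 : (Nat.card {y : G // IsConj s y} : ℂ) ≠ 0 := by exact_mod_cast Nat.card_pos.ne'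
    have h4 : χ.1 1 - χ.1 s = 0 := by
      have : (Nat.card {y : G // IsConj s y} : ℂ) ^ 2 * (χ.1 1 - χ.1 s) ^ 2 = 0 := by
        rw [← h1]; simp
      exact pow_eq_zero_iff two_ne_zero |>.mp ((mul_eq_zero.mp this).resolve_left (pow_ne_zero _ h3))
    apply s1
    rw [← mem_bot, ← hk, mem_charKer_iff (irr_isChar χ)]
    exact (sub_eq_zero.mp h4).symm
  obtain ⟨⟨⟨a, b⟩, ha, hb, hab⟩⟩ := (Nat.card_ne_zero.mp h2).1
  have sq : ∀ a, IsConj s a → a * a = 1 ∧ a ≠ 1 := by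
    intro a ha
    obtain ⟨g, rfl⟩ := isConj_iff.mp ha
    exact ⟨by rw [conj_mul, s2]; simp, by simpa [mul_inv_eq_one] using s1⟩
  have a2 := sq a ha
  have b2 := sq b hb
  have hx1 : (x : G) ≠ 1 := fun e => hx (Subtype.ext e)
  have aN : a ∈ normalizer (P : Set G) := h.mem_N x.2 hx1 (by
    dsimp only at hab
    rw [← hab, mul_inv_rev, inv_eq_of_mul_eq_one_right a2.1, inv_eq_of_mul_eq_one_right b2.1,
      ← mul_assoc, a2.1, one_mul])
  exact (h.toSC.isConj h.ne_two hi i2 i1 aN a2.1 a2.2).trans ha.symm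

theorem card_pairs {i : G} (hi : i ∈ normalizer (P : Set G)) (i2 : i * i = 1) (i1 : i ≠ 1)
    {x : G} (hx : x ∈ P) (x1 : x ≠ 1) :
    Nat.card {q : G × G // IsConj i q.1 ∧ IsConj i q.2 ∧ q.1 * q.2 = x} = p := by
  have sq : ∀ a, IsConj i a → a * a = 1 ∧ a ≠ 1 := by
    intro a ha
    obtain ⟨g, rfl⟩ := isConj_iff.mp ha
    exact ⟨by rw [conj_mul, i2]; simp, by simpa [mul_inv_eq_one] using i1⟩
  have iP := h.toSC.not_mem h.ne_two i2 i1
  have cj : ∀ z ∈ normalizer (P : Set G), z ∉ P → IsConj i z := fun z hz hP =>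
    h.toSC.isConj h.ne_two hi i2 i1 hz (h.sq_eq_one hz hP) fun e => hP (e ▸ one_mem _)
  rw [← h.card]
  refine Nat.card_congr ⟨fun q => ⟨q.1.1 * i, ?_⟩, fun y => ⟨(y * i, i * y⁻¹ * x), ?_, ?_, ?_⟩, ?_, ?_⟩
  · obtain ⟨⟨a, b⟩, ha, hb, hab⟩ := q
    have a2 := sq a ha
    have b2 := sq b hb
    refine h.toSC.mul_mem' h.ne_two hi i2 i1 (h.mem_N hx x1 ?_) a2.1 a2.2
    dsimp only at hab ⊢
    rw [← hab, mul_inv_rev, inv_eq_of_mul_eq_one_right a2.1, inv_eq_of_mul_eq_one_right b2.1,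
      ← mul_assoc, a2.1, one_mul]
  · exact cj _ (mul_mem (le_normalizer y.2) hi) fun e => iP ((P.mul_mem_cancel_left y.2).mp e)
  · refine cj _ (mul_mem (mul_mem hi (le_normalizer (inv_mem y.2))) (le_normalizer hx)) fun e => iP ?_
    exact (P.mul_mem_cancel_right (inv_mem y.2)).mp ((P.mul_mem_cancel_right hx).mp e)
  · dsimp only
    rw [mul_assoc, ← mul_assoc i, ← mul_assoc i, i2]; simp
  · rintro ⟨⟨a, b⟩, ha, hb, hab⟩
    dsimp only at hab
    refine Subtype.ext (Prod.ext ?_ ?_)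
    · dsimp only; rw [mul_assoc, i2, mul_one]
    · change i * (a * i)⁻¹ * x = b
      rw [← hab, mul_inv_rev, inv_eq_of_mul_eq_one_right i2, ← mul_assoc i, i2]; simp
  · intro y
    refine Subtype.ext ?_
    dsimp only; rw [mul_assoc, i2, mul_one]

/-- The order formula. -/
theorem order {i : G} (hi : i ∈ normalizer (P : Set G)) (i2 : i * i = 1) (i1 : i ≠ 1) {D v : ℤ}
    (hD : χ.1 1 = D) (hv : χ.1 i = v) :
    p * (D * (D - ε)) * (Nat.card (centralizer ({i} : Set G)) : ℤ) ^ 2 = Nat.card G * (D - v) ^ 2 := by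
  obtain ⟨x, hx⟩ := h.toOrdP.exists_ne_one
  have h1 := h.formula i2 (h.toOrdP.dvd_orderOf hx)
  rw [h.card_pairs hi i2 i1 x.2 (fun e => hx (Subtype.ext e)), hD, hv, card_isConj] at h1
  have h2 : ((centralizer ({i} : Set G)).index : ℂ) * Nat.card (centralizer ({i} : Set G)) =
      Nat.card G := by exact_mod_cast (centralizer ({i} : Set G)).index_mul_card
  have hG : (Nat.card G : ℂ) ≠ 0 := card_ne_zero
  have h3 : (p : ℂ) * (D * (D - ε)) * (Nat.card (centralizer ({i} : Set G)) : ℂ) ^ 2 =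
      Nat.card G * (D - v) ^ 2 := by
    apply mul_right_cancel₀ hG
    linear_combination (Nat.card (centralizer ({i} : Set G)) : ℂ) ^ 2 * h1 +
      (D - v) ^ 2 * (((centralizer ({i} : Set G)).index : ℂ) * Nat.card (centralizer ({i} : Set G))
        + Nat.card G) * h2
  exact_mod_cast h3

theorem inner_sing {β : G → ℂ} (hβ : ∀ g, p ∣ orderOf g → β g = 0) {ξ : IrrCharacter G}
    (hξ : ξ ∈ Y) : classInner β ξ.1 = classInner β χ.1 - ε * classInner β fun _ => 1 := by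
  have := classInner_eq_zero_comm.1 (inner_eq_zero_of_supp
    (α := ξ.1 - (χ.1 - (ε : ℂ) • fun _ => 1)) (fun g hg => by simp [h.rel ξ hξ g hg]) hβ)
  simpa only [classInner_sub_right, classInner_smul_right, map_intCast, sub_eq_zero] using this

/-- Centralisers of involutions have order prime to `p`. -/
theorem not_dvd_cent {i : G} (i2 : i * i = 1) (i1 : i ≠ 1) :
    ¬ p ∣ Nat.card (centralizer ({i} : Set G)) := by
  intro e
  haveI := Fact.mk h.prime
  obtain ⟨x, hx⟩ := exists_prime_orderOf_dvd_card' p e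
  rw [← orderOf_coe] at hx
  obtain ⟨y, hy⟩ := h.toOrdP.exists_le_zpowers (g := x.1) (by rw [hx])
  have hc : x.1 * i = i * x.1 := mem_centralizer_singleton_iff.mp x.2
  have h1 : y * i * y⁻¹ ∈ centralizer (P : Set G) := by
    intro u hu
    obtain ⟨k, rfl⟩ := hy hu
    have : Commute (y * x.1 * y⁻¹) (y * i * y⁻¹) := by
      change _ * _ = _ * _
      rw [conj_mul, conj_mul, hc]
    exact (this.zpow_left k).eq
  exact h.toSC.not_mem h.ne_two (by rw [conj_mul, i2]; simp) (by simpa [mul_inv_eq_one] using i1)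
    (h.le h1)

end DE

end Cfsg.Agent.Gp.TP
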