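import Mathlib
import Cfsg.Agent.Gp.TP1

/-! Transitive groups of degree `3 p`: the permutation character and rank three numerics. -/

set_option autoImplicit false

namespace Cfsg.Agent.Gp.TP

open Cfsg Cfsg.Agent.Char Cfsg.Agent.Block Subgroup MulAction
open scoped _root_.Classical ComplexConjugate

variable {G : Type*} [Group G] [Fintype G] {p : ℕ} {P : Subgroup G}

namespace DE

variable {ε : ℤ} {t : ℕ} {Y : Finset (IrrCharacter G)} {χ : IrrCharacter G} (h : DE p P ε t Y χ)
  {Ω : Type*} [MulAction G Ω] [Finite Ω] [IsPretransitive G Ω] (hΩ : Nat.card Ω = 3 * p)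
include h hΩ

theorem fix_cases {i : G} (hi : i ∈ normalizer (P : Set G)) (i2 : i * i = 1) (i1 : i ≠ 1) :
    Nat.card (fixedBy Ω i) = 1 ∨ Nat.card (fixedBy Ω i) = 3 := by
  have hπ := isChar_perm (G := G) Ω
  have hv : ∀ g : G, p ∣ orderOf g → (Nat.card (fixedBy Ω g) : ℂ) = 0 := fun g hg => by
    rw [h.toOrdP.card_fixedBy_eq_zero Ω (hΩ ▸ Dvd.intro_left 3 rfl) hg]; simp
  have h1 : (Nat.card (fixedBy Ω (1 : G)) : ℂ) = (3 * p : ℕ) := by
    rw [fixedBy_one_eq_univ, Nat.card_univ, hΩ]
  have h2 := h.sumN hπ hv hi i2 i1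
  have h3 := (h.toOrdP.of_const hπ (c := 0) fun x hx => by
    rw [hv _ (h.toOrdP.dvd_orderOf hx)]; simp).1
  rw [charDegree_of_eq (χ := fun g : G => (Nat.card (fixedBy Ω g) : ℂ)) h1] at h3
  have h4 := fx_le (P := P) (N := normalizer (P : Set G)) le_normalizer hπ
  simp only [h1] at h2
  have hp := h.prime.pos
  generalize fx (normalizer (P : Set G)) (fun g : G => (Nat.card (fixedBy Ω g) : ℂ)) = m at h2 h4
  generalize fx P (fun g : G => (Nat.card (fixedBy Ω g) : ℂ)) = m' at h3 h4
  have h5 : p * (2 * m) = p * (Nat.card (fixedBy Ω i) + 3) := by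
    have : (p : ℂ) * (2 * m) = p * (Nat.card (fixedBy Ω i) + 3) := by
      push_cast at h2; linear_combination h2
    exact_mod_cast this
  have h6 := Nat.eq_of_mul_eq_mul_left hp h5
  have h7 : p * 3 = p * m' := by
    push_cast at h3
    have : (p : ℤ) * 3 = p * m' := by linear_combination h3
    exact_mod_cast this
  have h8 := Nat.eq_of_mul_eq_mul_left hp h7
  omega

theorem perm_cases (hG : commutator G = ⊤) {i : G} (hi : i ∈ normalizer (P : Set G))
    (i2 : i * i = 1) (i1 : i ≠ 1) :
    (ε = -1 ∧ p = 5 ∧ χ.1 1 = (6 : ℤ) ∧ 2 * χ.1 i + 3 = Nat.card (fixedBy Ω i)) ∨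
    (ε = 1 ∧ charDegree χ.1 = 2 * t) ∨
    (ε = 1 ∧ χ.1 1 = (2 * p - 1 : ℤ) ∧ (χ.1 i = (1 : ℤ) ∨ χ.1 i = (-1 : ℤ)) ∧
      classInner (fun g : G => (Nat.card (fixedBy Ω g) : ℂ)) χ.1 = 1 ∧
      Nat.card (orbitRel.Quotient G (Ω × Ω)) = 3) ∨
    (ε = 1 ∧ χ.1 1 = (3 * p - 1 : ℤ) ∧ χ.1 i = (Nat.card (fixedBy Ω i) - 1 : ℤ)) := by
  have hte := h.te
  have ht := h.two_le
  haveI : Nonempty Ω := (Nat.card_ne_zero.mp (by omega : Nat.card Ω ≠ 0)).1
  set D : G → ℂ := fun g : G => (Nat.card (fixedBy Ω g) : ℂ) - 1 with hDdef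
  have hD : IsCharacter G D := isChar_perm_sub_one (G := G) Ω
  have hD1 : D 1 = (3 * p - 1 : ℕ) := by
    simp only [hDdef]
    rw [fixedBy_one_eq_univ, Nat.card_univ, hΩ, Nat.cast_sub (by omega), Nat.cast_one]
  have hd := charDegree_of_eq hD1
  have hπ : (fun g : G => (Nat.card (fixedBy Ω g) : ℂ)) = D + (oneIrr G).1 :=
    funext fun g => by simp [hDdef]
  have h0 : classInner D (oneIrr G).1 = 0 := by
    have := classInner_sub_left (fun g : G => (Nat.card (fixedBy Ω g) : ℂ)) (fun _ => 1) fun _ => 1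
    rw [classInner_perm_one, card_orbits_of_pretransitive, classInner_one_one, Nat.cast_one,
      sub_self] at this
    exact this
  have hv : ∀ g : G, p ∣ orderOf g → D g = -1 := fun g hg => by
    simp only [hDdef]
    rw [h.toOrdP.card_fixedBy_eq_zero Ω (hΩ ▸ Dvd.intro_left 3 rfl) hg]; simp
  obtain ⟨m, hm⟩ := classInner_isChar_nat hD (irr_isChar χ)
  have key : ∀ ξ ∈ Y, classInner D ξ.1 = m - ε := fun ξ hξ => by
    have := h.inner_sing (β := D + (oneIrr G).1) (fun g hg => by simp [hv g hg]) hξ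
    have h00 : classInner D (fun _ => 1) = 0 := h0
    simp only [classInner_add_left, classInner_irr_ne h.ne_one.symm, hm, h00,
      classInner_irr_ne (show oneIrr G ≠ ξ from fun e => h.one_notMem (e ▸ hξ))] at this
    rw [show classInner (oneIrr G).1 (fun _ => 1) = 1 from classInner_one_one] at this
    linear_combination this
  have degY : ∀ ξ ∈ Y, (charDegree ξ.1 : ℤ) = charDegree χ.1 - ε := fun ξ hξ => by
    have := h.rel ξ hξ 1 (h.reg_invol (mul_one 1))
    rw [← irr_degree_cast, ← irr_degree_cast] at this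
    exact_mod_cast this
  have degX := (h.toOrdP.of_const (irr_isChar χ) (c := -ε) fun x hx => by
    rw [h.val _ (h.toOrdP.dvd_orderOf hx)]; simp).1
  have hdne : charDegree χ.1 ≠ 1 := fun e => h.ne_one (eq_one_of_perfect hG e)
  have hd0 := isIrr_charDegree_ne_zero χ.2
  rcases h.sign with e | e
  swap
  · left
    subst e
    have nz : ∀ ξ ∈ Y, classInner D ξ.1 ≠ 0 := fun ξ hξ e => by
      rw [key ξ hξ] at e
      have : (m : ℤ) - (-1) = 0 := by exact_mod_cast e
      omega
    have h5 := sum_degree_le hD nz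
    have h6 : ∑ ξ ∈ Y, charDegree ξ.1 = t * (charDegree χ.1 + 1) := by
      rw [Finset.sum_congr rfl (g := fun _ => charDegree χ.1 + 1) fun ξ hξ => by
        have := degY ξ hξ
        omega, Finset.sum_const, h.cardY, smul_eq_mul]
    have h7 : p + 1 ≤ charDegree χ.1 := by
      have h8 : 2 ≤ fx P χ.1 := by
        by_contra h9
        rcases (by omega : fx P χ.1 = 0 ∨ fx P χ.1 = 1) with e | e <;> rw [e] at degX <;> omega
      have : (p : ℤ) * 1 ≤ p * (fx P χ.1 - - -1) := mul_le_mul_of_nonneg_left (by omega) (by omega)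
      omega
    have h8 : t = 2 := by
      by_contra h9
      have : 3 * (charDegree χ.1 + 1) ≤ t * (charDegree χ.1 + 1) := Nat.mul_le_mul_right _ (by omega)
      omega
    subst h8
    have h9 : charDegree χ.1 = 6 := by omega
    refine ⟨rfl, by omega, by rw [← irr_degree_cast, h9]; simp, ?_⟩
    have := eq_sum_of_degree_le hD nz (by omega) i
    rw [Finset.sum_congr rfl fun ξ hξ => h.rel ξ hξ i (h.reg_invol i2), Finset.sum_const,
      h.cardY] at this
    simp only [hDdef, nsmul_eq_mul] at this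
    push_cast at this
    linear_combination -this
  right
  subst e
  obtain ⟨ξ₀, hξ₀⟩ := Finset.card_pos.1 (show 0 < Y.card by rw [h.cardY]; omega)
  have hm1 : 1 ≤ m := by
    obtain ⟨k, hk⟩ := classInner_isChar_nat hD (irr_isChar ξ₀)
    rw [key ξ₀ hξ₀] at hk
    have : (m : ℤ) - 1 = k := by exact_mod_cast hk
    omega
  have nz : ∀ ψ ∈ ({χ} : Finset (IrrCharacter G)), classInner D ψ.1 ≠ 0 := by
    simp only [Finset.mem_singleton, forall_eq, hm]
    exact_mod_cast (by omega : m ≠ 0)
  have h4 := sum_degree_le hD nz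
  rw [Finset.sum_singleton] at h4
  have h7 : fx P χ.1 ≤ 2 := by
    by_contra h9
    have : (p : ℤ) * 4 ≤ p * (fx P χ.1 - -1) := mul_le_mul_of_nonneg_left (by omega) (by omega)
    omega
  rcases (by omega : fx P χ.1 = 0 ∨ fx P χ.1 = 1 ∨ fx P χ.1 = 2) with e | e | e
  · left
    rw [e] at degX
    exact ⟨rfl, by omega⟩
  swap
  · right; right
    rw [e] at degX
    have := eq_sum_of_degree_le hD nz (by rw [Finset.sum_singleton]; omega)
    simp only [Finset.sum_singleton] at this
    refine ⟨rfl, ?_, ?_⟩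
    · rw [← this, hD1, Nat.cast_sub (by omega)]; simp
    · rw [← this]; simp [hDdef]
  right; left
  have hfx := e
  rw [e] at degX
  have hc1 : χ.1 1 = (2 * p - 1 : ℤ) := by
    rw [← irr_degree_cast]
    have : (charDegree χ.1 : ℤ) = 2 * p - 1 := by omega
    exact_mod_cast congrArg (Int.cast : ℤ → ℂ) this
  have m1 : m = 1 := by
    by_contra h9
    have h10 := sum_degree_le hD (S := insert χ Y) fun ξ hξ => by
      rcases Finset.mem_insert.1 hξ with rfl | hξ
      · exact nz _ (Finset.mem_singleton_self _)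
      rw [key ξ hξ]
      intro e
      have : (m : ℤ) - 1 = 0 := by exact_mod_cast e
      omega
    rw [Finset.sum_insert h.notMem, Finset.sum_congr rfl (g := fun _ => charDegree χ.1 - 1)
      fun ξ hξ => by have := degY ξ hξ; omega, Finset.sum_const, h.cardY, smul_eq_mul] at h10
    have := Nat.mul_le_mul_right (charDegree χ.1 - 1) ht
    omega
  subst m1
  refine ⟨rfl, hc1, ?_, ?_, ?_⟩
  · have h2 := h.sumN (irr_isChar χ) h.val hi i2 i1
    have h3 := fx_le (P := P) (N := normalizer (P : Set G)) le_normalizer (irr_isChar χ)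
    have hp : (p : ℂ) ≠ 0 := by exact_mod_cast h.prime.ne_zero
    rw [hc1] at h2
    rcases (by omega : fx (normalizer (P : Set G)) χ.1 = 1 ∨ fx (normalizer (P : Set G)) χ.1 = 0)
      with e | e <;> rw [e] at h2
    · left
      apply mul_left_cancel₀ hp
      push_cast at h2 ⊢
      linear_combination -h2
    · right
      apply mul_left_cancel₀ hp
      push_cast at h2 ⊢
      linear_combination -h2
  · rw [hπ, classInner_add_left, hm, classInner_irr_ne h.ne_one.symm]; simp
  · obtain ⟨η, hη, e1⟩ := Constit.exists_add_of_inner_ne_zero hD χ.2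
      (nz _ (Finset.mem_singleton_self _))
    have η1 : η 1 = (p : ℕ) := by
      have := congrFun e1 1
      rw [hD1, Pi.add_apply, hc1, Nat.cast_sub (by omega)] at this
      push_cast at this ⊢
      linear_combination -this
    obtain ⟨ψ, hψ, hψη⟩ := Constit.exists_constituent hη (fun e => by
      rw [e] at η1
      have : (p : ℂ) = 0 := η1.symm
      exact h.prime.ne_zero (by exact_mod_cast this))
    let ψ' : IrrCharacter G := ⟨ψ, hψ⟩
    have hi' : ∀ φ : IrrCharacter G, classInner η φ.1 = classInner D φ.1 - classInner χ.1 φ.1 :=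
      fun φ => by rw [e1, classInner_add_left]; ring
    have n1 : ψ' ≠ oneIrr G := fun e => hψη (by
      change classInner η ψ'.1 = 0
      rw [e, hi', h0, classInner_irr_ne h.ne_one, sub_zero])
    have n2 : ψ' ≠ χ := fun e => hψη (by
      change classInner η ψ'.1 = 0
      rw [e, hi', hm, classInner_irr_self]; simp)
    have n3 : ψ' ∉ Y := fun e => hψη (by
      change classInner η ψ'.1 = 0
      rw [hi', key _ e, classInner_irr_ne n2.symm]; simp)
    have dψ := (h.toOrdP.of_const (irr_isChar ψ') (c := 0) fun x hx => by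
      rw [h.out ψ' n1 n2 n3 _ (h.toOrdP.dvd_orderOf hx)]; simp).1
    have dψ0 := isIrr_charDegree_ne_zero hψ
    have e2 : η = ψ := Constit.eq_of_inner_ne_zero_of_degree hη hψ hψη η1
      (irr_degree_cast ψ').symm (by
        change p ≤ charDegree ψ
        have h1 : charDegree ψ = p * fx P ψ := by
          have : (charDegree ψ : ℤ) = p * fx P ψ := by simpa using dψ
          exact_mod_cast this
        rw [h1] at dψ0 ⊢
        exact Nat.le_mul_of_pos_right _ (Nat.pos_of_ne_zero fun e => dψ0 (by rw [e, mul_zero])))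
    have h3 := classInner_perm_perm (G := G) Ω Ω
    rw [hπ, e1, e2, show ψ = ψ'.1 from rfl] at h3
    simp only [classInner_add_left, classInner_add_right, classInner_irr_self,
      classInner_irr_ne n1, classInner_irr_ne n2, classInner_irr_ne n1.symm,
      classInner_irr_ne n2.symm, classInner_irr_ne h.ne_one, classInner_irr_ne h.ne_one.symm] at h3
    have : ((3 : ℕ) : ℂ) = Nat.card (orbitRel.Quotient G (Ω × Ω)) := by
      rw [← h3]; norm_num
    exact_mod_cast this.symm

end DE

end Cfsg.Agent.Gp.TP
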