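import Mathlib
import Cfsg.Agent.Part.Rk1
import Cfsg.Agent.Inv.Dihedral
import Cfsg.Agent.Classical.PSL2Basic
import Cfsg.Agent.S0222
import Cfsg.Agent.S0280
import Cfsg.Agent.S2430

/-! Actions in which every involution fixes one or three points. -/

set_option autoImplicit false

namespace Cfsg.Agent.Gp.TP

open Cfsg MulAction Subgroup

variable {G : Type*} [Group G] [Finite G] {Ω : Type*} [MulAction G Ω] [Finite Ω]

theorem pow_invol {S : Subgroup G} (hS : IsPGroup 2 S) {g : G} (hg : g ∈ S) (h1 : g ≠ 1) :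
    ∃ k : ℕ, g ^ k * g ^ k = 1 ∧ g ^ k ≠ 1 := by
  haveI := Fact.mk Nat.prime_two
  obtain ⟨k, hk⟩ := (IsPGroup.iff_orderOf.mp hS) ⟨g, hg⟩
  rw [← orderOf_coe] at hk
  dsimp only at hk
  have k0 : k ≠ 0 := by rintro rfl; exact h1 (orderOf_eq_one_iff.mp hk)
  have h2 : 2 ∣ orderOf g := hk ▸ dvd_pow_self 2 k0
  have h3 := orderOf_pow_orderOf_div (orderOf_pos g).ne' h2
  exact ⟨_, Inv.mul_self_of_two h3, Inv.ne_one_of_two h3⟩

omit [Finite G] [Finite Ω] in
theorem pow_fix {g : G} {y : Ω} (h : g • y = y) (k : ℕ) : g ^ k • y = y :=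
  (stabilizer G y).pow_mem h k

theorem free2 {S Q : Subgroup G} (hS : IsPGroup 2 S) (hQ : Q ≤ S) (T : Set Ω)
    (hT : ∀ g ∈ Q, ∀ y ∈ T, g • y ∈ T)
    (hf : ∀ v ∈ Q, v * v = 1 → v ≠ 1 → ∀ y ∈ T, v • y ≠ y) : Nat.card Q ∣ T.ncard := by
  rw [Set.ncard_eq_toFinset_card T]
  refine Part.Rk.dvd_card_of_free Q _ (fun g y => g • y) (one_smul G) (mul_smul)
    (fun g hg y hy => by simpa using hT g hg y (by simpa using hy)) fun g hg y hy e => ?_
  by_contra h1
  obtain ⟨k, k1, k2⟩ := pow_invol hS (hQ hg) h1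
  exact hf _ (Q.pow_mem hg k) k1 k2 y (by simpa using hy) (pow_fix e k)

omit [Finite Ω] in
theorem triple {T : Set Ω} (h : T.ncard = 3) {a : Ω} (ha : a ∈ T) :
    ∃ b c, a ≠ b ∧ a ≠ c ∧ b ≠ c ∧ T = {a, b, c} := by
  obtain ⟨x, y, z, h1, h2, h3, rfl⟩ := Set.ncard_eq_three.mp h
  rcases ha with rfl | rfl | rfl
  · exact ⟨y, z, h1, h2, h3, rfl⟩
  · exact ⟨x, z, h1.symm, h3, h2, by ext; simp; tauto⟩
  · exact ⟨x, y, h2.symm, h3.symm, h1, by ext; simp; tauto⟩

theorem local3 {S : Subgroup G} (hS : IsPGroup 2 S) (hS1 : S ≠ ⊥) {α : Ω}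
    (hα : ∀ s ∈ S, s • α = α)
    (hfix : ∀ v : G, v * v = 1 → v ≠ 1 → Nat.card (fixedBy Ω v) = 3)
    (hcl : ∀ u v : G, u * u = 1 → u ≠ 1 → v * v = 1 → v ≠ 1 → IsConj u v) :
    Nat.card S ∣ Nat.card Ω - 3 ∨ ∃ z ∈ S, ∃ u ∈ S, ∃ β : Ω, z * z = 1 ∧ z ≠ 1 ∧ u * u = 1 ∧ u ≠ 1 ∧
      u ≠ z ∧ (∀ s ∈ S, s * z = z * s) ∧ α ≠ β ∧ Nat.card ↥(S ⊓ centralizer {u}) ≤ 4 ∧
      Nat.card S ∣ 2 * (Nat.card Ω - 3) ∧
      Nat.card S ∣ {y | y ≠ α ∧ ∀ g : G, g • α = α → g • β ≠ y}.ncard := by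
  classical
  haveI := Fact.mk Nat.prime_two
  haveI := (S.nontrivial_iff_ne_bot).mpr hS1
  haveI := hS.center_nontrivial
  obtain ⟨z0, hz0⟩ := exists_ne (1 : center S)
  obtain ⟨k, z2, z1⟩ := pow_invol hS z0.1.2 (fun e => hz0 (Subtype.ext (Subtype.ext e)))
  set z := z0.1.1 ^ k with hzdef
  have zS : z ∈ S := S.pow_mem z0.1.2 k
  have zc : ∀ s ∈ S, s * z = z * s := fun s hs => by
    have : Commute s z0.1.1 := congrArg Subtype.val (mem_center_iff.mp z0.2 ⟨s, hs⟩)
    exact (this.pow_right k).eq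
  clear_value z
  obtain ⟨β, γ, ab, ac, bc, hΔ⟩ := triple (T := fixedBy Ω z) (hfix z z2 z1) (hα z zS)
  have mΔ : ∀ y, z • y = y ↔ y = α ∨ y = β ∨ y = γ := fun y => by
    rw [← mem_fixedBy, hΔ]; rfl
  have zb : z • β = β := (mΔ _).mpr (by simp)
  have zg : z • γ = γ := (mΔ _).mpr (by simp)
  have cm : ∀ {s x : G}, s * x = x * s → ∀ {y : Ω}, x • y = y → x • s • y = s • y :=
    fun h y hy => by rw [← mul_smul, ← h, mul_smul, hy]
  have sb : ∀ s ∈ S, s • β = β ∨ s • β = γ := fun s hs =>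
    ((mΔ _).mp (cm (zc s hs) zb)).resolve_left fun e =>
      ab (smul_left_cancel s ((hα s hs).trans e.symm))
  have sg : ∀ s ∈ S, s • γ = β ∨ s • γ = γ := fun s hs =>
    ((mΔ _).mp (cm (zc s hs) zg)).resolve_left fun e =>
      ac (smul_left_cancel s ((hα s hs).trans e.symm))
  have fx3 : ∀ v ∈ S, v * v = 1 → v ≠ 1 → v • β = β → ∀ y : Ω, v • y = y → z • y = y := by
    intro v hv v2 v1 vb y hy
    have vg : v • γ = γ := (sg v hv).resolve_left fun e => bc (smul_left_cancel v (vb.trans e.symm))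
    have : fixedBy Ω z = fixedBy Ω v := Set.eq_of_subset_of_ncard_le (by
      rw [hΔ]; rintro _ (rfl | rfl | rfl)
      exacts [hα v hv, vb, vg]) (by
      exact ((hfix v v2 v1).trans (hfix z z2 z1).symm).le)
    rw [← mem_fixedBy, this]; exact hy
  have cT : (fixedBy Ω z)ᶜ.ncard = Nat.card Ω - 3 := by
    have := Set.ncard_add_ncard_compl (fixedBy Ω z)
    have h2 : (fixedBy Ω z).ncard = 3 := hfix z z2 z1
    omega
  have iT : ∀ g ∈ S, ∀ y ∈ (fixedBy Ω z)ᶜ, g • y ∈ (fixedBy Ω z)ᶜ := fun g hg y hy e => hy (by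
    have := cm (zc _ (S.inv_mem hg)) e
    rwa [inv_smul_smul] at this)
  by_cases hall : ∀ v ∈ S, v * v = 1 → v ≠ 1 → v • β = β
  · left
    rw [← cT]
    exact free2 hS le_rfl _ iT fun v hv v2 v1 y hy e => hy (fx3 v hv v2 v1 (hall v hv v2 v1) y e)
  right
  push Not at hall
  obtain ⟨u, uS, u2, u1, ub⟩ := hall
  have mv : ∀ v ∈ S, v • β ≠ β → v • β = γ ∧ v • γ = β := fun v hv vb => by
    have h1 := (sb v hv).resolve_left vb
    exact ⟨h1, (sg v hv).resolve_right fun e => bc (smul_left_cancel v (h1.trans e.symm))⟩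
  obtain ⟨ub', ug⟩ := mv u uS ub
  refine ⟨z, zS, u, uS, β, z2, z1, u2, u1, fun e => ub (e ▸ zb), zc, ab, ?_, ?_, ?_⟩
  · obtain ⟨δ, ε, ad, ae, de, hu⟩ := triple (T := fixedBy Ω u) (hfix u u2 u1) (hα u uS)
    have mu : ∀ y, u • y = y ↔ y = α ∨ y = δ ∨ y = ε := fun y => by
      rw [← mem_fixedBy, hu]; rfl
    have ud : u • δ = δ := (mu _).mpr (by simp)
    have sd : ∀ s : ↥(S ⊓ centralizer {u}), s.1 • δ = δ ∨ s.1 • δ = ε := fun s =>
      ((mu _).mp (cm (mem_centralizer_singleton_iff.mp s.2.2) ud)).resolve_left fun e =>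
        ad (smul_left_cancel s.1 ((hα s s.2.1).trans e.symm))
    have := Nat.card_le_card_of_injective (β := Prop × Prop)
      (fun s : ↥(S ⊓ centralizer {u}) => (s.1 • β = β, s.1 • δ = δ)) (by
        intro s s' e
        have e1 : s.1 • β = β ↔ s'.1 • β = β := (congrArg Prod.fst e).to_iff
        have e2 : s.1 • δ = δ ↔ s'.1 • δ = δ := (congrArg Prod.snd e).to_iff
        have e3 : s.1 • β = s'.1 • β := by
          rcases sb _ s.2.1 with a | a <;> rcases sb _ s'.2.1 with b | b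
          exacts [a.trans b.symm, a.trans (e1.mp a).symm, (e1.mpr b).trans b.symm, a.trans b.symm]
        have e4 : s.1 • δ = s'.1 • δ := by
          rcases sd s with a | a <;> rcases sd s' with b | b
          exacts [a.trans b.symm, a.trans (e2.mp a).symm, (e2.mpr b).trans b.symm, a.trans b.symm]
        by_contra hne
        have m : s'.1⁻¹ * s.1 ∈ S := S.mul_mem (S.inv_mem s'.2.1) s.2.1
        obtain ⟨j, j2, j1⟩ := pow_invol hS m
          (fun e => hne (Subtype.ext (inv_mul_eq_one.mp e).symm))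
        have := fx3 _ (S.pow_mem m j) j2 j1
          (pow_fix (by rw [mul_smul, e3, inv_smul_smul]) j) δ
          (pow_fix (by rw [mul_smul, e4, inv_smul_smul]) j)
        rcases (mΔ _).mp this with a | a | a
        · exact ad a.symm
        · exact ub (a ▸ ud)
        · rw [a, ug] at ud; exact bc ud)
    simpa using this
  · have h1 := free2 hS (inf_le_left : S ⊓ stabilizer G β ≤ S) _ (fun g hg => iT g hg.1)
      fun v hv v2 v1 y hy e => hy (fx3 v hv.1 v2 v1 hv.2 y e)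
    have h2 := Part.Rk.orb_card S β {β, γ} (fun y => by
      simp only [Finset.mem_insert, Finset.mem_singleton]
      constructor
      · rintro (rfl | rfl)
        exacts [⟨1, S.one_mem, one_smul _ _⟩, ⟨u, uS, ub'⟩]
      · rintro ⟨g, hg, rfl⟩
        exact sb g hg)
    rw [Finset.card_pair bc] at h2
    rw [← h2, ← cT]
    exact Nat.mul_dvd_mul_left 2 h1
  · refine free2 hS le_rfl _ (fun s hs y hy => ⟨fun e => hy.1 (smul_left_cancel s
      (e.trans (hα s hs).symm)), fun g g1 g2 => hy.2 (s⁻¹ * g) ?_ ?_⟩) ?_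
    · rw [mul_smul, g1, hα _ (S.inv_mem hs)]
    · rw [mul_smul, g2, inv_smul_smul]
    intro v hv v2 v1 y hy vy
    have fin : ∀ g : G, g • α = α → z • g⁻¹ • y = g⁻¹ • y → False := by
      intro g g1 g2
      rcases (mΔ _).mp g2 with a | a | a
      · exact hy.1 (by rw [inv_smul_eq_iff, g1] at a; exact a)
      · exact hy.2 g g1 (by rw [← a, smul_inv_smul])
      · exact hy.2 (g * u) (by rw [mul_smul, hα u uS, g1]) (by rw [mul_smul, ub', ← a, smul_inv_smul])
    by_cases vb : v • β = β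
    · exact fin 1 (one_smul _ _) (by simpa using fx3 v hv v2 v1 vb y vy)
    obtain ⟨vb', vg⟩ := mv v hv vb
    obtain ⟨g, rfl⟩ := isConj_iff.mp (hcl z v z2 z1 v2 v1)
    have fz : ∀ x : Ω, (g * z * g⁻¹) • x = x ↔ z • g⁻¹ • x = g⁻¹ • x := fun x => by
      rw [mul_smul, mul_smul, smul_eq_iff_eq_inv_smul]
    obtain ⟨w, w1, w2⟩ : ∃ w : G, w * z = z * w ∧ w • α = g⁻¹ • α := by
      by_cases x0 : g⁻¹ • α = α
      · exact ⟨1, by simp, by simp [x0]⟩
      have c1 : g⁻¹ * z * g * z = z * (g⁻¹ * z * g) := by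
        have := zc _ hv
        calc _ = g⁻¹ * (z * (g * z * g⁻¹)) * g := by group
          _ = _ := by rw [← this]; group
      have c2 : (g⁻¹ * z * g) • g⁻¹ • α = g⁻¹ • α := by
        rw [mul_smul, smul_inv_smul, mul_smul, hα z zS]
      have c3 : (g⁻¹ * z * g) • α ≠ α := by
        intro e
        rw [mul_smul, mul_smul, inv_smul_eq_iff] at e
        have e2 : (g * z * g⁻¹) • g • α = g • α := (fz _).mpr (by simpa using hα z zS)
        rcases (mΔ _).mp e with a | a | a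
        · exact x0 (by rw [inv_smul_eq_iff, a])
        · rw [a] at e2; exact vb e2
        · rw [a, vg] at e2; exact bc e2
      have c4 : (g⁻¹ * z * g) • α ≠ g⁻¹ • α := fun e =>
        x0 (smul_left_cancel _ (c2.trans e.symm))
      have c5 := ((mΔ _).mp (cm c1 (hα z zS))).resolve_left c3
      have c6 := ((mΔ _).mp ((fz _).mp (hα _ hv))).resolve_left x0
      refine ⟨u * (g⁻¹ * z * g), by rw [mul_assoc, c1, ← mul_assoc, zc u uS, mul_assoc], ?_⟩
      rw [mul_smul]
      rcases c5 with a | a <;> rcases c6 with b | b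
      · exact absurd (a.trans b.symm) c4
      · rw [a, b, ub']
      · rw [a, b, ug]
      · exact absurd (a.trans b.symm) c4
    refine fin (g * w) (by rw [mul_smul, w2, smul_inv_smul]) ?_
    rw [mul_inv_rev, mul_smul]
    exact cm (Commute.inv_left w1).eq ((fz _).mp vy)

theorem dihedral8 {T : Type*} [Group T] [Finite T] (h8 : Nat.card T ∣ 8) {z u : T} (z2 : z * z = 1)
    (z1 : z ≠ 1) (u2 : u * u = 1) (u1 : u ≠ 1) (uz : u ≠ z) (zc : ∀ s, s * z = z * s)
    (h4 : Nat.card (centralizer ({u} : Set T)) ≤ 4) :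
    ∃ n, 2 ≤ n ∧ Nonempty (T ≃* DihedralGroup n) := by
  suffices h : ∃ a : T, u * a * u⁻¹ = a⁻¹ ∧ u ∉ zpowers a ∧ Nat.card T ≤ 2 * orderOf a ∧
      2 ≤ orderOf a by
    obtain ⟨a, a1, a2, a3, a4⟩ := h
    obtain ⟨e⟩ := Inv.nonempty_dihedral u2 a1 a2
    have := Nat.card_congr e.toEquiv
    rw [DihedralGroup.nat_card] at this
    have h2 := eq_top_of_le_card (closure ({a, u} : Set T)) (by omega)
    exact ⟨_, a4, ⟨(topEquiv.symm.trans (MulEquiv.subgroupCongr h2.symm)).trans e⟩⟩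
  have oz : orderOf z = 2 := Inv.two_of_mul_self z1 z2
  have zi : z⁻¹ = z := inv_eq_of_mul_eq_one_right z2
  have ui : u⁻¹ = u := inv_eq_of_mul_eq_one_right u2
  by_cases hT : Nat.card T ≤ 4
  · refine ⟨z, by rw [zc, zi]; simp, fun h => ?_, by omega, oz.ge⟩
    obtain ⟨k, rfl⟩ := mem_powers_iff_mem_zpowers.mpr h
    dsimp only at u1 uz
    rcases Nat.even_or_odd' k with ⟨j, rfl | rfl⟩
    · exact u1 (by rw [pow_mul, sq, z2, one_pow])
    · exact uz (by rw [pow_succ, pow_mul, sq, z2, one_pow, one_mul])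
  have c8 : Nat.card T = 8 := by
    have := Nat.le_of_dvd (by norm_num) h8
    obtain ⟨k, hk⟩ := h8
    interval_cases h : Nat.card T <;> omega
  have hV : ({1, z, u, z * u} : Set T).ncard = 4 := by
    rw [Set.ncard_insert_of_notMem, Set.ncard_insert_of_notMem, Set.ncard_pair]
    · simpa using z1
    · simp [uz.symm, u1]
    · simp only [Set.mem_insert_iff, Set.mem_singleton_iff, not_or]
      exact ⟨z1.symm, u1.symm, fun e => uz (by rw [← zi]; exact (inv_eq_of_mul_eq_one_right e.symm).symm)⟩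
  have hC : ({1, z, u, z * u} : Set T) = centralizer ({u} : Set T) :=
    Set.eq_of_subset_of_ncard_le (by
      rintro _ (rfl | rfl | rfl | rfl) <;> rw [SetLike.mem_coe, mem_centralizer_singleton_iff]
      · simp
      · exact (zc u).symm
      · rw [← mul_assoc, zc u]) (by rw [hV]; exact h4)
  have mC : ∀ d, d ∈ centralizer ({u} : Set T) → d = 1 ∨ d = z ∨ d = u ∨ d = z * u := fun d hd => by
    rw [← SetLike.mem_coe, ← hC] at hd; exact hd
  have i2 : (centralizer ({u} : Set T)).index = 2 := by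
    have h1 := (centralizer ({u} : Set T)).card_mul_index
    have h2 : Nat.card (centralizer ({u} : Set T)) = 4 := by rw [← hV, hC]; rfl
    rw [h2] at h1
    omega
  obtain ⟨w, hw⟩ : ∃ w, w ∉ centralizer ({u} : Set T) := by
    by_contra hc
    push Not at hc
    rw [(eq_top_iff' _).mpr hc, index_top] at i2
    omega
  have hw' : w * u ≠ u * w := fun e => hw (mem_centralizer_singleton_iff.mpr e)
  have wu : w * u * w⁻¹ = z * u := by
    rcases mC _ ((normal_of_index_eq_two i2).conj_mem u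
      (mem_centralizer_singleton_iff.mpr rfl) w) with e | e | e | e
    · exact absurd (by simpa [mul_inv_eq_one] using e) u1
    · exact absurd (by rw [mul_inv_eq_iff_eq_mul, ← zc] at e; exact mul_left_cancel e) uz
    · exact absurd (mul_inv_eq_iff_eq_mul.mp e) hw'
    · exact e
  have fin : ∀ a : T, a * a = z → a * u ≠ u * a → u * a * u⁻¹ = a⁻¹ →
      ∃ a : T, u * a * u⁻¹ = a⁻¹ ∧ u ∉ zpowers a ∧ Nat.card T ≤ 2 * orderOf a ∧ 2 ≤ orderOf a := by
    intro a a2 au ai
    have : orderOf a = 2 ^ (1 + 1) := by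
      haveI := Fact.mk Nat.prime_two
      refine orderOf_eq_prime_pow (by rw [pow_one, sq, a2]; exact z1) ?_
      rw [show 2 ^ (1 + 1) = 2 * 2 from rfl, pow_mul, sq a, a2, sq, z2]
    refine ⟨a, ai, ?_, by omega, by omega⟩
    rintro ⟨k, rfl⟩
    exact au (Commute.self_zpow a k).eq
  have wu' : w * u = z * u * w := mul_inv_eq_iff_eq_mul.mp wu
  rcases mC _ (mul_self_mem_of_index_two i2 w) with e | e | e | e
  · have wi : w⁻¹ = w := inv_eq_of_mul_eq_one_right e
    refine fin (w * u) ?_ (fun h => hw' ?_) ?_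
    · rw [← mul_assoc]
      nth_rewrite 2 [← wi]
      rw [wu, mul_assoc, u2, mul_one]
    · rw [← mul_assoc] at h; exact mul_right_cancel h
    · rw [mul_inv_rev, ui, wi, ← mul_assoc, mul_assoc _ u, u2, mul_one]
  · refine fin w e hw' ?_
    rw [ui, mul_assoc, wu', ← mul_assoc, ← mul_assoc, zc u, mul_assoc z, u2, mul_one,
      eq_inv_iff_mul_eq_one, mul_assoc, e, z2]
  · exact absurd (by rw [← e, mul_assoc]) hw'
  · refine absurd ?_ hw'
    have : w * (z * u) = z * u * w := by rw [← e, mul_assoc]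
    rw [← mul_assoc, zc w, mul_assoc, mul_assoc] at this
    exact mul_left_cancel this

theorem bender_bound [IsSimpleGroup G] (hna : ∃ a b : G, a * b ≠ b * a) {H : Subgroup G}
    (hH : IsStronglyEmbedded H) (S : Sylow 2 G) : Nat.card G < Nat.card S ^ 3 := by
  haveI := Fact.mk Nat.prime_two
  have key : ∀ q : ℕ, (∃ k, q = 2 ^ k) → q ∣ Nat.card G → Nat.card G < q ^ 3 →
      Nat.card G < Nat.card S ^ 3 := by
    rintro _ ⟨k, rfl⟩ h1 h2
    exact h2.trans_le (Nat.pow_le_pow_left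
      (Nat.le_of_dvd Nat.card_pos (S.pow_dvd_card_of_pow_dvd_card h1)) 3)
  rcases S0222.result hna H hH with ⟨F, _, _, _, h4, ⟨e⟩⟩ | ⟨-, m, hm, h⟩ | ⟨F, _, _, q, hF, he, h4, ⟨e⟩⟩
  · obtain ⟨n, -, hn⟩ := FiniteField.card F 2
    have h1 := Classical.PSL2Basic.card_PSL_of_card (F := F) Nat.card_eq_fintype_card
    have h2 := Classical.PSL2Basic.gcd_eq_one (F := F) (CharTwo.two_eq_zero)
    rw [Nat.card_eq_fintype_card] at h2
    rw [h2, Nat.div_one, ← Nat.card_congr e.toEquiv] at h1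
    refine key _ ⟨_, hn⟩ (h1 ▸ Dvd.intro _ rfl) ?_
    rw [h1, pow_succ' _ 2]
    exact Nat.mul_lt_mul_of_pos_left (Nat.sub_lt (by positivity) one_pos) (by omega)
  · refine key ((2 ^ (2 * m + 1)) ^ 2) ⟨_, (pow_mul _ _ _).symm⟩ (h ▸ (Dvd.intro _ rfl).mul_right _) ?_
    rw [h]
    have : 2 ≤ 2 ^ (2 * m + 1) := Nat.le_self_pow (by omega) 2
    generalize 2 ^ (2 * m + 1) = q at this
    obtain ⟨r, rfl⟩ : ∃ r, q = r + 1 := ⟨q - 1, by omega⟩
    simp only [Nat.add_sub_cancel]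
    ring_nf
    omega
  · have h1 := S0280.result hF 3 (by norm_num)
    rw [← Nat.card_congr e.toEquiv] at h1
    simp only [Finset.prod_range_succ, Finset.range_zero, Finset.prod_empty] at h1
    norm_num at h1
    obtain ⟨c, hc⟩ := CharP.exists F
    obtain ⟨n, hcp, hn⟩ := FiniteField.card F c
    have c2 : c = 2 := by
      have : 2 ∣ c ^ (n : ℕ) := by rw [← hn, hF]; exact (he.two_dvd).trans (dvd_pow_self q two_ne_zero)
      exact ((Nat.prime_dvd_prime_iff_eq Nat.prime_two hcp).mp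
        (Nat.prime_two.dvd_of_dvd_pow this)).symm
    obtain ⟨k, -, hk⟩ := (Nat.dvd_prime_pow Nat.prime_two).mp
      (show q ∣ 2 ^ (n : ℕ) by rw [← c2, ← hn, hF]; exact dvd_pow_self q two_ne_zero)
    have h2 : Nat.gcd 3 (q + 1) * Nat.card G = q ^ 3 * ((q ^ 2 - 1) * (q ^ 3 + 1)) := by
      apply Nat.eq_of_mul_eq_mul_left (show 0 < q + 1 by omega)
      linear_combination h1
    refine key (q ^ 3) ⟨k * 3, by rw [hk, pow_mul]⟩ ?_ ?_
    · refine Nat.Coprime.dvd_of_dvd_mul_left ?_ (Dvd.intro _ h2.symm)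
      refine Nat.Coprime.pow_left 3 (Nat.Coprime.coprime_dvd_right (Nat.gcd_dvd_right _ _) ?_)
      simp
    · have h3 : Nat.card G ≤ Nat.gcd 3 (q + 1) * Nat.card G :=
        Nat.le_mul_of_pos_left _ (Nat.gcd_pos_of_pos_left _ (by norm_num))
      refine (h3.trans_eq h2).trans_lt ?_
      have h5 : (q ^ 2 - 1) * (q ^ 3 + 1) < q ^ 6 := by
        have a1 : q ^ 2 - 1 < q ^ 3 - 1 + 1 := by
          have : q ^ 2 ≤ q ^ 3 := Nat.pow_le_pow_right (by omega) (by omega)
          have : 0 < q ^ 2 := by positivity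
          omega
        have a2 : 0 < q ^ 3 := by positivity
        have a3 : q ^ 6 = q ^ 3 * q ^ 3 := by ring
        obtain ⟨r, hr⟩ : ∃ r, q ^ 3 = r + 1 := ⟨q ^ 3 - 1, by omega⟩
        rw [a3, hr]
        rw [hr] at a1
        nlinarith [Nat.mul_le_mul_right (r + 1 + 1) (show q ^ 2 - 1 ≤ r by omega)]
      calc _ < q ^ 3 * q ^ 6 := Nat.mul_lt_mul_of_pos_left h5 (by positivity)
        _ = _ := by ring

theorem strong {α : Ω} [Nontrivial Ω] [IsPretransitive G Ω] (he : Even (Nat.card (stabilizer G α)))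
    (hfix : ∀ v : G, v * v = 1 → v ≠ 1 → Nat.card (fixedBy Ω v) = 1) :
    IsStronglyEmbedded (stabilizer G α) := by
  refine ⟨fun e => ?_, he, fun g hg => ?_⟩
  · obtain ⟨β, hb⟩ := exists_ne α
    obtain ⟨g, hg⟩ := exists_smul_eq G α β
    exact hb (hg.symm.trans (e ▸ mem_top g : g ∈ stabilizer G α))
  · by_contra h
    haveI := Fact.mk Nat.prime_two
    obtain ⟨v, hv⟩ := exists_prime_orderOf_dvd_card' 2 (Nat.not_odd_iff_even.mp h).two_dvd
    rw [← orderOf_coe] at hv
    obtain ⟨v1, ⟨k, k1, k2⟩⟩ := v.2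
    have h1 := Nat.card_eq_one_iff_unique.mp
      (hfix _ (Inv.mul_self_of_two hv) (Inv.ne_one_of_two hv))
    have h2 : v.1 • g • α = g • α := by
      rw [← k2]
      change (g * k * g⁻¹) • g • α = _
      rw [mul_smul, inv_smul_smul, mul_smul, show k • α = α from k1]
    exact hg (congrArg Subtype.val (h1.1.elim (⟨g • α, h2⟩ : fixedBy Ω v.1) ⟨α, v1⟩))

open scoped MatrixGroups in
theorem l2_param {F : Type*} [Field F] [Fintype F] (hodd : Odd (Fintype.card F))
    (e : G ≃* PSL(2, F)) {p : ℕ} (hp : p.Prime) (hp2 : p ≠ 2) (h1 : p ∣ Nat.card G)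
    (h2 : ¬ p ^ 2 ∣ Nat.card G)
    (hc : ∀ x : G, orderOf x = p → Nat.card (centralizer ({x} : Set G)) ≤ p) :
    2 * Nat.card G = Fintype.card F * (Fintype.card F ^ 2 - 1) ∧
      (Fintype.card F = p ∨ Fintype.card F = 2 * p + 1 ∨ Fintype.card F + 1 = 2 * p) := by
  haveI := Fact.mk hp
  have two : (2 : F) ≠ 0 := Classical.PSL2Basic.odd_card_iff.mp (by rwa [Nat.card_eq_fintype_card])
  have g2 := Classical.PSL2Basic.gcd_eq_two two
  have a1 := Classical.SLBasic.card_center_mul_card_PSL (ι := Fin 2) (R := F)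
  rw [Classical.SLBasic.card_center_SL, Fintype.card_fin, g2, ← Nat.card_congr e.toEquiv] at a1
  have a2 := a1
  rw [Classical.SLBasic.card_SL_two, Nat.card_eq_fintype_card (α := F)] at a2
  have q1 : 1 < Fintype.card F := Fintype.one_lt_card
  refine ⟨a2, ?_⟩
  let f : SL(2, F) →* G := e.symm.toMonoidHom.comp (QuotientGroup.mk' _)
  have fk : Nat.card f.ker = 2 := by
    have : f.ker = center _ := by
      ext x; simp [f]
    rw [this, Classical.SLBasic.card_center_SL, Fintype.card_fin, g2]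
  obtain ⟨Q⟩ : Nonempty (Sylow p SL(2, F)) := inferInstance
  have key : Nat.card (centralizer ((Q : Subgroup SL(2, F)) : Set SL(2, F))) ≤ 2 * p := by
    obtain ⟨x, hx⟩ := exists_prime_orderOf_dvd_card' p
      (Q.dvd_card_of_dvd_card (a1 ▸ h1.mul_left 2))
    rw [← orderOf_coe] at hx
    have fx : orderOf (f x.1) = p := by
      refine ((Nat.dvd_prime hp).mp ((orderOf_map_dvd f x.1).trans hx.dvd)).resolve_left fun h => hp2 ?_
      have := orderOf_dvd_natCard f.ker (x := x.1) (orderOf_eq_one_iff.mp h)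
      rw [hx, fk] at this
      exact (Nat.prime_dvd_prime_iff_eq hp Nat.prime_two).mp this
    set C := centralizer ((Q : Subgroup SL(2, F)) : Set SL(2, F))
    have b1 : C.map f ≤ centralizer {f x.1} := by
      rintro _ ⟨y, hy, rfl⟩
      rw [mem_centralizer_singleton_iff, ← map_mul, ← map_mul, hy x.1 x.2]
    have b2 := (card_le_of_le b1).trans (hc _ fx)
    have b3 := (f.comp C.subtype).ker.card_mul_index
    rw [index_ker, MonoidHom.range_comp, range_subtype, ← MonoidHom.comap_ker] at b3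
    have b4 : Nat.card (f.ker.subgroupOf C) ≤ 2 := (Nat.card_le_card_of_injective
      (fun y : f.ker.subgroupOf C => (⟨y.1.1, y.2⟩ : f.ker))
      fun y y' h => Subtype.ext (Subtype.ext (congrArg Subtype.val h :))).trans fk.le
    rw [← b3]
    exact Nat.mul_le_mul b4 b2
  obtain ⟨r1, r2⟩ := S2430.result hodd p hp2 Q
  have po := hp.eq_two_or_odd'.resolve_left hp2
  have fin : ∀ m, 0 < m → Even m → p ∣ m → m ≤ 2 * p → m = 2 * p := by
    rintro _ m0 m1 ⟨k, rfl⟩ m2
    have k2 : k ≤ 2 := Nat.le_of_mul_le_mul_left (by omega) hp.pos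
    interval_cases k
    · omega
    · exact absurd m1 (by simpa using po)
    · omega
  have hd : p ∣ Fintype.card F * ((Fintype.card F + 1) * (Fintype.card F - 1)) := by
    rw [← Nat.sq_sub_sq, one_pow, ← a2]; exact h1.mul_left 2
  rcases (Nat.Prime.dvd_mul hp).mp hd with h | h
  · left
    obtain ⟨c, hc⟩ := CharP.exists F
    obtain ⟨n, hcp, hn⟩ := FiniteField.card F c
    obtain rfl : p = c := (Nat.prime_dvd_prime_iff_eq hp hcp).mp (hp.dvd_of_dvd_pow (hn ▸ h))
    by_contra hne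
    apply h2
    have n2 : 2 ≤ (n : ℕ) := by
      by_contra h3
      have : (n : ℕ) = 1 := by have := n.pos; omega
      exact hne (by rw [hn, this, pow_one])
    refine Nat.Coprime.dvd_of_dvd_mul_left (Nat.Coprime.pow_left 2 ((Nat.coprime_primes hp
      Nat.prime_two).mpr hp2)) ?_
    rw [a2]
    exact ((pow_dvd_pow p n2).trans hn.symm.dvd).mul_right _
  obtain ⟨u, hu⟩ := hodd
  rcases (Nat.Prime.dvd_mul hp).mp h with h | h
  · exact Or.inr (Or.inr (fin _ (by omega) ⟨u + 1, by omega⟩ h ((r2 h).1 ▸ key)))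
  · have := fin _ (by omega) ⟨u, by omega⟩ h ((r1 h).1 ▸ key)
    omega

end Cfsg.Agent.Gp.TP
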