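import Mathlib
import Cfsg.Agent.Gp.TP1
import Cfsg.Agent.Core.Product

/-! Transitive groups of degree `3 p`: the character of degree `p - 1`. -/

set_option autoImplicit false

namespace Cfsg.Agent.Gp.TP

open Cfsg Cfsg.Agent.Char Cfsg.Agent.Block Subgroup MulAction
open scoped _root_.Classical ComplexConjugate

variable {G : Type*} [Group G] [Fintype G] {p : ℕ} {P : Subgroup G}

theorem ti_contra [IsSimpleGroup G] {H : Subgroup G} (hH : IsCoatom H) {z : G} (z2 : z * z = 1)
    (z1 : z ≠ 1) (hcl : ∀ u : G, u * u = 1 → u ≠ 1 → IsConj z u)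
    (hsq : ∀ u y : G, u * u = 1 → u ≠ 1 → y * u = u * y → y * y = 1)
    (hC : centralizer {z} ≤ H) (hT : centralizer ({z} : Set G) ≠ ⊤) {q : ℕ}
    (hq : Nat.card (centralizer ({z} : Set G)) = q) (hlt : Nat.card H < (q - 1) * q) : False := by
  set C := centralizer ({z} : Set G) with hCdef
  have mC : ∀ {u x : G}, x ∈ centralizer ({u} : Set G) ↔ x * u = u * x :=
    mem_centralizer_singleton_iff
  have sq : ∀ x ∈ C, x * x = 1 := fun x hx => hsq z x z2 z1 (mC.mp hx)
  have ab : ∀ x ∈ C, ∀ y ∈ C, x * y = y * x := fun x hx y hy => by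
    have e := inv_eq_of_mul_eq_one_right (sq _ (C.mul_mem hx hy))
    rw [mul_inv_rev, inv_eq_of_mul_eq_one_right (sq x hx), inv_eq_of_mul_eq_one_right (sq y hy)] at e
    exact e.symm
  have eqC : ∀ u ∈ C, u ≠ 1 → centralizer {u} = C := fun u hu u1 =>
    (eq_of_le_of_card_ge (fun x hx => mC.mpr (ab x hx u hu))
      (card_centralizer_eq_of_isConj (hcl u (sq u hu) u1)).ge).symm
  have cj : ∀ g x : G, g * x * g⁻¹ ∈ centralizer ({g * z * g⁻¹} : Set G) ↔ x ∈ C := fun g x => by
    rw [mC, mC, conj_mul, conj_mul, mul_left_inj, mul_right_inj]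
  have ne1 : ∀ g : G, g * z * g⁻¹ ≠ 1 := fun g => by simpa [mul_inv_eq_one] using z1
  have mN : ∀ g : G, g * z * g⁻¹ ∈ C → g ∈ normalizer (C : Set G) := fun g hg x => by
    rw [SetLike.mem_coe, SetLike.mem_coe, ← cj g x, eqC _ hg (ne1 g)]
  have hle : H ≤ normalizer (C : Set G) := fun g hg => mN g (by
    by_contra hu
    have h1 : centralizer {g * z * g⁻¹} ≤ H := fun x hx => by
      have : g⁻¹ * x * g ∈ C := (cj g _).mp (by simpa [mul_assoc] using hx)
      have := H.mul_mem (H.mul_mem hg (hC this)) (H.inv_mem hg)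
      simpa [mul_assoc] using this
    have h2 := Core.card_mul_card_le hC h1
    have h3 : C ⊓ centralizer {g * z * g⁻¹} = ⊥ := by
      rw [eq_bot_iff]
      intro w hw
      by_contra w1
      exact hu (eqC w hw.1 w1 ▸ mC.mpr (mC.mp hw.2).symm)
    rw [h3, card_bot, mul_one, ← card_centralizer_eq_of_isConj (isConj_iff.mpr ⟨g, rfl⟩), hq] at h2
    have := Nat.mul_le_mul_right q (Nat.sub_le q 1)
    omega)
  have zC : z ∈ C := mC.mpr rfl
  have hN : normalizer (C : Set G) = H := by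
    by_contra e
    have := normalizer_eq_top_iff.mp (hH.2 _ (lt_of_le_of_ne hle (Ne.symm e)))
    rcases this.eq_bot_or_eq_top with h | h
    · exact z1 (mem_bot.mp (h ▸ zC))
    · exact hT h
  have ex : ∀ u : {u : C // u ≠ 1}, ∃ g : G, g * z * g⁻¹ = u := fun u =>
    isConj_iff.mp (hcl _ (sq _ u.1.2) fun e => u.2 (Subtype.ext e))
  choose g hg using ex
  have key : ∀ (u : {u : C // u ≠ 1}) (s : C), g u * s * z * (g u * s)⁻¹ = u := fun u s => by
    rw [← hg, mul_assoc (g u), mC.mp s.2]; group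
  have := Nat.card_le_card_of_injective
    (fun x : {u : C // u ≠ 1} × C => (⟨g x.1 * x.2, H.mul_mem (hN ▸ mN _ (hg x.1 ▸ x.1.1.2))
      (hC x.2.2)⟩ : H)) (by
      rintro ⟨u, s⟩ ⟨u', s'⟩ e
      have e1 : g u * s = g u' * s' := congrArg Subtype.val e
      obtain rfl : u = u' := Subtype.ext (Subtype.ext (by rw [← key u s, e1, key]))
      exact Prod.ext rfl (Subtype.ext (mul_left_cancel e1)))
  rw [Nat.card_prod, hq, show Nat.card {u : C // u ≠ 1} = q - 1 by
    rw [← hq, Nat.card_eq_fintype_card, Nat.card_eq_fintype_card, Fintype.card_subtype_compl]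
    simp] at this
  omega

namespace DE

variable {t : ℕ} {Y : Finset (IrrCharacter G)} {χ : IrrCharacter G} (h : DE p P 1 t Y χ)
  (hd : charDegree χ.1 = 2 * t) (hk : charKer χ.1 = ⊥)
include h hd hk

theorem sq_of_comm {i y : G} (i2 : i * i = 1) (i1 : i ≠ 1) (hc : y * i = i * y) : y * y = 1 := by
  obtain ⟨-, hv⟩ := (h.dih rfl).main hd hk
  have hreg : ∀ x : G, x * i = i * x → ¬ p ∣ orderOf x := fun x hx e =>
    h.not_dvd_cent i2 i1 (e.trans (orderOf_dvd_natCard _ (mem_centralizer_singleton_iff.mpr hx)))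
  have hv0 : ∀ x : G, x ≠ 1 → x * x = 1 → χ.1 x = 0 := fun x e e1 =>
    ((hv x (h.reg_invol e1) e).resolve_right fun e2 => e2.2.2 e1).1
  have hv1 : ∀ x : G, x * i = i * x → x * x ≠ 1 → χ.1 x = 1 ∧ χ.1 (x * x) = 1 := fun x hx e =>
    let e1 := (hv x (hreg x hx) fun e1 => e (by rw [e1, mul_one])).resolve_left fun e2 => e e2.2
    ⟨e1.1, e1.2.1⟩
  by_contra y2
  rcases (orderOf y).eq_two_pow_or_exists_odd_prime_and_dvd with ⟨k, hk⟩ | ⟨r, hr, hd', ho⟩
  · have : ∀ j : ℕ, y ^ 2 ^ j * y ^ 2 ^ j ≠ 1 := fun j => by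
      induction j with
      | zero => simpa using y2
      | succ j ih =>
        intro e
        have e1 : y ^ 2 ^ (j + 1) = y ^ 2 ^ j * y ^ 2 ^ j := by rw [pow_succ, pow_mul, sq]
        have := hv0 _ (e1 ▸ ih) e
        rw [e1, (hv1 _ (Commute.pow_left hc _).eq ih).2] at this
        exact one_ne_zero this
    exact this k (by rw [← hk, pow_orderOf_eq_one, mul_one])
  · set u := y ^ (orderOf y / r)
    have hu : orderOf u = r := orderOf_pow_orderOf_div (orderOf_pos y).ne' hd'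
    have hui : u * i = i * u := (Commute.pow_left hc _).eq
    have h2 : u * i * (u * i) ≠ 1 := fun e => by
      have : u ^ 2 = 1 := by
        rw [← e, sq, mul_assoc, ← mul_assoc i, ← hui, mul_assoc, i2, mul_one]
      have h3 := (Nat.prime_dvd_prime_iff_eq hr Nat.prime_two).1
        (hu ▸ orderOf_dvd_of_pow_eq_one this)
      rw [h3] at ho
      exact absurd ho (by decide)
    obtain ⟨ω, h3, h4⟩ := Galois.exists_sub_eq_one_sub_mul (irr_isGenChar χ) hr.ne_zero
      (Complex.isPrimitiveRoot_exp r hr.ne_zero) (x := u) (y := i)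
      (by rw [← hu, pow_orderOf_eq_one]) hui
    rw [(hv1 _ (by rw [hui, mul_assoc, hui]) h2).1, hv0 i i1 i2, sub_zero] at h4
    have := Galois.prime_dvd_of_eq_one_sub_mul hr (Complex.isPrimitiveRoot_exp r hr.ne_zero)
      (n := 1) h3 (by simpa using h4)
    exact hr.one_lt.ne' (by exact_mod_cast Int.eq_one_of_dvd_one (by positivity) this)

theorem not_prim [IsSimpleGroup G] {Ω : Type*} [MulAction G Ω] [Finite Ω] [IsPreprimitive G Ω]
    (hΩ : Nat.card Ω = 3 * p) {i : G} (hi : i ∈ normalizer (P : Set G)) (i2 : i * i = 1)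
    (i1 : i ≠ 1) : False := by
  haveI := Fact.mk Nat.prime_two
  have hte := h.te
  have ht := h.two_le
  obtain ⟨hG, hv⟩ := (h.dih rfl).main hd hk
  have h0 : χ.1 i = (0 : ℤ) := by
    simpa using ((hv i (h.reg_invol i2) i1).resolve_right fun e2 => e2.2.2 i2).1
  have h1 := h.order hi i2 i1 (D := 2 * t) (by rw [(h.dih rfl).apply_one hd]; simp) h0
  have hc : Nat.card (centralizer ({i} : Set G)) = 2 * t := by
    rw [hG] at h1
    push_cast [show 1 ≤ 2 * t by omega] at h1
    have h2 : (p : ℤ) * (2 * t * (2 * t - 1)) ≠ 0 :=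
      mul_ne_zero (by omega) (mul_ne_zero (by omega) (by omega))
    have h3 : (Nat.card (centralizer ({i} : Set G)) : ℤ) ^ 2 = (2 * t) ^ 2 :=
      mul_left_cancel₀ h2 (by linear_combination h1)
    have := (sq_eq_sq₀ (by positivity) (by positivity)).mp h3
    omega
  have h2 : IsPGroup 2 (centralizer ({i} : Set G)) := fun y => ⟨1, Subtype.ext (by
    simpa [sq] using h.sq_of_comm hd hk i2 i1 (mem_centralizer_singleton_iff.1 y.2))⟩
  obtain ⟨α, hα⟩ := h2.nonempty_fixed_point_of_prime_not_dvd_card Ω (by omega)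
  haveI : Nontrivial Ω := Finite.one_lt_card_iff_nontrivial.1 (by omega)
  have h3 := (stabilizer G α).card_mul_index
  rw [index_stabilizer_of_transitive, hΩ, hG] at h3
  have h4 : Nat.card (stabilizer G α) * 3 = (2 * t - 1) * (2 * t) :=
    Nat.eq_of_mul_eq_mul_right h.prime.pos (by rw [mul_assoc, h3]; ring)
  have h5 : 0 < (2 * t - 1) * (2 * t) := Nat.mul_pos (by omega) (by omega)
  refine ti_contra ((isCoatom_stabilizer_iff_preprimitive G α).mpr inferInstance) i2 i1
    (fun u u2 u1 => h.one_class hk hi i2 i1 u2 u1)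
    (fun u y u2 u1 e => h.sq_of_comm hd hk u2 u1 e) (fun x hx => hα ⟨x, hx⟩) (fun e => ?_) hc
    (by omega)
  apply h.not_dvd_cent i2 i1
  rw [e, card_top, hG, mul_assoc]
  exact Dvd.intro _ rfl

end DE

end Cfsg.Agent.Gp.TP
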