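import Mathlib
import Cfsg.Agent.Gp.TP2
import Cfsg.Agent.Gp.TP3
import Cfsg.Agent.Gp.TP4
import Cfsg.Agent.Gp.TP5
import Cfsg.Agent.Gp.TP6
import Cfsg.Agent.S0483
import Cfsg.Agent.S0254
import Cfsg.Agent.JT.Loc2
import Cfsg.Agent.Inv.ZStar

/-! Primitive simple groups of degree `3 p` with Sylow normaliser of order `2 p`. -/

set_option autoImplicit false

namespace Cfsg.Agent.Gp.TP

open Cfsg Cfsg.Agent.Char Cfsg.Agent.Block Subgroup MulAction
open scoped _root_.Classical ComplexConjugate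

variable {G : Type*} [Group G] [Fintype G] {p : ℕ} {P : Subgroup G}

namespace DE

variable {ε : ℤ} {t : ℕ} {Y : Finset (IrrCharacter G)} {χ : IrrCharacter G} (h : DE p P ε t Y χ)
include h

theorem dvd_card : p ∣ Nat.card G := h.card ▸ card_subgroup_dvd_card P

theorem known [IsSimpleGroup G] (hG : commutator G = ⊤) (S : Sylow 2 G) (h8 : Nat.card S ∣ 8)
    {z u : G} (zS : z ∈ (S : Subgroup G)) (uS : u ∈ (S : Subgroup G)) (z2 : z * z = 1) (z1 : z ≠ 1)
    (u2 : u * u = 1) (u1 : u ≠ 1) (uz : u ≠ z) (zc : ∀ s ∈ (S : Subgroup G), s * z = z * s)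
    (h4 : Nat.card ↥((S : Subgroup G) ⊓ centralizer {u}) ≤ 4) :
    (∃ q l a : ℕ, l.Prime ∧ q = l ^ a ∧ 3 < q ∧ 2 * Nat.card G = q * (q ^ 2 - 1) ∧
      (q = p ∨ q = 2 * p + 1 ∨ q + 1 = 2 * p) ∧
      (q = 9 → Nonempty (G ≃* alternatingGroup (Fin 6)))) ∨ Nat.card G = 2520 := by
  have h5 : Nat.card (centralizer ({⟨u, uS⟩} : Set (S : Subgroup G))) ≤
      Nat.card ↥((S : Subgroup G) ⊓ centralizer {u}) := by
    refine Nat.card_le_card_of_injective (fun x => ⟨x.1.1, x.1.2, ?_⟩) ?_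
    · have := mem_centralizer_singleton_iff.mp x.2
      exact mem_centralizer_singleton_iff.mpr (congrArg Subtype.val this)
    · intro x y e
      have := congrArg Subtype.val e
      exact Subtype.ext (Subtype.ext this)
  obtain ⟨n, hn, e⟩ := dihedral8 (T := (S : Subgroup G)) h8 (z := ⟨z, zS⟩) (u := ⟨u, uS⟩)
    (Subtype.ext z2) (fun e => z1 (congrArg Subtype.val e)) (Subtype.ext u2)
    (fun e => u1 (congrArg Subtype.val e)) (fun e => uz (congrArg Subtype.val e))
    (fun s => Subtype.ext (zc s s.2)) (h5.trans h4)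
  haveI : Group.IsPerfect G := ⟨hG⟩
  have hO : oddCore G = ⊥ := (Normal.eq_bot_or_eq_top inferInstance).resolve_right fun e => by
    have h1 := Inv.odd_card_oddCore (G := G)
    rw [e, card_top] at h1
    have h2 : 2 ∣ Nat.card G := Inv.two_of_mul_self z1 z2 ▸ _root_.orderOf_dvd_natCard z
    exact Nat.not_even_iff_odd.mpr h1 (even_iff_two_dvd.mpr h2)
  have f : G ≃* G ⧸ oddCore G :=
    ((QuotientGroup.quotientMulEquivOfEq hO).trans QuotientGroup.quotientBot).symm
  rcases S0483.result S n hn e with ⟨F, _, _, ho, h3, ⟨e⟩⟩ | ⟨⟨e⟩⟩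
  · left
    obtain ⟨a1, a2⟩ := l2_param ho (f.trans e) h.prime h.ne_two h.dvd_card (fun e => h.ind (by
      rw [← P.card_mul_index, h.card, sq] at e
      exact Nat.dvd_of_mul_dvd_mul_left h.prime.pos e)) fun x hx => by
        obtain ⟨y, hy⟩ := h.toOrdP.exists_le_zpowers (g := x) (by rw [hx])
        rw [card_centralizer_eq_of_isConj (isConj_iff.mpr ⟨y, rfl⟩), ← h.card]
        refine card_le_of_le fun c hc => h.le fun u hu => ?_
        obtain ⟨k, rfl⟩ := hy hu
        exact (Commute.zpow_left (mem_centralizer_singleton_iff.mp hc).symm k).eq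
    obtain ⟨l, _, a, hl, ha⟩ := FiniteField.card' F
    exact ⟨_, l, a, hl, ha, h3, a1, a2, fun e9 =>
      let ⟨e'⟩ := S0254.result e9
      ⟨(f.trans e).trans e'⟩⟩
  · right
    rw [Nat.card_congr (f.trans e).toEquiv, nat_card_alternatingGroup]
    simp [Nat.factorial]

theorem prim [IsSimpleGroup G] (hG : commutator G = ⊤) {Ω : Type*} [MulAction G Ω] [Finite Ω]
    [IsPreprimitive G Ω] (hΩ : Nat.card Ω = 3 * p) :
    p = 5 ∧ Nonempty (G ≃* alternatingGroup (Fin 6)) := by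
  haveI := Fact.mk Nat.prime_two
  have hte := h.te
  have ht := h.two_le
  have hk := charKer_eq_bot_of_simple χ.2 fun e => h.ne_one (Subtype.ext e)
  obtain ⟨i, hi, i2, i1⟩ := h.toSC.exists_invol (by rw [h.toSC.relIndex_eq_two h.hN])
  have hcl : ∀ u v : G, u * u = 1 → u ≠ 1 → v * v = 1 → v ≠ 1 → IsConj u v :=
    fun u v u2 u1 v2 v1 => (h.one_class hk hi i2 i1 u2 u1).symm.trans (h.one_class hk hi i2 i1 v2 v1)
  have hfx : ∀ v : G, v * v = 1 → v ≠ 1 → Nat.card (fixedBy Ω v) = Nat.card (fixedBy Ω i) :=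
    fun v v2 v1 => by
      obtain ⟨g, rfl⟩ := isConj_iff.mp (hcl i v i2 i1 v2 v1)
      exact card_fixedBy_conj Ω g i
  obtain ⟨S⟩ : Nonempty (Sylow 2 G) := inferInstance
  obtain ⟨α, hα⟩ := S.isPGroup'.nonempty_fixed_point_of_prime_not_dvd_card Ω (by omega)
  have hα' : ∀ s ∈ (S : Subgroup G), s • α = α := fun s hs => hα ⟨s, hs⟩
  haveI : Nontrivial Ω := Finite.one_lt_card_iff_nontrivial.1 (by omega)
  have hna : ∃ a b : G, a * b ≠ b * a := by
    by_contra hc
    push Not at hc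
    exact h.toOrdP.not_le_of_perfect hG fun x _ y _ => hc y x
  have h4 : 4 ∣ Nat.card G := by
    by_contra hc
    haveI := JT.solv_of_no4 hc
    obtain ⟨a, b, hab⟩ := hna
    exact hab (IsSimpleGroup.comm_iff_isSolvable.mpr inferInstance a b)
  obtain ⟨k, hs⟩ := S.isPGroup'.exists_card_eq
  have k2 : 2 ≤ k := (Nat.pow_dvd_pow_iff_le_right one_lt_two).mp
    (hs ▸ S.pow_dvd_card_of_pow_dvd_card (n := 2) h4)
  have s4 : 4 ≤ 2 ^ k := Nat.pow_le_pow_right two_pos k2
  have hS1 : (S : Subgroup G) ≠ ⊥ := fun e => by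
    rw [e, card_bot] at hs; omega
  have og : Odd (S : Subgroup G).index := Nat.odd_iff.mpr (by have := S.not_dvd_index; omega)
  have hn : Nat.card G = 2 ^ k * (S : Subgroup G).index := by rw [← hs, card_mul_index]
  obtain ⟨c, hc⟩ : 2 ^ k ∣ Nat.card (centralizer ({i} : Set G)) := by
    haveI := (S.1.nontrivial_iff_ne_bot).mpr hS1
    haveI := S.isPGroup'.center_nontrivial
    obtain ⟨z0, hz0⟩ := exists_ne (1 : center S)
    obtain ⟨j, z2, z1⟩ := pow_invol S.isPGroup' z0.1.2 (fun e => hz0 (Subtype.ext (Subtype.ext e)))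
    rw [← hs, card_centralizer_eq_of_isConj (hcl _ _ i2 i1 z2 z1)]
    refine card_dvd_of_le fun s hs => mem_centralizer_singleton_iff.mpr ?_
    have : Commute s z0.1.1 := congrArg Subtype.val (mem_center_iff.mp z0.2 ⟨s, hs⟩)
    exact (this.pow_right j).eq
  have oc : Odd c := og.of_dvd_nat (Nat.dvd_of_mul_dvd_mul_left (show 0 < 2 ^ k by omega)
    (hc ▸ hn ▸ card_subgroup_dvd_card _))
  have c4 : 4 ≤ Nat.card (centralizer ({i} : Set G)) :=
    s4.trans (Nat.le_of_dvd Nat.card_pos ⟨c, hc⟩)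
  have one : Nat.card (fixedBy Ω i) = 1 → 2 ^ k ∣ 3 * p - 1 ∧ Nat.card G < (2 ^ k) ^ 3 := fun h1 => by
    refine ⟨?_, hs ▸ bender_bound hna (strong (α := α) ?_ fun v v2 v1 => (hfx v v2 v1).trans h1) S⟩
    · have := free2 S.isPGroup' le_rfl ({α}ᶜ : Set Ω) (fun g hg y hy e => hy
        (smul_left_cancel g (e.trans (hα' g hg).symm))) fun v hv v2 v1 y hy e => hy
          (congrArg Subtype.val ((Nat.card_eq_one_iff_unique.mp ((hfx v v2 v1).trans h1)).1.elim
            (⟨y, e⟩ : fixedBy Ω v) ⟨α, hα' v hv⟩))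
      have h2 := Set.ncard_add_ncard_compl ({α} : Set Ω)
      rw [Set.ncard_singleton, hΩ] at h2
      rwa [hs, show ({α}ᶜ : Set Ω).ncard = 3 * p - 1 by omega] at this
    · refine even_iff_two_dvd.mpr (Dvd.dvd.trans ?_ (card_dvd_of_le (H := (S : Subgroup G)) hα'))
      exact hs ▸ dvd_pow_self 2 (by omega)
  have three := fun h3 : Nat.card (fixedBy Ω i) = 3 =>
    local3 S.isPGroup' hS1 hα' (fun v v2 v1 => (hfx v v2 v1).trans h3) hcl
  obtain ⟨r, rfl⟩ : ∃ r, p = r + 1 := ⟨2 * t, hte.symm⟩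
  have er : Even r := ⟨t, by omega⟩
  have r3 : 3 ≤ r := by omega
  have a7 : Nat.card G = 2520 → r = 4 ∨ r = 6 := fun e => by
    have := ar57 h.prime (by omega) (e ▸ h.dvd_card)
    omega
  rw [hΩ, hs, show 3 * (r + 1) - 3 = 3 * r by omega] at three
  rcases h.perm_cases hΩ hG hi i2 i1 with ⟨rfl, e5, hD, hv⟩ | ⟨rfl, hd⟩ | ⟨rfl, hD, hv, hin, h3⟩ |
    ⟨rfl, hD, hv⟩
  · exfalso
    obtain ⟨v, hv'⟩ := invol_int (irr_isChar χ) i2
    have E := h.order hi i2 i1 hD hv'
    rw [hv'] at hv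
    have hv2 : 2 * v + 3 = Nat.card (fixedBy Ω i) := by exact_mod_cast hv
    rw [hc, hn, e5] at E
    refine arB k2 og (c := c) (v := v) ?_ (by exact_mod_cast E)
    rcases h.fix_cases hΩ hi i2 i1 with e | e <;> omega
  · exact (h.not_prim hd hk hΩ hi i2 i1).elim
  · rcases hv with hv | hv
    swap
    · exact (h.not_dvd_cent i2 i1 (ar2m h.prime (by omega) h.dvd_card
        (h.order hi i2 i1 hD hv))).elim
    have E := ar2p (by omega) (h.order hi i2 i1 hD hv)
    obtain ⟨d1, d2⟩ := ar2s er oc og (hc ▸ hn ▸ E)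
    rcases h.fix_cases hΩ hi i2 i1 with e | e
    · obtain ⟨o1, o2⟩ := one e
      have d4 : 2 ^ k ∣ 4 := by
        have := Nat.dvd_sub (o1.mul_left 2) (d1.mul_left 3)
        rwa [show 2 * (3 * (r + 1) - 1) - 3 * (2 * r) = 4 by omega] at this
      rw [le_antisymm (Nat.le_of_dvd (by norm_num) d4) s4] at o2
      exact (ar2b r3 c4 o2 E).elim
    rcases three e with o | ⟨z, zS, u, uS, β, z2, z1, u2, u1, uz, zc, ab, l4, -, ll⟩
    · exact (d2 (((Nat.coprime_two_left.mpr (by decide : Odd 3)).pow_left k).dvd_of_dvd_mul_left o)).elim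
    choose cf hcf using (h.dih rfl).exists_int
    obtain ⟨l, hl, l0, l1, r', j, e1, e2⟩ := rank3 h.prime.pos hΩ χ.2
      (fun e => h.ne_one (Subtype.ext e)) cf hcf hD hin h3 ab
    obtain ⟨k, rfl⟩ : ∃ k', k = k' + 1 := ⟨k - 1, by omega⟩
    obtain ⟨b1, b2⟩ := srg_arith (p := (r + 1 : ℕ)) (s := 2 ^ k) (by exact_mod_cast (by omega : 3 < r + 1))
      e1 e2 (by exact_mod_cast l0) (by
        have : l + 1 < 3 * (r + 1) := by clear three; omega
        rw [lt_sub_iff_add_lt]
        exact_mod_cast this)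
      (by rw [← hl, pow_succ'] at ll; exact_mod_cast ll) (by
        rw [pow_succ'] at d1
        have := Nat.dvd_of_mul_dvd_mul_left two_pos d1
        push_cast
        rw [add_sub_cancel_right]
        exact_mod_cast this)
    have d8 : Nat.card S ∣ 8 := by
      rw [hs, pow_succ']
      exact Nat.mul_dvd_mul_left 2 (show 2 ^ k ∣ 4 by exact_mod_cast b1)
    rcases h.known hG S d8 zS uS z2 z1 u2 u1 uz zc l4 with ⟨q, l', a, hl', hq, q3, q1, q2, q9⟩ | e7
    · have q4 : q + 1 = 2 * (r + 1) := by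
        by_contra hne
        exact ar2q r3 (ar2d E) q1 (by omega)
      have : q = 9 := by
        have q5 : (q : ℤ) = 2 * (r + 1 : ℕ) - 1 := by rw [eq_sub_iff_add_eq]; exact_mod_cast q4
        rcases b2 with b | b
        · exact ar9 hl' hq q3 (q5.trans b)
        · exact ar9 hl' hq q3 (q5.trans b)
      exact ⟨by omega, q9 this⟩
    · exfalso
      have := ar2d E
      rw [e7] at E this
      rcases a7 e7 with rfl | rfl
      · generalize Nat.card (centralizer ({i} : Set G)) = x at E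
        have h1 : x ^ 2 = 448 := by omega
        rcases le_or_gt x 21 with h2 | h2 <;> nlinarith
      · omega
  · exfalso
    have E := h.order hi i2 i1 hD hv
    rcases h.fix_cases hΩ hi i2 i1 with e | e
    · obtain ⟨o1, o2⟩ := one e
      rw [e] at E
      refine ar3a r3 (fun e3 => ?_) ?_ ⟨c, hc⟩
        ((Nat.coprime_two_left.mpr (by decide : Odd 3)).pow_left k)
        ((Nat.le_of_dvd (by omega) o1).trans (by omega)) o2 Nat.card_pos E
      · have := (Nat.prime_dvd_prime_iff_eq Nat.prime_three h.prime).mp e3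
        omega
      · have := (stabilizer G α).index_dvd_card
        rw [index_stabilizer_of_transitive, hΩ] at this
        exact (Dvd.intro _ rfl).trans this
    rw [e] at E
    have E := ar3p E
    obtain ⟨d1, d2⟩ := ar3s (by omega) er k2 oc og (hc ▸ hn ▸ E)
    rcases three e with o | ⟨z, zS, u, uS, β, z2, z1, u2, u1, uz, zc, ab, l4, o, -⟩
    · exact d1 o
    rcases h.known hG S (hs ▸ d2 o) zS uS z2 z1 u2 u1 uz zc l4 with ⟨q, -, -, -, -, -, q1, q2, -⟩ | e7
    · exact ar3q r3 er (ar3d E) q1 q2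
    · have := ar3d E
      rw [e7] at this
      rcases a7 e7 with rfl | rfl <;> omega

end DE

end Cfsg.Agent.Gp.TP
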