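import Mathlib
import Cfsg.Agent.H23.RankLow
import Cfsg.Agent.Inv.Tri3
import Cfsg.Agent.Perm.Derang
import Cfsg.Agent.S0093
import Cfsg.Agent.S0121
import Cfsg.Agent.S0144

/-! Automorphism groups of 2-groups with at most three involutions, all commuting. -/

set_option autoImplicit false

namespace Cfsg.Agent.Gp.Three

open Subgroup

theorem solv_two {G : Type*} [Group G] [Finite G] {p q : ℕ} (hp : p.Prime) (hq : q.Prime)
    (h : ∀ r : ℕ, r.Prime → r ∣ Nat.card G → r = p ∨ r = q) : Group.IsSolvable G := by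
  obtain ⟨a, m, hm, e⟩ := Nat.exists_eq_pow_mul_and_not_dvd (Nat.card_pos (α := G)).ne' p hp.ne_one
  have hm0 : m ≠ 0 := fun e => hm (e ▸ dvd_zero p)
  refine S0144.result p q a m.primeFactorsList.length hp hq (e.trans (congrArg _ ?_))
  refine Nat.eq_prime_pow_of_unique_prime_dvd hm0 fun {r} hr hd => ?_
  exact (h r hr (e ▸ hd.mul_left _)).resolve_left fun e' => hm (e' ▸ hd)

theorem red {X : Type*} [Group X] [Finite X] (H : Subgroup X) [H.Characteristic]
    (h : ∀ (α : MulAut X) (m : ℕ), Odd m → α ^ m = 1 → (∀ x ∈ H, α x = x) → α = 1)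
    (hs : Group.IsSolvable (MulAut H)) : Group.IsSolvable (MulAut X) := by
  haveI : Fact (Nat.Prime 2) := ⟨Nat.prime_two⟩
  have hk : IsPGroup 2 (MulAut.characteristic H).ker := fun α => by
    obtain ⟨k, m, hm, e⟩ := Nat.exists_eq_two_pow_mul_odd (orderOf_pos (α : MulAut X)).ne'
    refine ⟨k, Subtype.ext (h _ m hm (by
      rw [SubmonoidClass.coe_pow, ← pow_mul, ← e, pow_orderOf_eq_one]) fun x hx => ?_)⟩
    exact congrArg Subtype.val (DFunLike.congr_fun (MonoidHom.mem_ker.mp (α ^ 2 ^ k).2) ⟨x, hx⟩)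
  haveI := hk.isNilpotent
  exact Group.isSolvable_of_ker_le_range (MulAut.characteristic H).ker.subtype (MulAut.characteristic H)
    (by rw [range_subtype])

theorem card_mod {D : Type*} [Group D] [Finite D] {α : MulAut D} {r : ℕ} (hr : r.Prime) (hα : α ^ r = 1)
    (S : Set D) (hS : ∀ x ∈ S, α x ∈ S) : S.ncard ≡ (S ∩ {x | α x = x}).ncard [MOD r] := by
  classical
  haveI : Fact r.Prime := ⟨hr⟩
  haveI := Fintype.ofFinite S
  let f : Function.End S := fun x => ⟨α x, hS x x.2⟩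
  have hf : ∀ (n : ℕ) (x : S), ((f ^ n) x : D) = (α ^ n) x := fun n => by
    induction n with
    | zero => exact fun _ => rfl
    | succ n ih => exact fun x => by rw [pow_succ, pow_succ]; exact ih (f x)
  have := Equiv.Perm.card_fixedPoints_modEq (f := f) (p := r) (n := 1) (funext fun x => Subtype.ext (by
    rw [hf, pow_one, hα]; rfl))
  rw [← Nat.card_eq_fintype_card, ← Nat.card_eq_fintype_card] at this
  rw [← Nat.card_coe_set_eq, ← Nat.card_coe_set_eq]
  refine this.trans (Eq.le ?_ |>.antisymm (Eq.ge ?_)) <;>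
  · congr 1
    exact Nat.card_congr ⟨fun x => ⟨x.1.1, x.1.2, congrArg Subtype.val x.2⟩,
      fun x => ⟨⟨x.1, x.2.1⟩, Subtype.ext x.2.2⟩, fun _ => rfl, fun _ => rfl⟩

structure T (D : Type*) [Group D] : Prop where
  two : IsPGroup 2 D
  cen : ∀ x : D, x * x = 1 → x ∈ center D
  four : ∀ x : D, x * x * (x * x) = 1
  le : {x : D | x * x = 1}.ncard ≤ 4

namespace T

variable {D : Type*} [Group D] [Finite D] (h : T D)

def V : Subgroup D where
  carrier := {x | x * x = 1}
  one_mem' := mul_one 1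
  mul_mem' {a b} ha hb := by
    have := mem_center_iff.mp (h.cen a ha) b
    show a * b * (a * b) = 1
    rw [mul_assoc, ← mul_assoc b, this, mul_assoc, hb, mul_one, ha]
  inv_mem' {a} ha := by
    show a⁻¹ * a⁻¹ = 1
    rw [← mul_inv_rev, ha, inv_one]

omit [Finite D] in
theorem V_le : h.V ≤ center D := h.cen

omit [Finite D] in
theorem card_V : Nat.card h.V ≤ 4 := h.le

theorem index_le : h.V.index ≤ Nat.card h.V ^ 2 := by
  by_contra hc
  obtain ⟨x, hx, e⟩ := H23.RankLow.exists_invol (Z := h.V) le_rfl h.V_le (fun e he => by rw [pow_two]; exact he)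
    (fun x => by rw [pow_two]; exact h.four x) (not_le.mp hc)
  exact hx (by rwa [pow_two] at e)

theorem exists_sq (h4 : Nat.card h.V = 4) {U : Subgroup D} (hU : h.V ≤ U) (hc : 16 < Nat.card U) {c : D}
    (c1 : c ≠ 1) (c2 : c * c = 1) : ∃ x ∈ U, x * x = c := by
  haveI : Fact (Nat.Prime 2) := ⟨Nat.prime_two⟩
  let c' : U := ⟨c, hU c2⟩
  have hcen : ∀ v : U, (v : D) ∈ h.V → v ∈ center U := fun v hv =>
    mem_center_iff.mpr fun g => Subtype.ext (mem_center_iff.mp (h.V_le hv) g)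
  haveI : (zpowers c').Normal := PGrp.normal_of_le_center (zpowers_le.mpr (hcen c' c2))
  have ho : orderOf c' = 2 := orderOf_eq_prime (Subtype.ext (by rw [pow_two]; exact c2))
    fun e => c1 (congrArg Subtype.val e)
  let E := (h.V.subgroupOf U).map (QuotientGroup.mk' (zpowers c'))
  have hi : E.index = (h.V.subgroupOf U).index := index_map_eq _ (QuotientGroup.mk'_surjective _) (by
    rw [QuotientGroup.ker_mk', zpowers_le]; exact c2)
  have h1 := E.card_mul_index
  have h2 := card_eq_card_quotient_mul_card_subgroup (zpowers c')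
  have h3 := (h.V.subgroupOf U).card_mul_index
  rw [Nat.card_congr (subgroupOfEquivOfLe hU).toEquiv, h4] at h3
  rw [Nat.card_zpowers, ho] at h2
  have h5 : Nat.card E = 2 := by
    refine Nat.eq_of_mul_eq_mul_right (show 0 < E.index by omega) ?_
    omega
  obtain ⟨x, hx, e⟩ := H23.RankLow.exists_invol (Z := E) (E := E) le_rfl (by
      rintro _ ⟨v, hv, rfl⟩
      refine mem_center_iff.mpr fun g => ?_
      obtain ⟨g, rfl⟩ := QuotientGroup.mk'_surjective _ g
      rw [← map_mul, ← map_mul, mem_center_iff.mp (hcen v hv) g]) (by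
      rintro _ ⟨v, hv, rfl⟩
      rw [← map_pow, show v ^ 2 = 1 from Subtype.ext (by rw [pow_two]; exact hv), map_one]) (fun x => by
      obtain ⟨x, rfl⟩ := QuotientGroup.mk'_surjective _ x
      exact ⟨x ^ 2, by rw [pow_two]; exact h.four x, map_pow _ _ _⟩) (by rw [h5]; omega)
  obtain ⟨x, rfl⟩ := QuotientGroup.mk'_surjective _ x
  rw [← map_pow, QuotientGroup.mk'_apply, QuotientGroup.eq_one_iff] at e
  obtain ⟨n, hn⟩ := mem_powers_iff_mem_zpowers.mpr e
  simp only at hn
  rw [← pow_mod_orderOf, ho] at hn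
  rcases Nat.mod_two_eq_zero_or_one n with e | e
  · rw [e, pow_zero, pow_two] at hn
    exact absurd ⟨x, congrArg Subtype.val hn.symm, rfl⟩ hx
  · rw [e, pow_one, pow_two] at hn
    exact ⟨x, x.2, congrArg Subtype.val hn.symm⟩

theorem four_dvd (h4 : Nat.card h.V = 4) {U : Subgroup D} (hU : h.V ≤ U) (c : D) :
    4 ∣ ((U : Set D) ∩ {x | x * x = c}).ncard := by
  refine Perm.dvd_ncard_of_forall_orbit h.V _ (Set.toFinite _) (fun g hg x hx => ?_) fun x _ => ?_
  · have := mem_center_iff.mp (h.V_le hg) x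
    refine ⟨mul_mem (hU hg) hx.1, ?_⟩
    show g * x * (g * x) = c
    rw [mul_assoc, ← mul_assoc x, this, mul_assoc, ← mul_assoc, show g * g = 1 from hg, one_mul, hx.2]
  · rw [← MulAction.index_stabilizer, show MulAction.stabilizer h.V x = ⊥ from eq_bot_iff.mpr fun g hg =>
      Subtype.ext (mul_eq_right.mp hg), index_bot, h4]

theorem exists_abc (h4 : Nat.card h.V = 4) : ∃ a b c : D, a ≠ 1 ∧ b ≠ 1 ∧ c ≠ 1 ∧ a * a = 1 ∧ b * b = 1 ∧
    c * c = 1 ∧ ∀ U : Subgroup D, h.V ≤ U → Nat.card U = 4 + ((U : Set D) ∩ {x | x * x = a}).ncard +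
      ((U : Set D) ∩ {x | x * x = b}).ncard + ((U : Set D) ∩ {x | x * x = c}).ncard := by
  have : ((h.V : Set D) \ {1}).ncard = 3 := by
    rw [Set.ncard_diff_singleton_of_mem (SetLike.mem_coe.mpr h.V.one_mem), ← Nat.card_coe_set_eq]
    exact congrArg (· - 1) h4
  obtain ⟨a, b, c, hab, hac, hbc, e⟩ := Set.ncard_eq_three.mp this
  have ha : a ∈ (h.V : Set D) \ {1} := by rw [e]; simp
  have hb : b ∈ (h.V : Set D) \ {1} := by rw [e]; simp
  have hc : c ∈ (h.V : Set D) \ {1} := by rw [e]; simp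
  refine ⟨a, b, c, ha.2, hb.2, hc.2, ha.1, hb.1, hc.1, fun U hU => ?_⟩
  rw [← h4, ← SetLike.coe_sort_coe h.V, Nat.card_coe_set_eq, ← Set.ncard_union_eq, ← Set.ncard_union_eq,
    ← Set.ncard_union_eq, ← SetLike.coe_sort_coe U, Nat.card_coe_set_eq]
  · congr 1
    ext x
    refine ⟨fun hx => ?_, ?_⟩
    · by_cases h1 : x * x = 1
      · exact Or.inl (Or.inl (Or.inl h1))
      have : x * x ∈ ({a, b, c} : Set D) := e ▸ ⟨h.four x, h1⟩
      rcases this with h2 | h2 | h2
      exacts [Or.inl (Or.inl (Or.inr ⟨hx, h2⟩)), Or.inl (Or.inr ⟨hx, h2⟩), Or.inr ⟨hx, h2⟩]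
    · rintro (((h1 | h1) | h1) | h1)
      exacts [hU h1, h1.1, h1.1, h1.1]
  · rw [Set.disjoint_left]
    rintro x ((h1 | h1) | h1) h2
    exacts [hc.2 (h2.2.symm.trans h1), hac (h1.2.symm.trans h2.2), hbc (h1.2.symm.trans h2.2)]
  · rw [Set.disjoint_left]
    rintro x (h1 | h1) h2
    exacts [hb.2 (h2.2.symm.trans h1), hab (h1.2.symm.trans h2.2)]
  · rw [Set.disjoint_left]
    exact fun x h1 h2 => ha.2 (h2.2.symm.trans h1)

/-- fixed points -/
def fx (α : MulAut D) : Subgroup D := α.toMonoidHom.eqLocus (MonoidHom.id D)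

omit [Finite D] in
theorem mem_fx {α : MulAut D} {x : D} : x ∈ fx α ↔ α x = x := Iff.rfl

/-- numerical data of a nontrivial automorphism of odd prime order fixing the involutions -/
theorem num {α : MulAut D} {r : ℕ} (hr : r.Prime) (hα : α ^ r = 1) (h1 : α ≠ 1) (hV : h.V ≤ fx α) :
    ∃ i j k : ℕ, Nat.card h.V = 2 ^ i ∧ Nat.card (fx α) = 2 ^ j ∧ Nat.card D = 2 ^ k ∧ i ≤ 2 ∧ i ≤ j ∧
      j < k ∧ k ≤ 3 * i ∧ 2 ^ k ≡ 2 ^ j [MOD r] := by
  haveI : Fact (Nat.Prime 2) := ⟨Nat.prime_two⟩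
  obtain ⟨i, hi⟩ := (h.two.to_subgroup h.V).exists_card_eq
  obtain ⟨j, hj⟩ := (h.two.to_subgroup (fx α)).exists_card_eq
  obtain ⟨k, hk⟩ := h.two.exists_card_eq
  refine ⟨i, j, k, hi, hj, hk, ?_, ?_, ?_, ?_, ?_⟩
  · exact (Nat.pow_le_pow_iff_right one_lt_two).mp (hi ▸ h.card_V)
  · exact (Nat.pow_le_pow_iff_right one_lt_two).mp (hi ▸ hj ▸ card_le_of_le hV)
  · refine (Nat.pow_lt_pow_iff_right one_lt_two).mp (hk ▸ hj ▸ ?_)
    refine lt_of_le_of_ne (card_le_card_group _) fun e => h1 (MulEquiv.ext fun x => ?_)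
    exact (eq_top_of_card_eq _ e).ge (mem_top x)
  · refine (Nat.pow_le_pow_iff_right one_lt_two).mp ?_
    rw [← hk, ← h.V.card_mul_index, mul_comm 3, pow_mul, ← hi, pow_succ']
    exact Nat.mul_le_mul_left _ h.index_le
  · have := card_mod hr hα Set.univ fun _ _ => trivial
    rwa [Set.univ_inter, Set.ncard_univ, hk, show {x | α x = x} = (fx α : Set D) from rfl,
      ← Nat.card_coe_set_eq, SetLike.coe_sort_coe, hj] at this

theorem cls (h4 : Nat.card h.V = 4) {α : MulAut D} {r : ℕ} (hr : r.Prime) (ho : Nat.Coprime 4 r)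
    (hα : α ^ r = 1) (hV : h.V ≤ fx α) {U : Subgroup D} (hU : h.V ≤ U) (hc : 16 < Nat.card U)
    (hi : ∀ x ∈ U, α x ∈ U) (hf : ∀ x ∈ U, α x = x → x * x = 1) {c : D} (c1 : c ≠ 1) (c2 : c * c = 1) :
    4 * r ≤ ((U : Set D) ∩ {x | x * x = c}).ncard := by
  refine Nat.le_of_dvd ((Set.ncard_pos (Set.toFinite _)).mpr (h.exists_sq h4 hU hc c1 c2))
    (ho.mul_dvd_of_dvd_of_dvd (h.four_dvd h4 hU c) ?_)
  have := card_mod hr hα ((U : Set D) ∩ {x | x * x = c}) fun x hx => ⟨hi x hx.1, by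
    show α x * α x = c
    rw [← map_mul, hx.2]; exact hV c2⟩
  rw [Set.eq_empty_of_forall_notMem (s := (U : Set D) ∩ {x | x * x = c} ∩ {x | α x = x})
    fun x hx => c1 (hx.1.2.symm.trans (hf x hx.1.1 hx.2)), Set.ncard_empty] at this
  exact (Nat.modEq_zero_iff_dvd).mp this

theorem not_seven {α : MulAut D} (hα : α ^ 7 = 1) (hV : h.V ≤ fx α) : α = 1 := by
  by_contra h1
  obtain ⟨i, j, k, hi, hj, hk, a1, a2, a3, a4, a5⟩ := h.num (by norm_num) hα h1 hV
  have : i = 2 ∧ k = j + 3 := by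
    have : k ≤ 6 := by omega
    interval_cases k <;> interval_cases j <;> simp [Nat.ModEq] at a5 <;> omega
  obtain ⟨rfl, rfl⟩ := this
  haveI : h.V.Normal := PGrp.normal_of_le_center h.V_le
  have hcm : ∀ a b : D ⧸ h.V, a * b = b * a := fun a b => by
    have : ∀ a : D ⧸ h.V, a * a = 1 := fun a => by
      obtain ⟨a, rfl⟩ := QuotientGroup.mk_surjective a
      exact (QuotientGroup.eq_one_iff _).mpr (h.four a)
    rw [eq_inv_of_mul_eq_one_left (this (a * b)), mul_inv_rev, ← eq_inv_of_mul_eq_one_left (this a),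
      ← eq_inv_of_mul_eq_one_left (this b)]
  let f : D →* D ⧸ h.V := MonoidHom.mk' (fun y => (y⁻¹ * α y : D)) fun a b => by
    simp only [mul_inv_rev, map_mul, QuotientGroup.mk_mul]
    rw [hcm ((b⁻¹ : D) : D ⧸ h.V), mul_assoc, mul_assoc, ← mul_assoc ((b⁻¹ : D) : D ⧸ h.V),
      hcm ((b⁻¹ : D) : D ⧸ h.V), mul_assoc]
  have hfx : ∀ y : D, α (y⁻¹ * α y) = y⁻¹ * α y → α y = y := fun y =>
    Inv.Tri.odd_fix h.two (by decide : Odd 7) hα
  have hker : f.ker = fx α := by
    ext y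
    refine ⟨fun hy => hfx y (hV ((QuotientGroup.eq_one_iff _).mp hy)), fun hy => ?_⟩
    show ((y⁻¹ * α y : D) : D ⧸ h.V) = 1
    rw [mem_fx.mp hy, inv_mul_cancel, QuotientGroup.mk_one]
  let U := f.range.comap (QuotientGroup.mk' h.V)
  have hU : h.V ≤ U := fun v hv => by
    show ((v : D) : D ⧸ h.V) ∈ f.range
    rw [(QuotientGroup.eq_one_iff _).mpr hv]; exact one_mem _
  have mU : ∀ x ∈ U, ∃ y, ∃ v ∈ h.V, x = y⁻¹ * α y * v := by
    rintro x ⟨y, hy⟩
    exact ⟨y, _, QuotientGroup.eq.mp hy, by group⟩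
  have hc : Nat.card U = 32 := by
    have e1 := U.card_mul_index
    have e2 := f.range.card_mul_index
    have e3 := card_eq_card_quotient_mul_card_subgroup h.V
    have e4 := f.ker.card_mul_index
    rw [index_ker, hker, hj, hk, pow_add] at e4
    have e5 := Nat.eq_of_mul_eq_mul_left (by positivity) e4
    rw [index_comap_of_surjective _ (QuotientGroup.mk'_surjective _)] at e1
    have := Nat.pos_of_ne_zero (index_ne_zero_of_finite (H := f.range))
    refine Nat.eq_of_mul_eq_mul_right this ?_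
    rw [e1, e3, ← e2, e5, hi]; ring
  have hcl := fun c => h.cls hi (by norm_num) (by norm_num) hα hV hU (by omega) (fun x hx => by
    obtain ⟨y, v, hv, rfl⟩ := mU x hx
    rw [map_mul, map_mul, map_inv]
    exact mul_mem ⟨α y, rfl⟩ (hU (by rw [mem_fx.mp (hV hv)]; exact hv))) (fun x hx e => by
    obtain ⟨y, v, hv, rfl⟩ := mU x hx
    rw [map_mul, mem_fx.mp (hV hv), mul_left_inj] at e
    rw [hfx y e, inv_mul_cancel, one_mul]; exact hv) (c := c)
  obtain ⟨a, b, c, a1, b1, c1, a2, b2, c2, e⟩ := h.exists_abc hi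
  have := e U hU
  have := hcl a a1 a2
  have := hcl b b1 b2
  omega

theorem not_fifteen {α β : MulAut D} (hα : α ^ 5 = 1) (hV : h.V ≤ fx α) (hβ : β ^ 3 = 1)
    (hV' : h.V ≤ fx β) : α = 1 ∨ β = 1 := by
  by_contra h1
  rw [not_or] at h1
  obtain ⟨i, j, k, hi, hj, hk, a1, a2, a3, a4, a5⟩ := h.num (by norm_num) hα h1.1 hV
  have : i = 2 ∧ j = 2 ∧ k = 6 := by
    have : k ≤ 6 := by omega
    interval_cases k <;> interval_cases j <;> simp [Nat.ModEq] at a5 <;> omega
  obtain ⟨rfl, rfl, rfl⟩ := this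
  obtain ⟨i, j, k, -, hj', hk', -, -, a3, -, a5⟩ := h.num (by norm_num) hβ h1.2 hV'
  obtain rfl : k = 6 := Nat.pow_right_injective le_rfl (hk'.symm.trans hk)
  have hj4 : Nat.card (fx β) ≤ 16 := by
    rw [hj']
    interval_cases j <;> simp [Nat.ModEq] at a5 ⊢
  have hT : Nat.card (⊤ : Subgroup D) = 64 := by rw [card_top, hk]; norm_num
  have hcl := fun c => h.cls hi (by norm_num) (by norm_num) hα hV (U := ⊤) le_top (by omega)
    (fun _ _ => mem_top _) (fun x _ e => (eq_of_le_of_card_ge hV (by omega)).ge e) (c := c)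
  obtain ⟨a, b, c, a1, b1, c1, a2, b2, c2, e⟩ := h.exists_abc hi
  have key : ∀ c : D, c * c = 1 → (((⊤ : Subgroup D) : Set D) ∩ {x | x * x = c}).ncard = 20 →
      8 ≤ ((fx β : Set D) ∩ {x | x * x = c}).ncard := fun c c2 e => by
    have := card_mod Nat.prime_three hβ {x | x * x = c} fun x hx => by
      show β x * β x = c
      rw [← map_mul, hx]; exact hV' c2
    rw [coe_top, Set.univ_inter] at e
    rw [e, Set.inter_comm, Nat.ModEq] at this
    have h4 := h.four_dvd hi hV' c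
    change 20 % 3 = ((fx β : Set D) ∩ {x | x * x = c}).ncard % 3 at this
    omega
  have e1 := e ⊤ le_top
  have e2 := e _ hV'
  have := hcl a a1 a2
  have := hcl b b1 b2
  have := hcl c c1 c2
  have := key a a2 (by omega)
  have := key b b2 (by omega)
  omega

include h in
theorem solv : Group.IsSolvable (MulAut D) := by
  haveI : h.V.Characteristic := characteristic_iff_le_comap.mpr fun φ x hx => by
    show φ x * φ x = 1
    rw [← map_mul, show x * x = 1 from hx, map_one]
  let φ := MulAut.characteristic h.V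
  haveI : Group.IsSolvable (MulAut h.V) := by
    refine solv_two Nat.prime_two Nat.prime_three fun r hr hd => ?_
    have h1 := card_dvd_of_injective (MulAut.toPerm h.V) fun a b e => MulEquiv.toEquiv_injective e
    rw [Nat.card_perm] at h1
    have := (hr.dvd_factorial.mp (hd.trans h1)).trans h.card_V
    have := hr.two_le
    interval_cases r <;> simp_all (config := { decide := true })
  have hel : ∀ r : ℕ, r.Prime → r ∣ Nat.card φ.ker → ∃ α : MulAut D, α ^ r = 1 ∧ α ≠ 1 ∧ h.V ≤ fx α :=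
    fun r hr hd => by
      haveI : Fact r.Prime := ⟨hr⟩
      obtain ⟨α, hα⟩ := exists_prime_orderOf_dvd_card' r hd
      refine ⟨α, by rw [← hα, ← Subgroup.orderOf_coe, pow_orderOf_eq_one], fun e => hr.one_lt.ne' ?_,
        fun x hx => mem_fx.mpr
          (congrArg Subtype.val (DFunLike.congr_fun (MonoidHom.mem_ker.mp α.2) (⟨x, hx⟩ : h.V)) :)⟩
      rw [← hα, ← Subgroup.orderOf_coe, e, orderOf_one]
  have hpr : ∀ r : ℕ, r.Prime → r ∣ Nat.card φ.ker → r = 2 ∨ r = 3 ∨ r = 5 := fun r hr hd => by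
    obtain ⟨α, hα, h1, hV⟩ := hel r hr hd
    have h7 : r ≠ 7 := fun e => h1 (h.not_seven (e ▸ hα) hV)
    obtain ⟨i, j, k, -, -, -, a1, a2, a3, a4, a5⟩ := h.num hr hα h1 hV
    by_cases h2 : r = 2
    · exact Or.inl h2
    obtain ⟨d, rfl⟩ := Nat.exists_eq_add_of_lt a3
    have h3 : r ∣ 2 ^ (d + 1) - 1 := by
      have := (Nat.modEq_iff_dvd' (Nat.pow_le_pow_right two_pos a3.le)).mp a5.symm
      rw [add_assoc, pow_add, ← Nat.mul_sub_one] at this
      exact Nat.Coprime.dvd_of_dvd_mul_left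
        (((Nat.coprime_primes hr Nat.prime_two).mpr h2).pow_right _) this
    have : d ≤ 3 := by omega
    have := hr.two_le
    interval_cases d <;> have := Nat.le_of_dvd (by norm_num) h3 <;> norm_num at this h3 <;>
      interval_cases r <;> simp_all (config := { decide := true })
  haveI : Group.IsSolvable φ.ker := by
    by_cases h5 : 5 ∣ Nat.card φ.ker
    · refine solv_two Nat.prime_two Nat.prime_five fun r hr hd => ?_
      rcases hpr r hr hd with e | rfl | e
      · exact Or.inl e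
      · obtain ⟨α, hα, a1, hV⟩ := hel 5 Nat.prime_five h5
        obtain ⟨β, hβ, b1, hV'⟩ := hel 3 hr hd
        exact ((h.not_fifteen hα hV hβ hV').elim a1 b1).elim
      · exact Or.inr e
    · refine solv_two Nat.prime_two Nat.prime_three fun r hr hd => ?_
      rcases hpr r hr hd with e | e | rfl
      exacts [Or.inl e, Or.inr e, absurd hd h5]
  exact Group.isSolvable_of_ker_le_range φ.ker.subtype φ (by rw [range_subtype])

end T

theorem solv_of_central {Y : Type*} [Group Y] [Finite Y] (h2 : IsPGroup 2 Y)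
    (hc : ∀ x : Y, x * x = 1 → x ∈ center Y) (hle : {x : Y | x * x = 1}.ncard ≤ 4) :
    Group.IsSolvable (MulAut Y) := by
  haveI : Fact (Nat.Prime 2) := ⟨Nat.prime_two⟩
  obtain ⟨C, hC, h1, h3, h4⟩ := S0093.result h2
  have hsq : ∀ x ∈ C, ∀ y ∈ C, Commute (x * x) y := fun x hx y hy => by
    refine (h1 ⟨⟨x, hx⟩ ^ 2, PGrp.pow_mem_frattini (h2.to_subgroup C) _, by rw [pow_two]; rfl⟩ y hy).symm
  have hcm : ∀ x ∈ C, ∀ y ∈ C, ∀ z ∈ C, Commute (Inv.cm x y) z := fun x hx y _ z hz => by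
    have := (h3 (commutator_mem_commutator (inv_mem hx) (mem_top y⁻¹))).2 z hz
    rw [commutatorElement_def, inv_inv, inv_inv] at this
    exact this.symm
  have hcm2 : ∀ x ∈ C, ∀ y ∈ C, Inv.cm x y * Inv.cm x y = 1 := fun x hx y hy => by
    rw [← Inv.cm_mul_left (hcm x hx y hy x hx), Inv.cm_eq_one]
    exact hsq x hx y hy
  have h4m : ∀ x ∈ C, ∀ y ∈ C, x * y * (x * y) * (x * y * (x * y)) =
      x * x * (x * x) * (y * y * (y * y)) := fun x hx y hy => by
    rw [Inv.sq_mul_cm (hcm y hy x hx y hy), mul_assoc _ (Inv.cm y x), ← mul_assoc (Inv.cm y x),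
      (hcm y hy x hx _ (mul_mem (mul_mem hx hx) (mul_mem hy hy))).eq, mul_assoc _ (Inv.cm y x),
      hcm2 y hy x hx, mul_one, mul_assoc, ← mul_assoc (y * y), ← (hsq x hx _ (mul_mem hy hy)).eq]
    group
  let D : Subgroup Y :=
    { carrier := {x | x ∈ C ∧ x * x * (x * x) = 1}
      one_mem' := ⟨one_mem _, by simp⟩
      mul_mem' := fun {a b} ha hb => ⟨mul_mem ha.1 hb.1, by rw [h4m a ha.1 b hb.1, ha.2, hb.2, mul_one]⟩
      inv_mem' := fun {a} ha => ⟨inv_mem ha.1, by simp only [← mul_inv_rev]; rw [ha.2, inv_one]⟩ }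
  have hCi : ∀ φ : MulAut Y, ∀ x ∈ C, φ x ∈ C := fun φ x hx => characteristic_iff_le_comap.mp hC φ hx
  haveI : D.Characteristic := characteristic_iff_le_comap.mpr fun φ x hx => ⟨hCi φ x hx.1, by
    show φ x * φ x * (φ x * φ x) = 1
    simp only [← map_mul]; rw [hx.2, map_one]⟩
  refine red D (fun α m hm hα hD => S0121.result h2 C hC h1 h3 h4 α
    (Nat.coprime_two_right.mpr (hm.of_dvd_nat (orderOf_dvd_of_pow_eq_one hα))) ?_) (T.solv
      ⟨h2.to_subgroup D, fun x hx => mem_center_iff.mpr fun g => Subtype.ext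
        (mem_center_iff.mp (hc x (congrArg Subtype.val hx)) g), fun x => Subtype.ext x.2.2, ?_⟩)
  · have key : ∀ (k : ℕ), ∀ x ∈ C, x ^ 2 ^ k = 1 → α x = x := fun k => by
      induction k with
      | zero => exact fun x _ e => by rw [pow_zero, pow_one] at e; rw [e, map_one]
      | succ k ih =>
        intro x hx e
        have h5 := ih (x * x) (mul_mem hx hx) (by rw [← pow_two, ← pow_mul, ← pow_succ', e])
        refine Inv.Tri.odd_fix h2 hm hα (hD _ ⟨mul_mem (inv_mem hx) (hCi α x hx), ?_⟩)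
        rw [h4m _ (inv_mem hx) _ (hCi α x hx), ← map_mul, h5]
        group
    intro x hx
    obtain ⟨k, hk⟩ := h2 x
    exact key k x hx hk
  · refine le_trans (Set.ncard_le_ncard_of_injOn (fun x : D => (x : Y)) (fun x hx => ?_)
      (fun _ _ _ _ e => Subtype.ext e) (Set.toFinite _)) hle
    exact congrArg Subtype.val hx

theorem solv_of_comm {X : Type*} [Group X] [Finite X] (h2 : IsPGroup 2 X)
    (hc : ∀ x y : X, x * x = 1 → y * y = 1 → x * y = y * x) (hle : {x : X | x * x = 1}.ncard ≤ 4) :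
    Group.IsSolvable (MulAut X) := by
  let Y := centralizer {x : X | x * x = 1}
  haveI : Y.Characteristic := characteristic_iff_le_comap.mpr fun φ x hx v hv => by
    have := congrArg φ (hx (φ.symm v) (by
      show φ.symm v * φ.symm v = 1
      rw [← map_mul, show v * v = 1 from hv, map_one]))
    simpa using this
  refine red Y (fun α m hm hα hY => MulEquiv.ext fun x => Inv.Tri.odd_fix h2 hm hα (hY _ fun v hv => ?_))
    (solv_of_central (h2.to_subgroup Y) (fun x hx => mem_center_iff.mpr fun g => Subtype.ext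
      (g.2 x (congrArg Subtype.val hx)).symm) ?_)
  · have h1 : α v = v := hY v fun w hw => hc w v hw hv
    have h3 : α (x * v * x⁻¹) = x * v * x⁻¹ := hY _ fun w hw => hc w _ hw (by
      calc x * v * x⁻¹ * (x * v * x⁻¹) = x * (v * v) * x⁻¹ := by group
        _ = 1 := by rw [show v * v = 1 from hv]; group)
    rw [map_mul, map_mul, map_inv, h1] at h3
    calc v * (x⁻¹ * α x) = x⁻¹ * (x * v * x⁻¹) * α x := by group
      _ = _ := by rw [← h3]; group
  · refine le_trans (Set.ncard_le_ncard_of_injOn (fun x : Y => (x : X)) (fun x hx => ?_)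
      (fun _ _ _ _ e => Subtype.ext e) (Set.toFinite _)) hle
    exact congrArg Subtype.val hx

end Cfsg.Agent.Gp.Three
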